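import Cfsg.Agent.H278.ElDefs
import Cfsg.Agent.Prune
set_option linter.all false
prune_inst 0x7f00000000000000000000000000000000000000000000000000000000000000000000000000000000000000000000000000000000000000000000000000000000000000000000000000000000000000003fffffffffffffffffffffffffffbeffbdffffffff
open scoped Cfsg.Agent.FastGrp

/-!
# Subgroups missing an automorphism class or an element order (helper938, for S2498 and S2528)

* `Miss T M`   : some element of `T` has no automorphic image in `M`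
* `OrdGap T M` : some element order of `T` is not an element order of `M`
* `PGap T M`   : some prime divides `|T|` but not `|M|`

`PGap → OrdGap → Miss`, `PGap → Der → Miss`.
-/

set_option autoImplicit false

namespace Cfsg.Agent.H938.Sax

open Cfsg.Agent.H396

/-- some element has no automorphic image in `M` -/
def Miss (T : Type*) [Group T] (M : Subgroup T) : Prop :=
  ∃ g : T, ∀ φ : T ≃* T, φ g ∉ M

/-- some element order is missing in `M` -/
def OrdGap (T : Type*) [Group T] (M : Subgroup T) : Prop :=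
  ∃ g : T, ∀ m ∈ M, orderOf m ≠ orderOf g

/-- some prime divisor is missing in `M` -/
def PGap (T : Type*) [Group T] (M : Subgroup T) : Prop :=
  ∃ r : ℕ, r.Prime ∧ r ∣ Nat.card T ∧ ¬ r ∣ Nat.card M

theorem orderOf_mulEquiv {T S : Type*} [Group T] [Group S] (φ : T ≃* S) (g : T) :
    orderOf (φ g) = orderOf g :=
  orderOf_injective φ.toMonoidHom φ.injective g

section

variable {T : Type*} [Group T] {M : Subgroup T}

theorem OrdGap.miss (h : OrdGap T M) : Miss T M := by
  obtain ⟨g, hg⟩ := h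
  exact ⟨g, fun φ hφ => hg _ hφ (orderOf_mulEquiv φ g)⟩

theorem PGap.ordGap [Finite T] (h : PGap T M) : OrdGap T M := by
  obtain ⟨r, hr, h1, h2⟩ := h
  have := Fact.mk hr
  obtain ⟨g, hg⟩ := exists_prime_orderOf_dvd_card' r h1
  refine ⟨g, fun m hm ho => h2 ?_⟩
  have h3 : orderOf (⟨m, hm⟩ : M) = r := by
    rw [← hg, ← ho, ← Subgroup.orderOf_coe]
  rw [← h3]
  exact orderOf_dvd_natCard _

theorem Miss.of_der (h : Der T M) : Miss T M := by
  obtain ⟨g, -, hg⟩ := h
  exact ⟨g, hg⟩

theorem PGap.der [Finite T] (h : PGap T M) : Der T M := by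
  obtain ⟨r, hr, h1, h2⟩ := h
  exact der_of_prime hr h1 h2

theorem Miss.mono {K : Subgroup T} (h : Miss T K) (hMK : M ≤ K) : Miss T M := by
  obtain ⟨g, hg⟩ := h
  exact ⟨g, fun φ hφ => hg φ (hMK hφ)⟩

theorem OrdGap.mono {K : Subgroup T} (h : OrdGap T K) (hMK : M ≤ K) : OrdGap T M := by
  obtain ⟨g, hg⟩ := h
  exact ⟨g, fun m hm => hg m (hMK hm)⟩

/-- an order of `T` divides no element order ... : if `N` is an order of `T` and not of `M` -/
theorem ordGap_of {g : T} {N : ℕ} (hg : orderOf g = N) (h : ∀ m ∈ M, orderOf m ≠ N) : OrdGap T M :=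
  ⟨g, fun m hm => by rw [hg]; exact h m hm⟩

theorem exists_order_of_not_ordGap (h : ¬ OrdGap T M) (g : T) : ∃ m ∈ M, orderOf m = orderOf g := by
  by_contra hn
  push Not at hn
  exact h ⟨g, hn⟩

theorem dvd_card_of_not_ordGap (h : ¬ OrdGap T M) (g : T) : orderOf g ∣ Nat.card M := by
  obtain ⟨m, hm, ho⟩ := exists_order_of_not_ordGap h g
  rw [← ho, ← Subgroup.orderOf_mk m hm]
  exact orderOf_dvd_natCard _

theorem prime_dvd_of_not_ordGap [Finite T] (h : ¬ OrdGap T M) {p : ℕ} (hp : p.Prime)
    (hd : p ∣ Nat.card T) : p ∣ Nat.card M := by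
  by_contra hn
  exact h (PGap.ordGap ⟨p, hp, hd, hn⟩)

end

section congr

variable {T S : Type*} [Group T] [Group S]

theorem Miss.congr {K : Subgroup S} (e : T ≃* S) (h : Miss T (K.comap e.toMonoidHom)) : Miss S K := by
  obtain ⟨g, hg⟩ := h
  refine ⟨e g, fun φ hφ => hg ((e.trans φ).trans e.symm) ?_⟩
  simpa using hφ

theorem OrdGap.congr {K : Subgroup S} (e : T ≃* S) (h : OrdGap T (K.comap e.toMonoidHom)) :
    OrdGap S K := by
  obtain ⟨g, hg⟩ := h
  refine ⟨e g, fun m hm ho => hg (e.symm m) (by simpa using hm) ?_⟩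
  rw [orderOf_mulEquiv, ho, orderOf_mulEquiv]

theorem card_comap (e : T ≃* S) (K : Subgroup S) :
    Nat.card (K.comap e.toMonoidHom) = Nat.card K :=
  Nat.card_congr (e.subgroupMap _ |>.toEquiv.trans (MulEquiv.subgroupCongr
    (Subgroup.map_comap_eq_self_of_surjective (f := e.toMonoidHom) e.surjective K)).toEquiv)

theorem PGap.congr {K : Subgroup S} (e : T ≃* S) (h : PGap T (K.comap e.toMonoidHom)) :
    PGap S K := by
  obtain ⟨r, hr, h1, h2⟩ := h
  refine ⟨r, hr, ?_, ?_⟩
  · rwa [← Nat.card_congr e.toEquiv]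
  · rwa [← card_comap e K]

end congr

/-- all maximal subgroups have an order gap -/
def OGMax (T : Type*) [Group T] : Prop := ∀ M : Subgroup T, IsCoatom M → OrdGap T M

/-- all maximal subgroups miss an automorphism class -/
def MissMax (T : Type*) [Group T] : Prop := ∀ M : Subgroup T, IsCoatom M → Miss T M

theorem OGMax.missMax {T : Type*} [Group T] (h : OGMax T) : MissMax T := fun M hM => (h M hM).miss

theorem MissMax.of_clMaxA {T : Type*} [Group T] (h : Cfsg.Agent.H278.El.ClMaxA T) : MissMax T :=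
  fun M hM => Miss.of_der (h M hM)

theorem OGMax.congr {T S : Type*} [Group T] [Group S] (e : T ≃* S) (h : OGMax T) : OGMax S :=
  fun _ hM => (h _ (Cfsg.Agent.H278.El.isCoatom_comap e hM)).congr e

theorem MissMax.congr {T S : Type*} [Group T] [Group S] (e : T ≃* S) (h : MissMax T) : MissMax S :=
  fun _ hM => (h _ (Cfsg.Agent.H278.El.isCoatom_comap e hM)).congr e

theorem OGMax.ordGap {T : Type*} [Group T] [Finite T] (h : OGMax T) (M : Subgroup T) (hM : M ≠ ⊤) :
    OrdGap T M := by
  obtain ⟨K, hK, hMK⟩ := (eq_top_or_exists_le_coatom M).resolve_left hM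
  exact (h K hK).mono hMK

theorem MissMax.miss {T : Type*} [Group T] [Finite T] (h : MissMax T) (M : Subgroup T) (hM : M ≠ ⊤) :
    Miss T M := by
  obtain ⟨K, hK, hMK⟩ := (eq_top_or_exists_le_coatom M).resolve_left hM
  exact (h K hK).mono hMK

/-- the orders of a section are orders of the group -/
theorem not_ordGap_of_range {G : Type*} [Group G] [Finite G] (L : Subgroup G) (K : Subgroup ↥L) [K.Normal]
    (h : Set.range (orderOf : (↥L ⧸ K) → ℕ) = Set.range (orderOf : G → ℕ)) : ¬ OrdGap G L := by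
  rintro ⟨g, hg⟩
  have h1 : orderOf g ∈ Set.range (orderOf : (↥L ⧸ K) → ℕ) := by rw [h]; exact ⟨g, rfl⟩
  obtain ⟨x, hx⟩ := h1
  obtain ⟨y, rfl⟩ := QuotientGroup.mk_surjective x
  have h2 : orderOf g ∣ orderOf y := by
    rw [← hx]
    exact orderOf_map_dvd (QuotientGroup.mk' K) y
  have hy : 0 < orderOf y := orderOf_pos y
  have hgp : 0 < orderOf g := orderOf_pos g
  have h3 : orderOf (y ^ (orderOf y / orderOf g)) = orderOf g := by
    rw [orderOf_pow_of_dvd (by
      have := Nat.div_pos (Nat.le_of_dvd hy h2) hgp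
      omega) (Nat.div_dvd_of_dvd h2)]
    exact Nat.div_div_self h2 hy.ne'
  exact hg _ (y ^ (orderOf y / orderOf g)).2 (by rw [Subgroup.orderOf_coe, h3])

/-- the conclusion of S2528 without exceptions -/
theorem section_of_ogMax {G : Type*} [Group G] [Finite G] [IsSimpleGroup G] (hG : OGMax G)
    (L : Subgroup G) (K : Subgroup ↥L) [hK : K.Normal]
    (h : Set.range (orderOf : (↥L ⧸ K) → ℕ) = Set.range (orderOf : G → ℕ)) : K = ⊥ ∧ L = ⊤ := by
  have hL : L = ⊤ := by
    by_contra hne
    exact not_ordGap_of_range L K h (hG.ordGap L hne)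
  refine ⟨?_, hL⟩
  subst hL
  have h1 : (K.map (Subgroup.topEquiv (G := G)).toMonoidHom).Normal :=
    hK.map _ (Subgroup.topEquiv (G := G)).surjective
  rcases h1.eq_bot_or_eq_top with h2 | h2
  · rwa [Subgroup.map_eq_bot_iff_of_injective _ (Subgroup.topEquiv (G := G)).injective] at h2
  · exfalso
    have h3 : K = ⊤ := by
      rw [eq_top_iff]
      intro x _
      have : (Subgroup.topEquiv (G := G)) x ∈ K.map (Subgroup.topEquiv (G := G)).toMonoidHom := by
        rw [h2]; trivial
      obtain ⟨y, hy, hyx⟩ := this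
      have : y = x := (Subgroup.topEquiv (G := G)).injective hyx
      rwa [← this]
    subst h3
    obtain ⟨g, hg⟩ := exists_ne (1 : G)
    have h4 : orderOf g ∈ Set.range (orderOf : (↥(⊤ : Subgroup G) ⧸ (⊤ : Subgroup ↥(⊤ : Subgroup G))) → ℕ) := by
      rw [h]; exact ⟨g, rfl⟩
    obtain ⟨x, hx⟩ := h4
    have h5 : x = 1 := by
      obtain ⟨y, rfl⟩ := QuotientGroup.mk_surjective x
      exact (QuotientGroup.eq_one_iff y).2 (Subgroup.mem_top y)
    rw [h5, orderOf_one] at hx
    exact hg (orderOf_eq_one_iff.1 hx.symm)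

end Cfsg.Agent.H938.Sax
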