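import Cfsg.Agent.H884.ElRows_m3
import Cfsg.Agent.H938.Sax.Base
import Cfsg.Agent.H377.OddThree_m3
import Cfsg.Agent.H72.Task106
import Cfsg.Agent.H884.ElO8
import Cfsg.Agent.S2585
import Cfsg.Agent.H390.Cocl
import Cfsg.Agent.Prune
set_option linter.all false
prune_inst 0x7f00000000000000000000000000000000000000000000000000000000000000000000000000000000000000000000000000000000000000000000000000000000000000000000000000000000000000003fffffffffffffffffffffffffffaeffbdffffffff
open scoped Cfsg.Agent.FastGrp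

-- part: H938/Sax/Typ
section
/-!
# Commuting isometries of primitive prime orders and the type of the form (helper938)

`x`, `y` commuting isometries of prime orders `s`, `r`, with `ord_s(q) = 2b`, `ord_r(q) = 2a`, `dim V < 4b`, and
(`a ∤ b` or `b / a` even): then `[V,x] ≤ C_V(y)`, `2a + 2b ≤ dim V`, and if equality holds then `V` has plus type
and `C_V(x) ∩ C_V(y) = 0`.
-/

set_option autoImplicit false

namespace Cfsg.Agent.H938.Sax.Typ

open Module QuadraticMap Cfsg.Agent.LieClassical.OrthCore Cfsg.Agent.H955 Cfsg.Agent.H954.TSing Cfsg.Agent.H884.El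
open Cfsg.Agent.H951 (fx cm Inv)

universe u v

variable {F : Type u} [Field F] [Fintype F] {V : Type v} [AddCommGroup V] [Module F V] [FiniteDimensional F V]
  {Q : QuadraticForm F V} {x y : Module.End F V} {r s e a b : ℕ}

/-- type of an invariant subspace without fixed vectors -/
theorem isPlus_res_iff (h : Iso Q x r) (hr : PP (Nat.card F) e r) (he : Even e) {W : Submodule F V}
    (hW : _root_.Cfsg.Agent.H951.Inv x W) (hWn : Nondeg (res Q W)) (h0 : W ⊓ fx x = ⊥) {A : ℕ} (hA : finrank F W = e * A) :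
    IsPlus (res Q W) ↔ Even A := by
  have := Fact.mk h.prime
  refine isPlus_iff_even hWn (x := x.restrict hW) h.two_lt h.ne0 (fun v => h.iso v) ?_ ?_ (ord_eq hr) he hA
  · refine LinearMap.ext fun v => Subtype.ext ?_
    rw [restrict_pow_coe, h.pow]; rfl
  · intro v hv
    apply Subtype.ext
    show (v : V) = 0
    rw [← Submodule.mem_bot F, ← h0]
    exact ⟨v.2, H951.mem_fx.2 (congrArg Subtype.val hv)⟩

omit [Fintype F] [FiniteDimensional F V] in
theorem inv_cm_of_comm (hxy : x * y = y * x) : _root_.Cfsg.Agent.H951.Inv y (cm x) := by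
  intro w hw
  obtain ⟨v, rfl⟩ := H951.mem_cm.1 hw
  refine H951.mem_cm.2 ⟨y v, ?_⟩
  have h1 : x (y v) = y (x v) := congrArg (fun z : Module.End F V => z v) hxy
  rw [h1, map_sub]

omit [Fintype F] [FiniteDimensional F V] in
theorem inv_fx_of_comm (hxy : x * y = y * x) : _root_.Cfsg.Agent.H951.Inv y (fx x) := by
  intro w hw
  rw [H951.mem_fx] at hw ⊢
  have h1 : x (y w) = y (x w) := congrArg (fun z : Module.End F V => z w) hxy
  rw [h1, hw]

theorem finrank_cm_eq (hx : Iso Q x s) (hs : PP (Nat.card F) (2 * b) s) (hx1 : x ≠ 1)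
    (hd : finrank F V < 4 * b) : finrank F (cm x) = 2 * b := by
  obtain ⟨A, hA⟩ := hx.dvd_cm hs
  have h2 : finrank F (cm x) ≤ finrank F V := Submodule.finrank_le _
  have h3 : finrank F (cm x) ≠ 0 := fun h0 => cm_ne_bot hx1 (Submodule.finrank_eq_zero.1 h0)
  have hA1 : A = 1 := by
    have h4 : A < 2 := by
      by_contra hcon
      push Not at hcon
      have := Nat.mul_le_mul_left (2 * b) hcon
      omega
    have h5 : A ≠ 0 := by rintro rfl; omega
    omega
  rw [hA, hA1, mul_one]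

/-- an invariant subspace of `[V, x]` of both `x` and `y` -/
theorem inf_cm_cases (hx : Iso Q x s) (hs : PP (Nat.card F) (2 * b) s) (hb : finrank F (cm x) = 2 * b)
    {W : Submodule F V} (hW : _root_.Cfsg.Agent.H951.Inv x W) (hWx : W ≤ cm x) : W = ⊥ ∨ W = cm x := by
  have h1 : 2 * b ∣ finrank F W := by
    have := hx.dvd hs hW
    rwa [inf_eq_left.2 hWx] at this
  have h2 : finrank F W ≤ 2 * b := by rw [← hb]; exact Submodule.finrank_mono hWx
  rcases Nat.eq_zero_or_pos (finrank F W) with h0 | hpos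
  · exact Or.inl (Submodule.finrank_eq_zero.1 h0)
  · right
    have h3 := Nat.le_of_dvd hpos h1
    exact Submodule.eq_of_le_of_finrank_eq hWx (by omega)

theorem key (hQ : Nondeg Q) (hx : Iso Q x s) (hy : Iso Q y r) (hxy : x * y = y * x)
    (hs : PP (Nat.card F) (2 * b) s) (hr : PP (Nat.card F) (2 * a) r)
    (hb : finrank F (cm x) = 2 * b) (hab : a ∣ b → Even (b / a)) : cm x ≤ fx y := by
  have hWi : _root_.Cfsg.Agent.H951.Inv x (cm x ⊓ cm y) := (H951.inv_cm).inf (inv_cm_of_comm hxy.symm)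
  rcases inf_cm_cases hx hs hb hWi inf_le_left with h | h
  · have h5 := H951.inf_fx_sup_inf_cm hy.ne0 hy.pow (inv_cm_of_comm hxy)
    rw [h, sup_bot_eq] at h5
    rw [← h5]
    exact inf_le_right
  · exfalso
    have h1 : cm x ≤ cm y := inf_eq_left.1 h
    have hx0 : cm x ⊓ fx y = ⊥ := H951.inf_fx_of_le_cm hy.ne0 hy.pow h1
    have h2 : 2 * a ∣ 2 * b := by
      have := hy.dvd hr (inv_cm_of_comm hxy)
      rwa [h, hb] at this
    have h3 : a ∣ b := (Nat.mul_dvd_mul_iff_left (by norm_num)).1 h2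
    have hnd := nondeg_cm hQ hx.iso hx.ne0 hx.pow
    have h4 := isPlus_res_iff hy hr (even_two_mul a) (inv_cm_of_comm hxy) hnd hx0 (A := b / a) (by
      rw [hb, mul_assoc, Nat.mul_div_cancel' h3])
    have h5 := isPlus_res_iff hx hs (even_two_mul b) H951.inv_cm hnd
      (H951.inf_fx_of_le_cm hx.ne0 hx.pow le_rfl) (A := 1) (by rw [hb, mul_one])
    have h6 := h5.1 (h4.2 (hab h3))
    exact absurd h6 (by decide)

omit [Fintype F] in
theorem cm_le_fx (hQ : Nondeg Q) (hx : Iso Q x s) (hy : Iso Q y r) (h : cm x ≤ fx y) : cm y ≤ fx x := by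
  rw [← perp_fx hQ hy.iso hy.ne0 hy.pow, ← perp_cm hQ hx.iso hx.ne0 hx.pow]
  exact perp_anti h

theorem le_finrank (hQ : Nondeg Q) (hx : Iso Q x s) (hy : Iso Q y r) (hr : PP (Nat.card F) (2 * a) r)
    (hb : finrank F (cm x) = 2 * b) (hy1 : y ≠ 1) (h : cm x ≤ fx y) : 2 * a + 2 * b ≤ finrank F V := by
  have h1 := cm_le_fx hQ hx hy h
  have h2 := hx.finrank_add
  have h3 : finrank F (cm y) ≤ finrank F (fx x) := Submodule.finrank_mono h1
  have h4 := hy.dvd_cm hr
  have h5 : finrank F (cm y) ≠ 0 := fun h0 => cm_ne_bot hy1 (Submodule.finrank_eq_zero.1 h0)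
  have := Nat.le_of_dvd (Nat.pos_of_ne_zero h5) h4
  omega

theorem fx_eq (hQ : Nondeg Q) (hx : Iso Q x s) (hy : Iso Q y r) (hr : PP (Nat.card F) (2 * a) r)
    (hb : finrank F (cm x) = 2 * b) (hy1 : y ≠ 1) (h : cm x ≤ fx y) (hd : finrank F V = 2 * a + 2 * b) :
    cm y = fx x ∧ finrank F (cm y) = 2 * a := by
  have h1 := cm_le_fx hQ hx hy h
  have h2 := hx.finrank_add
  have h3 : finrank F (cm y) ≤ finrank F (fx x) := Submodule.finrank_mono h1
  have h4 := hy.dvd_cm hr
  have h5 : finrank F (cm y) ≠ 0 := fun h0 => cm_ne_bot hy1 (Submodule.finrank_eq_zero.1 h0)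
  have := Nat.le_of_dvd (Nat.pos_of_ne_zero h5) h4
  exact ⟨Submodule.eq_of_le_of_finrank_eq h1 (by omega), by omega⟩

theorem isPlus_of (hQ : Nondeg Q) (hx : Iso Q x s) (hy : Iso Q y r) (hs : PP (Nat.card F) (2 * b) s)
    (hr : PP (Nat.card F) (2 * a) r) (hb : finrank F (cm x) = 2 * b) (hy1 : y ≠ 1) (h : cm x ≤ fx y)
    (hd : finrank F V = 2 * a + 2 * b) : IsPlus Q := by
  have := Fact.mk hx.prime
  obtain ⟨h1, h2⟩ := fx_eq hQ hx hy hr hb hy1 h hd
  have h3 := isPlus_fx_iff hx.two_lt hQ (by rw [hd]; exact ⟨a + b, by ring⟩) hx.iso hx.ne0 hx.pow (ord_eq hs)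
    (even_two_mul b) (A := 1) (by rw [hb, mul_one])
  have h4 := isPlus_res_iff hy hr (even_two_mul a) H951.inv_cm (nondeg_cm hQ hy.iso hy.ne0 hy.pow)
    (H951.inf_fx_of_le_cm hy.ne0 hy.pow le_rfl) (A := 1) (by rw [h2, mul_one])
  rw [← h1, h4] at h3
  have h5 : ¬ Even 1 := by decide
  (clear * - h3; tauto)

theorem fix_zero (hQ : Nondeg Q) (hx : Iso Q x s) (hy : Iso Q y r) (hr : PP (Nat.card F) (2 * a) r)
    (hb : finrank F (cm x) = 2 * b) (hy1 : y ≠ 1) (h : cm x ≤ fx y) (hd : finrank F V = 2 * a + 2 * b)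
    {v : V} (hv : x v = v) (hv' : y v = v) : v = 0 := by
  obtain ⟨h1, -⟩ := fx_eq hQ hx hy hr hb hy1 h hd
  rw [← Submodule.mem_bot F, ← (H951.isCompl_fx_cm hy.ne0 hy.pow).inf_eq_bot]
  exact ⟨H951.mem_fx.2 hv', by rw [h1]; exact H951.mem_fx.2 hv⟩

/-! ### the group `O_16(2)` and elements of order `99` -/

theorem nine_perm {X : Type*} [Fintype X] [DecidableEq X] (σ : Equiv.Perm X) (h9 : σ ^ 9 = 1)
    (h3 : ∀ x, (σ ^ 3) x ≠ x) : 9 ∣ Fintype.card X := by
  have hsup : σ.support = Finset.univ := by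
    ext x
    simp only [Equiv.Perm.mem_support, Finset.mem_univ, iff_true]
    intro h
    exact h3 x (Equiv.Perm.pow_apply_eq_self_of_apply_eq_self h 3)
  rw [← Finset.card_univ, ← hsup, ← Equiv.Perm.sum_cycleType]
  apply Multiset.dvd_sum
  intro c hc
  have h1 : c ∣ 9 := (Equiv.Perm.dvd_of_mem_cycleType hc).trans (orderOf_dvd_of_pow_eq_one h9)
  obtain ⟨d, τ, hσ, hd, hcyc, hcard⟩ := Equiv.Perm.mem_cycleType_iff.1 hc
  have h4 : ¬ c ∣ 3 := by
    intro h
    obtain ⟨x, hx⟩ : d.support.Nonempty := by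
      rw [← Finset.card_pos, hcard]
      exact lt_of_lt_of_le two_pos (Equiv.Perm.two_le_of_mem_cycleType hc)
    apply h3 x
    have h8 : τ x = x := (hd x).resolve_left (Equiv.Perm.mem_support.1 hx)
    have h9' : d ^ 3 = 1 := by
      apply orderOf_dvd_iff_pow_eq_one.1
      rw [hcyc.orderOf, hcard]
      exact h
    rw [hσ, hd.commute.mul_pow, Equiv.Perm.mul_apply, Equiv.Perm.pow_apply_eq_self_of_apply_eq_self h8, h9']
    rfl
  have h5 : c ≤ 9 := Nat.le_of_dvd (by norm_num) h1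
  interval_cases c <;> first | decide | (exact absurd h1 (by decide)) | (exact absurd (by decide) h4)

/-- an element `y` of order nine acting without `y ^ 3`-fixed vectors -/
theorem nine_dvd {W : Submodule F V} (hW : _root_.Cfsg.Agent.H951.Inv y W) (h9 : y ^ 9 = 1) (h0 : W ⊓ fx (y ^ 3) = ⊥) :
    9 ∣ Nat.card W - 1 := by
  classical
  have hfin : Finite V := Module.finite_of_finite F
  have hpow : ∀ n : ℕ, ∀ w ∈ W, (y ^ n) w ∈ W := by
    intro n
    induction n with
    | zero => intro w hw; exact hw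
    | succ n ih =>
      intro w hw
      rw [pow_succ, Module.End.mul_apply]
      exact ih _ (hW w hw)
  have h81 : ∀ w : V, (y ^ 8) (y w) = w := fun w => by
    rw [← Module.End.mul_apply, ← pow_succ, h9]; rfl
  have h18 : ∀ w : V, y ((y ^ 8) w) = w := fun w => by
    rw [← Module.End.mul_apply, ← pow_succ', h9]; rfl
  let X := {w : V // w ∈ W ∧ w ≠ 0}
  have hfX : Fintype X := Fintype.ofFinite X
  let σ : Equiv.Perm X :=
    { toFun := fun w => ⟨y w.1, hW _ w.2.1, fun h => w.2.2 (by rw [← h81 w.1, h, map_zero])⟩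
      invFun := fun w => ⟨(y ^ 8) w.1, hpow 8 _ w.2.1, fun h => w.2.2 (by rw [← h18 w.1, h, map_zero])⟩
      left_inv := fun w => Subtype.ext (h81 w.1)
      right_inv := fun w => Subtype.ext (h18 w.1) }
  have hσ : ∀ (n : ℕ) (w : X), ((σ ^ n) w).1 = (y ^ n) w.1 := by
    intro n
    induction n with
    | zero => intro w; rfl
    | succ n ih =>
      intro w
      rw [pow_succ, Equiv.Perm.mul_apply, ih, pow_succ, Module.End.mul_apply]
      rfl
  have h1 := nine_perm σ (by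
    ext w : 1
    apply Subtype.ext
    rw [hσ, h9]
    rfl) (by
    intro w hw
    apply w.2.2
    rw [← Submodule.mem_bot F, ← h0]
    refine ⟨w.2.1, H951.mem_fx.2 ?_⟩
    rw [← hσ, hw])
  have h2 : Fintype.card X = Nat.card W - 1 := by
    have h3 : Nat.card X = Nat.card {w : W // w ≠ 0} := Nat.card_congr
      { toFun := fun w => ⟨⟨w.1, w.2.1⟩, fun h => w.2.2 (congrArg Subtype.val h)⟩
        invFun := fun w => ⟨w.1.1, w.1.2, fun h => w.2 (Subtype.ext h)⟩
        left_inv := fun _ => rfl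
        right_inv := fun _ => rfl }
    have : Fintype W := Fintype.ofFinite W
    rw [← Nat.card_eq_fintype_card, h3, Nat.card_eq_fintype_card, Fintype.card_subtype_compl,
      Fintype.card_subtype_eq, Nat.card_eq_fintype_card]
  rwa [h2] at h1

omit [Field F] in
theorem pp_ten (hF : Fintype.card F = 2) : PP (Nat.card F) (2 * 5) 11 := ⟨by norm_num, by
  rw [Nat.card_eq_fintype_card, hF]
  refine (orderOf_eq_iff (by norm_num)).2 ⟨by decide, fun m hm hm0 => ?_⟩
  interval_cases m <;> decide⟩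

omit [Field F] in
theorem pp_two (hF : Fintype.card F = 2) : PP (Nat.card F) (2 * 1) 3 := ⟨by norm_num, by
  rw [Nat.card_eq_fintype_card, hF]
  refine (orderOf_eq_iff (by norm_num)).2 ⟨by decide, fun m hm hm0 => ?_⟩
  interval_cases m <;> decide⟩

/-- the case of order `99` over the field of two elements -/
theorem nine (hF : Fintype.card F = 2) (hx : Iso Q x 11) (hy : Iso Q (y ^ 3) 3) (h9 : y ^ 9 = 1)
    (hx1 : x ≠ 1) (hxy : x * y = y * x) (hd : finrank F V < 20) :
    cm x ≤ fx (y ^ 3) ∧ finrank F (cm x) = 2 * 5 ∧ 6 ∣ finrank F (cm (y ^ 3)) := by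
  have hF' : Nat.card F = 2 := by rw [Nat.card_eq_fintype_card, hF]
  have hs := pp_ten hF
  have hxy3 : x * y ^ 3 = y ^ 3 * x := (Commute.pow_right (show Commute x y from hxy) 3)
  have hb : finrank F (cm x) = 2 * 5 := finrank_cm_eq (b := 5) hx hs hx1 (by omega)
  have hcard : ∀ W : Submodule F V, Nat.card W = 2 ^ finrank F W := fun W => by
    rw [Module.natCard_eq_pow_finrank (K := F), hF']
  refine ⟨?_, hb, ?_⟩
  · have hWi : _root_.Cfsg.Agent.H951.Inv x (cm x ⊓ cm (y ^ 3)) := (H951.inv_cm).inf (inv_cm_of_comm hxy3.symm)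
    rcases inf_cm_cases (b := 5) hx hs hb hWi inf_le_left with h | h
    · have h5 := H951.inf_fx_sup_inf_cm hy.ne0 hy.pow (inv_cm_of_comm hxy3)
      rw [h, sup_bot_eq] at h5
      rw [← h5]
      exact inf_le_right
    · exfalso
      have h1 : cm x ≤ cm (y ^ 3) := inf_eq_left.1 h
      have h2 := nine_dvd (inv_cm_of_comm hxy) h9 (H951.inf_fx_of_le_cm hy.ne0 hy.pow h1)
      rw [hcard, hb] at h2
      exact absurd h2 (by decide)
  · have hyc : y ^ 3 * y = y * y ^ 3 := by rw [← pow_succ, ← pow_succ']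
    have h2 := nine_dvd (inv_cm_of_comm hyc) h9 (H951.inf_fx_of_le_cm hy.ne0 hy.pow le_rfl)
    rw [hcard] at h2
    have h3 : ∀ n < 20, 9 ∣ 2 ^ n - 1 → 6 ∣ n := by decide
    exact h3 _ (lt_of_le_of_lt (Submodule.finrank_le _) hd) h2

theorem nine_le (hF : Fintype.card F = 2) (hQ : Nondeg Q) (hx : Iso Q x 11) (hy : Iso Q (y ^ 3) 3) (h9 : y ^ 9 = 1)
    (hx1 : x ≠ 1) (hy1 : y ^ 3 ≠ 1) (hxy : x * y = y * x) : 16 ≤ finrank F V := by
  by_contra hlt
  obtain ⟨h, hb, h6⟩ := nine hF hx hy h9 hx1 hxy (by omega)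
  have h1 := cm_le_fx hQ hx hy h
  have h2 := hx.finrank_add
  have h3 : finrank F (cm (y ^ 3)) ≤ finrank F (fx x) := Submodule.finrank_mono h1
  have h5 : finrank F (cm (y ^ 3)) ≠ 0 := fun h0 => cm_ne_bot hy1 (Submodule.finrank_eq_zero.1 h0)
  have := Nat.le_of_dvd (Nat.pos_of_ne_zero h5) h6
  omega

theorem nine_eq (hF : Fintype.card F = 2) (hQ : Nondeg Q) (hx : Iso Q x 11) (hy : Iso Q (y ^ 3) 3) (h9 : y ^ 9 = 1)
    (hx1 : x ≠ 1) (hy1 : y ^ 3 ≠ 1) (hxy : x * y = y * x) (hd : finrank F V = 16) :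
    cm (y ^ 3) = fx x ∧ finrank F (cm (y ^ 3)) = 6 ∧ finrank F (cm x) = 2 * 5 := by
  obtain ⟨h, hb, h6⟩ := nine hF hx hy h9 hx1 hxy (by omega)
  have h1 := cm_le_fx hQ hx hy h
  have h2 := hx.finrank_add
  have h3 : finrank F (cm (y ^ 3)) ≤ finrank F (fx x) := Submodule.finrank_mono h1
  have h5 : finrank F (cm (y ^ 3)) ≠ 0 := fun h0 => cm_ne_bot hy1 (Submodule.finrank_eq_zero.1 h0)
  have := Nat.le_of_dvd (Nat.pos_of_ne_zero h5) h6
  exact ⟨Submodule.eq_of_le_of_finrank_eq h1 (by omega), by omega, hb⟩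

theorem nine_isPlus (hF : Fintype.card F = 2) (hQ : Nondeg Q) (hx : Iso Q x 11) (hy : Iso Q (y ^ 3) 3) (h9 : y ^ 9 = 1)
    (hx1 : x ≠ 1) (hy1 : y ^ 3 ≠ 1) (hxy : x * y = y * x) (hd : finrank F V = 16) : IsPlus Q := by
  have := Fact.mk hx.prime
  obtain ⟨h1, h2, hb⟩ := nine_eq hF hQ hx hy h9 hx1 hy1 hxy hd
  have h3 := isPlus_fx_iff hx.two_lt hQ (by rw [hd]; decide) hx.iso hx.ne0 hx.pow (ord_eq (pp_ten hF))
    (even_two_mul 5) (A := 1) (by rw [hb, mul_one])
  have h4 := isPlus_res_iff hy (pp_two hF) (even_two_mul 1) H951.inv_cm (nondeg_cm hQ hy.iso hy.ne0 hy.pow)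
    (H951.inf_fx_of_le_cm hy.ne0 hy.pow le_rfl) (A := 3) (by rw [h2])
  rw [← h1, h4] at h3
  have h5 : ¬ Even 1 := by decide
  have h6 : ¬ Even 3 := by decide
  (clear * - h3; tauto)

theorem nine_fix_zero (hF : Fintype.card F = 2) (hQ : Nondeg Q) (hx : Iso Q x 11) (hy : Iso Q (y ^ 3) 3)
    (h9 : y ^ 9 = 1) (hx1 : x ≠ 1) (hy1 : y ^ 3 ≠ 1) (hxy : x * y = y * x) (hd : finrank F V = 16)
    {v : V} (hv : x v = v) (hv' : (y ^ 3) v = v) : v = 0 := by
  obtain ⟨h1, -, -⟩ := nine_eq hF hQ hx hy h9 hx1 hy1 hxy hd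
  rw [← Submodule.mem_bot F, ← (H951.isCompl_fx_cm hy.ne0 hy.pow).inf_eq_bot]
  exact ⟨H951.mem_fx.2 hv', by rw [h1]; exact H951.mem_fx.2 hv⟩

end Cfsg.Agent.H938.Sax.Typ
end

-- part: H938/Sax/Num
section
/-!
# The element orders `r_{2k-2} r_{2k+2}` of the orthogonal groups of dimension `4k` and plus type (helper938)

`NumD q k N` : `N = r s` with `ord_r(q) = 2(k-1)`, `ord_s(q) = 2(k+1)`; `N = 99` for `q = 2`, `k = 4`.

Isometries of order `N` of a nondegenerate space of dimension `< 4k + 4` exist only in dimension `≥ 4k`, and in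
dimension `4k` only for plus type; they have no fixed vectors.
-/

set_option autoImplicit false

namespace Cfsg.Agent.H938.Sax

open Module QuadraticMap Cfsg.Agent.LieClassical.OrthCore Cfsg.Agent.H955 Cfsg.Agent.H954.TSing Cfsg.Agent.H884.El
open Cfsg.Agent.H951 (fx cm Inv)
open Cfsg.Agent.H377

universe u v

def NumD (q k N : ℕ) : Prop :=
  (q = 2 ∧ k = 4 ∧ N = 99) ∨ ∃ r s : ℕ, N = r * s ∧ PP q (2 * (k - 1)) r ∧ PP q (2 * (k + 1)) s

theorem exists_numD {q k : ℕ} (hq : 1 < q) (hk : 3 ≤ k) : ∃ N, NumD q k N := by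
  by_cases h : q = 2 ∧ k = 4
  · exact ⟨99, Or.inl ⟨h.1, h.2, rfl⟩⟩
  · obtain ⟨r, hr⟩ := exists_pp (q := q) (e := 2 * (k - 1)) hq (by omega) (by
      rintro ⟨h1, h2⟩
      exact h ⟨h1, by omega⟩)
    obtain ⟨s, hs⟩ := exists_pp (q := q) (e := 2 * (k + 1)) hq (by omega) (by omega)
    exact ⟨r * s, Or.inr ⟨r, s, rfl, hr, hs⟩⟩

theorem NumD.odd {q k N : ℕ} (h : NumD q k N) (hk : 3 ≤ k) : Odd N := by
  rcases h with ⟨-, -, rfl⟩ | ⟨r, s, rfl, hr, hs⟩
  · decide
  · exact (hr.odd (by omega)).mul (hs.odd (by omega))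

section

variable {F : Type u} [Field F] [Fintype F] {V : Type v} [AddCommGroup V] [Module F V] [FiniteDimensional F V]
  {Q : QuadraticForm F V} {g : Module.End F V} {k N : ℕ}

omit [Fintype F] [FiniteDimensional F V] in
theorem iso_pow (hg : ∀ v, Q (g v) = Q v) (n : ℕ) (v : V) : Q ((g ^ n) v) = Q v := by
  induction n generalizing v with
  | zero => rfl
  | succ n ih => rw [pow_succ, Module.End.mul_apply, ih, hg]

theorem lin_main (hk : 3 ≤ k) (hN : NumD (Nat.card F) k N) (hQ : Nondeg Q) (hg : ∀ v, Q (g v) = Q v)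
    (ho : orderOf g = N) (hd : finrank F V < 4 * (k + 1)) :
    4 * k ≤ finrank F V ∧ (finrank F V = 4 * k → IsPlus Q ∧ ∀ v, g v = v → v = 0) := by
  rcases hN with ⟨hq, rfl, rfl⟩ | ⟨r, s, rfl, hr, hs⟩
  · have hF : Fintype.card F = 2 := by rw [← Nat.card_eq_fintype_card, hq]
    have hg99 : g ^ 99 = 1 := by rw [← ho]; exact pow_orderOf_eq_one g
    have hne : ∀ n : ℕ, ¬ 99 ∣ n → g ^ n ≠ 1 := fun n hn h => hn (by rw [← ho]; exact orderOf_dvd_of_pow_eq_one h)
    have h3 : Fact (Nat.Prime 3) := ⟨by norm_num⟩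
    have hx : Iso Q (g ^ 9) 11 := Iso.mk' (Typ.pp_ten hF) (by omega) (by rw [← pow_mul, hg99]) (iso_pow hg 9)
    have hy : Iso Q ((g ^ 11) ^ 3) 3 := Iso.mk' (Typ.pp_two hF) (by omega) (by
      rw [← pow_mul, ← pow_mul, hg99]) (by rw [← pow_mul]; exact iso_pow hg _)
    have h9 : (g ^ 11) ^ 9 = 1 := by rw [← pow_mul, hg99]
    have hx1 : g ^ 9 ≠ 1 := hne 9 (by decide)
    have hy1 : (g ^ 11) ^ 3 ≠ 1 := by rw [← pow_mul]; exact hne 33 (by decide)
    have hxy : g ^ 9 * g ^ 11 = g ^ 11 * g ^ 9 := by rw [← pow_add, ← pow_add]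
    refine ⟨Typ.nine_le hF hQ hx hy h9 hx1 hy1 hxy, fun hd' => ⟨Typ.nine_isPlus hF hQ hx hy h9 hx1 hy1 hxy hd', ?_⟩⟩
    intro v hv
    refine Typ.nine_fix_zero hF hQ hx hy h9 hx1 hy1 hxy hd' (H951.pow_fx hv 9) ?_
    rw [← pow_mul]
    exact H951.pow_fx hv _
  · have hgrs : g ^ (r * s) = 1 := by rw [← ho]; exact pow_orderOf_eq_one g
    have hr0 := hr.prime.pos
    have hs0 := hs.prime.pos
    have hx : Iso Q (g ^ r) s := Iso.mk' hs (by omega) (by rw [← pow_mul, hgrs]) (iso_pow hg r)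
    have hy : Iso Q (g ^ s) r := Iso.mk' hr (by omega) (by rw [← pow_mul, mul_comm, hgrs]) (iso_pow hg s)
    have hx1 : g ^ r ≠ 1 := by
      intro h
      have h0 := orderOf_dvd_of_pow_eq_one h
      rw [ho] at h0
      have h1 := Nat.le_of_dvd hr0 h0
      have h2 : r * 2 ≤ r * s := Nat.mul_le_mul_left r hs.prime.two_le
      omega
    have hy1 : g ^ s ≠ 1 := by
      intro h
      have h0 := orderOf_dvd_of_pow_eq_one h
      rw [ho] at h0
      have h1 := Nat.le_of_dvd hs0 h0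
      have h2 : 2 * s ≤ r * s := Nat.mul_le_mul_right s hr.prime.two_le
      omega
    have hxy : g ^ r * g ^ s = g ^ s * g ^ r := by rw [← pow_add, ← pow_add, add_comm]
    have hab : (k - 1) ∣ (k + 1) → Even ((k + 1) / (k - 1)) := by
      intro h
      have h1 : k - 1 ∣ 2 := by
        have h2 : k + 1 = (k - 1) + 2 := by omega
        rw [h2] at h
        exact (Nat.dvd_add_right dvd_rfl).1 h
      have h2 := Nat.le_of_dvd (by norm_num) h1
      have h3 : k = 3 := by omega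
      subst h3
      decide
    have hb := Typ.finrank_cm_eq hx hs hx1 (by omega)
    have hkey := Typ.key hQ hx hy hxy hs hr hb hab
    have hle := Typ.le_finrank hQ hx hy hr hb hy1 hkey
    refine ⟨by omega, fun hd' => ?_⟩
    have hd2 : finrank F V = 2 * (k - 1) + 2 * (k + 1) := by omega
    refine ⟨Typ.isPlus_of hQ hx hy hs hr hb hy1 hkey hd2, fun v hv => ?_⟩
    exact Typ.fix_zero hQ hx hy hr hb hy1 hkey hd2 (H951.pow_fx hv r) (H951.pow_fx hv s)

end

/-! ### existence -/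

section ex

variable {F : Type u} [Field F] [Finite F] {k N : ℕ}

theorem dvd_pow_add_one {q e r : ℕ} (hq : 1 ≤ q) (he : 1 ≤ e) (h : PP q (2 * e) r) : r ∣ q ^ e + 1 := by
  have h1 : r ∣ q ^ (2 * e) - 1 := (h.dvd_iff hq _).2 dvd_rfl
  have h2 : q ^ (2 * e) - 1 = (q ^ e + 1) * (q ^ e - 1) := by
    rw [mul_comm 2 e, pow_mul]
    have := Nat.sq_sub_sq (q ^ e) 1
    rwa [one_pow] at this
  rw [h2] at h1
  rcases h.prime.dvd_mul.1 h1 with h3 | h3
  · exact h3
  · exfalso
    have h4 := (h.dvd_iff hq _).1 h3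
    have := Nat.le_of_dvd (by omega) h4
    omega

theorem elt_numD (hk : 3 ≤ k) (hN : NumD (Nat.card F) k N) : Elt F (2 * k) 1 N := by
  have hq : 1 < Nat.card F := Finite.one_lt_card
  rcases hN with ⟨hq2, rfl, rfl⟩ | ⟨r, s, rfl, hr, hs⟩
  · have h1 : Elt F 3 (-1) 9 := elt_tor_minus (by norm_num) (by rw [hq2]; norm_num)
    have h2 : Elt F 5 (-1) 11 := elt_tor_minus (by norm_num) (by rw [hq2]; norm_num)
    have h3 := h1.prod h2
    exact h3
  · have h1 : Elt F (k - 1) (-1) r := elt_tor_minus (by omega) (dvd_pow_add_one hq.le (by omega) hr)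
    have h2 : Elt F (k + 1) (-1) s := elt_tor_minus (by omega) (dvd_pow_add_one hq.le (by omega) hs)
    have h3 := h1.prod h2
    have hne : r ≠ s := hr.ne_of_ne hs (by omega)
    rw [show k - 1 + (k + 1) = 2 * k by omega, ((Nat.coprime_primes hr.prime hs.prime).2 hne).lcm_eq_mul] at h3
    exact h3

theorem exists_plus_numD (hk : 3 ≤ k) (hN : NumD (Nat.card F) k N) :
    ∃ g : Cfsg.POmega F (Cfsg.quadFormPlus (2 * k) F), orderOf g = N :=
  (Elt.two (by omega) (hN.odd hk) (elt_numD hk hN)).plus (by omega)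

theorem exists_psp_numD [CharP F 2] (hk : 3 ≤ k) (hN : NumD (Nat.card F) k N) :
    ∃ g : Cfsg.PSp (2 * k) F, orderOf g = N :=
  Cfsg.Agent.H72.AdjSp.of_elt (by omega) (elt_numD hk hN)

theorem exists_odd_numD (h2 : (2 : F) ≠ 0) (hk : 3 ≤ k) (hN : NumD (Nat.card F) k N) :
    ∃ g : Cfsg.POmega F (Cfsg.quadFormOdd (2 * k) F), orderOf g = N := by
  refine exists_odd_of_elt h2 (by omega) (elt_numD hk hN) fun j => ?_
  have ho : Nat.Coprime N 2 := Nat.coprime_two_right.2 (hN.odd hk)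
  exact ⟨fun h5 => ho.dvd_of_dvd_mul_left h5, fun h5 => Dvd.dvd.mul_left h5 2⟩

end ex

end Cfsg.Agent.H938.Sax
end

-- part: H938/Sax/OrthGap
section
/-!
# Groups without elements of order `N`, `NumD q k N` (helper938)

* `POmega^-_{4k}(q)`, `POmega_{4k-1}(q)`, `PSp_{4k-2}(q)` (`q` even);
* stabilisers of nonsingular points in `POmega^+_{4k}(q)` and `POmega_{4k+1}(q)`;
* `O(Q)`, `Q` of minus type, inside `PSp_{4k}(q)`, `q` even.
-/

set_option autoImplicit false
set_option linter.unusedSectionVars false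

namespace Cfsg.Agent.H938.Sax

open Module QuadraticMap Cfsg Cfsg.Geo Cfsg.Agent.LieClassical.OrthCore Cfsg.Agent.H955 Cfsg.Agent.H954.TSing
  Cfsg.Agent.H884.El Cfsg.Agent.LieClassical.OmegaReindex
open Cfsg.Agent.H951 (fx cm Inv)
open scoped MatrixGroups Matrix

universe u v

/-- odd order elements lift to elements of the same order over a kernel of exponent two -/
theorem exists_lift_odd {G H : Type*} [Group G] [Group H] (f : G →* H) (hk : ∀ x, f x = 1 → x ^ 2 = 1)
    {x : G} {N : ℕ} (hN : Odd N) (ho : orderOf (f x) = N) : ∃ n : ℕ, f (x ^ n) = f x ∧ orderOf (x ^ n) = N := by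
  obtain ⟨j, hj⟩ := hN
  have hN0 : 0 < N := by omega
  refine ⟨N + 1, ?_, ?_⟩
  · rw [map_pow, pow_succ, ← ho, pow_orderOf_eq_one, one_mul]
  · have h1 : (x ^ (N + 1)) ^ N = 1 := by
      have h2 : f (x ^ N) = 1 := by rw [map_pow, ← ho, pow_orderOf_eq_one]
      have h3 := hk _ h2
      rw [← pow_mul, show (N + 1) * N = N * 2 * (j + 1) by rw [hj]; ring, pow_mul, pow_mul, h3, one_pow]
    have h4 : orderOf (f (x ^ (N + 1))) ∣ orderOf (x ^ (N + 1)) := orderOf_map_dvd f _
    rw [map_pow, pow_succ, ← ho, pow_orderOf_eq_one, one_mul] at h4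
    rw [ho] at h4
    have h5 := orderOf_dvd_of_pow_eq_one h1
    rw [← ho] at h5 ⊢
    rw [ho] at h5 ⊢
    exact Nat.dvd_antisymm h5 h4

section quad

variable {ι : Type} [Fintype ι] [DecidableEq ι] {F : Type u} [Field F] [Fintype F] {Q : QuadraticForm F (ι → F)}
  {k N : ℕ}

omit [Fintype F] in
theorem orderOf_lin (g : GL ι F) : orderOf (lin g) = orderOf g := by
  have h1 : orderOf ((g : GL ι F) : Matrix ι ι F) = orderOf g := orderOf_units
  rw [← h1]
  exact orderOf_injective (Matrix.toLinAlgEquiv' (R := F) (n := ι)).toRingEquiv.toMonoidHom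
    (Matrix.toLinAlgEquiv' (R := F) (n := ι)).injective _

/-- elements of odd order of a subgroup of `PΩ(Q)` are images of isometries of the same order -/
theorem exists_pre (hD : H390.Lift.Data Q) {M : Subgroup (POmega F (⇑Q))} (hN : Odd N) {m : POmega F (⇑Q)}
    (hm : m ∈ M) (ho : orderOf m = N) : ∃ g ∈ pre (⇑Q) M, orderOf (lin g) = N ∧ ∀ v, Q (lin g v) = Q v := by
  obtain ⟨x, rfl⟩ := QuotientGroup.mk'_surjective (Subgroup.center (Omega F (⇑Q))) m
  obtain ⟨n, h1, h2⟩ := exists_lift_odd (QuotientGroup.mk' (Subgroup.center (Omega F (⇑Q)))) (fun y hy =>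
    H390.Lift.center_sq hD y ((QuotientGroup.eq_one_iff y).1 hy)) hN ho
  have hmem : (((x ^ n : Omega F (⇑Q)) : isometryGroup F (⇑Q)) : GL ι F) ∈ pre (⇑Q) M := by
    rw [mem_pre, h1]
    exact hm
  refine ⟨_, hmem, ?_, fun v => lin_iso pre_le hmem v⟩
  rw [orderOf_lin, Subgroup.orderOf_coe, Subgroup.orderOf_coe, h2]

theorem exists_lin_iso (hD : H390.Lift.Data Q) (hN : Odd N) {m : POmega F (⇑Q)} (ho : orderOf m = N) :
    ∃ g : Module.End F (ι → F), (∀ v, Q (g v) = Q v) ∧ orderOf g = N := by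
  obtain ⟨g, -, h1, h2⟩ := exists_pre hD (M := ⊤) hN (Subgroup.mem_top m) ho
  exact ⟨_, h2, h1⟩

/-- no element of order `N` in small dimension -/
theorem pomega_small (hQ : Nondeg Q) (hD : H390.Lift.Data Q) (hk : 3 ≤ k) (hN : NumD (Nat.card F) k N)
    (hd : Fintype.card ι < 4 * k) (m : POmega F (⇑Q)) : orderOf m ≠ N := by
  intro ho
  obtain ⟨g, h1, h2⟩ := exists_lin_iso hD (hN.odd hk) ho
  have h3 := lin_main hk hN hQ h1 h2 (by rw [finrank_V]; omega)
  rw [finrank_V] at h3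
  omega

/-- no element of order `N` in minus type -/
theorem pomega_minus (hQ : Nondeg Q) (hD : H390.Lift.Data Q) (hP : ¬ IsPlus Q) (hk : 3 ≤ k)
    (hN : NumD (Nat.card F) k N) (hd : Fintype.card ι = 4 * k) (m : POmega F (⇑Q)) : orderOf m ≠ N := by
  intro ho
  obtain ⟨g, h1, h2⟩ := exists_lin_iso hD (hN.odd hk) ho
  have h3 := lin_main hk hN hQ h1 h2 (by rw [finrank_V]; omega)
  exact hP (h3.2 (by rw [finrank_V, hd])).1

/-- a linear map of odd order which fixes a line on which `Q` does not vanish fixes it pointwise -/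
theorem fix_of_line {V : Type*} [AddCommGroup V] [Module F V] {R : QuadraticForm F V} {g : Module.End F V}
    (hg : ∀ v, R (g v) = R v) (hN : Odd N) (hgN : g ^ N = 1) {v : V} (hv : R v ≠ 0)
    (hgv : g v ∈ Submodule.span F {v}) : g v = v := by
  obtain ⟨c, hc⟩ := Submodule.mem_span_singleton.1 hgv
  have h1 : c * c * R v = R v := by
    have := hg v
    rw [← hc, QuadraticMap.map_smul, smul_eq_mul] at this
    exact this
  have h2 : c * c = 1 := by
    have : (c * c - 1) * R v = 0 := by rw [sub_mul, h1, one_mul, sub_self]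
    rcases mul_eq_zero.1 this with h | h
    · exact sub_eq_zero.1 h
    · exact absurd h hv
  have h3 : ∀ n : ℕ, (g ^ n) v = c ^ n • v := by
    intro n
    induction n with
    | zero => rw [pow_zero, pow_zero, one_smul]; rfl
    | succ n ih => rw [pow_succ', Module.End.mul_apply, ih, map_smul, ← hc, smul_smul, ← pow_succ]
  have h4 : c ^ N = 1 := by
    have h5 := h3 N
    rw [hgN] at h5
    have h6 : (c ^ N - 1) • v = 0 := by
      rw [sub_smul, one_smul, ← h5]
      exact sub_self _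
    rcases smul_eq_zero.1 h6 with h | h
    · exact sub_eq_zero.1 h
    · exact absurd (by rw [h]; exact QuadraticMap.map_zero R) hv
  have h5 : c = 1 := by
    obtain ⟨j, hj⟩ := hN
    rw [hj, pow_succ, pow_mul, pow_two, h2, one_pow, one_mul] at h4
    exact h4
  rw [← hc, h5, one_smul]

/-- the stabiliser of a nonsingular point, plus type -/
theorem plus_point_gap (hQ : Nondeg Q) (hD : H390.Lift.Data Q) (hk : 3 ≤ k) (hN : NumD (Nat.card F) k N)
    (hd : Fintype.card ι = 4 * k) {M : Subgroup (POmega F (⇑Q))} {v : ι → F} (hv : Q v ≠ 0)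
    (hM : pre (⇑Q) M ≤ subspaceStabilizer (Submodule.span F {v})) (m : POmega F (⇑Q)) (hm : m ∈ M) :
    orderOf m ≠ N := by
  intro ho
  obtain ⟨g, h1, h2, h3⟩ := exists_pre hD (hN.odd hk) hm ho
  have h4 := lin_main hk hN hQ h3 h2 (by rw [finrank_V]; omega)
  have h5 : lin g v = v := fix_of_line h3 (hN.odd hk) (by rw [← h2]; exact pow_orderOf_eq_one _) hv
    (inv_of_mem (hM h1) v (Submodule.mem_span_singleton_self v))
  have h6 := (h4.2 (by rw [finrank_V, hd])).2 v h5
  exact hv (by rw [h6]; exact QuadraticMap.map_zero Q)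

/-- the stabiliser of a nonsingular point, odd dimension -/
theorem odd_point_gap (h2F : (2 : F) ≠ 0) (hQ : Nondeg Q) (hD : H390.Lift.Data Q) (hk : 3 ≤ k)
    (hN : NumD (Nat.card F) k N)
    (hd : Fintype.card ι = 4 * k + 1) {M : Subgroup (POmega F (⇑Q))} {v : ι → F} (hv : Q v ≠ 0)
    (hM : pre (⇑Q) M ≤ subspaceStabilizer (Submodule.span F {v}))
    (hP : ¬ IsPlus (res Q (perp Q (Submodule.span F {v})))) (m : POmega F (⇑Q)) (hm : m ∈ M) :
    orderOf m ≠ N := by
  intro ho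
  obtain ⟨g, h1, h2, h3⟩ := exists_pre hD (hN.odd hk) hm ho
  have hfix : lin g v = v := fix_of_line h3 (hN.odd hk) (by rw [← h2]; exact pow_orderOf_eq_one _) hv
    (inv_of_mem (hM h1) v (Submodule.mem_span_singleton_self v))
  set W := perp Q (Submodule.span F {v}) with hW
  have hpol : ∀ a b, polar Q (lin g a) (lin g b) = polar Q a b := fun a b => by
    simp only [polar, ← map_add, h3]
  have hinv : _root_.Cfsg.Agent.H951.Inv (lin g) W := by
    intro w hw u hu
    obtain ⟨c, rfl⟩ := Submodule.mem_span_singleton.1 hu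
    have h4 := hw (c • v) hu
    rw [← hpol, map_smul, hfix] at h4
    exact h4
  have hv0 : v ≠ 0 := by
    rintro rfl
    exact hv (QuadraticMap.map_zero Q)
  have hns : Nondeg (res Q (Submodule.span F {v})) := by
    rw [nondeg_res_iff]
    intro x hx hxy
    obtain ⟨c, rfl⟩ := Submodule.mem_span_singleton.1 hx
    have h4 := hxy v (Submodule.mem_span_singleton_self v)
    rw [polar_smul_left, polar_self, smul_eq_mul, two_nsmul, ← two_mul] at h4
    rcases mul_eq_zero.1 h4 with h | h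
    · rw [h, zero_smul]
    · exact absurd ((mul_eq_zero.1 h).resolve_left h2F) hv
  have hnW : Nondeg (res Q W) := nondeg_perp hQ hns
  have hdW : finrank F W = 4 * k := by
    have := finrank_add_perp hQ (Submodule.span F {v})
    rw [finrank_span_singleton (K := F) hv0, finrank_V, hd, ← hW] at this
    omega
  have hcompl := isCompl_perp hns
  have horder : orderOf ((lin g).restrict hinv) = N := by
    rw [← h2]
    apply Nat.dvd_antisymm
    · apply orderOf_dvd_of_pow_eq_one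
      refine LinearMap.ext fun w => Subtype.ext ?_
      rw [restrict_pow_coe, pow_orderOf_eq_one]
      rfl
    · apply orderOf_dvd_of_pow_eq_one
      refine LinearMap.ext fun x => ?_
      have hx : x ∈ Submodule.span F {v} ⊔ W := by rw [hcompl.sup_eq_top]; trivial
      obtain ⟨a, ha, b, hb, rfl⟩ := Submodule.mem_sup.1 hx
      obtain ⟨c, rfl⟩ := Submodule.mem_span_singleton.1 ha
      rw [map_add, map_smul, H951.pow_fx hfix]
      have h5 := restrict_pow_coe hinv (orderOf ((lin g).restrict hinv)) ⟨b, hb⟩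
      rw [pow_orderOf_eq_one] at h5
      change c • v + _ = c • v + b
      rw [← h5]
      rfl
  have h4 := lin_main hk hN hnW (g := (lin g).restrict hinv) (fun w => h3 w) horder (by rw [hdW]; omega)
  exact hP (h4.2 hdW).1

end quad

/-! ### standard forms -/

section std

variable {F : Type u} [Field F] [Fintype F] {k N : ℕ}

theorem ominus_no (hk : 3 ≤ k) (hN : NumD (Nat.card F) k N) {a b : F}
    (hab : ∀ z₁ z₂ : F, z₁ ^ 2 + a * z₁ * z₂ + b * z₂ ^ 2 = 0 → z₁ = 0 ∧ z₂ = 0)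
    (m : POmega F (quadFormMinus (2 * k - 1) F a b)) : orderOf m ≠ N := by
  have h : ∀ m : POmega F (⇑(quadMinus (2 * k - 1) F a b)), orderOf m ≠ N := fun m =>
    pomega_minus (nondeg_iff.2 (quadMinus_nondegenerate hab)) (data_minus (by omega) hab) (not_isPlus_quadMinus hab)
      hk hN (by rw [card_minus (by omega)]; omega) m
  rw [coe_quadMinus] at h
  exact h m

theorem oodd_no (h2 : (2 : F) ≠ 0) (hk : 3 ≤ k) (hN : NumD (Nat.card F) k N)
    (m : POmega F (quadFormOdd (2 * k - 1) F)) : orderOf m ≠ N := by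
  have h : ∀ m : POmega F (⇑(quadOdd (2 * k - 1) F)), orderOf m ≠ N := fun m =>
    pomega_small (nondeg_iff.2 (quadOdd_nondegenerate h2)) (data_odd (by omega) h2)
      hk hN (by rw [card_odd]; omega) m
  rw [coe_quadOdd] at h
  exact h m

theorem nondeg_of_symp {n : ℕ} {Q : QuadraticForm F (Fin n ⊕ Fin n → F)}
    (hQ1 : ∀ u v : Fin n ⊕ Fin n → F, QuadraticMap.polar ⇑Q u v = Cfsg.sympForm n F u v) : Nondeg Q := by
  intro x hx
  have h1 : ∀ w : Fin n ⊕ Fin n → F, x ⬝ᵥ w = 0 := by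
    intro w
    have h2 := hx (Matrix.J (Fin n) F *ᵥ (-w))
    rw [hQ1, Cfsg.sympForm, Matrix.mulVec_mulVec, Matrix.J_squared, Matrix.neg_mulVec, Matrix.one_mulVec,
      neg_neg] at h2
    exact h2
  exact dotProduct_eq_zero_iff.1 h1

/-- isometries of the symplectic form preserve a quadratic form: order `N` needs dimension `≥ 4k` -/
theorem sp_le [CharP F 2] {n : ℕ} (hk : 3 ≤ k) (hN : NumD (Nat.card F) k N) (hn : n < 2 * k)
    (A : Matrix.symplecticGroup (Fin n) F) : orderOf A ≠ N := by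
  intro ho
  obtain ⟨Q, hQ1, hQ2⟩ := Cfsg.Agent.S2585.result A
  have hQ : Nondeg Q := nondeg_of_symp hQ1
  have h1 : orderOf (Matrix.toLin' (A : Matrix (Fin n ⊕ Fin n) (Fin n ⊕ Fin n) F)) = N := by
    rw [← ho]
    have h2 : orderOf (A : Matrix (Fin n ⊕ Fin n) (Fin n ⊕ Fin n) F) = orderOf A := orderOf_submonoid A
    rw [← h2]
    exact orderOf_injective (Matrix.toLinAlgEquiv' (R := F) (n := Fin n ⊕ Fin n)).toRingEquiv.toMonoidHom
      (Matrix.toLinAlgEquiv' (R := F) (n := Fin n ⊕ Fin n)).injective _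
  have h3 := lin_main hk hN hQ (g := Matrix.toLin' (A : Matrix (Fin n ⊕ Fin n) (Fin n ⊕ Fin n) F))
    (fun v => by rw [Matrix.toLin'_apply]; exact hQ2 v) h1 (by
      rw [Module.finrank_fintype_fun_eq_card, Fintype.card_sum, Fintype.card_fin]; omega)
  rw [Module.finrank_fintype_fun_eq_card, Fintype.card_sum, Fintype.card_fin] at h3
  omega

theorem psp_no [CharP F 2] (hk : 3 ≤ k) (hN : NumD (Nat.card F) k N) (m : PSp (2 * k - 1) F) : orderOf m ≠ N := by
  intro ho
  obtain ⟨A, hA⟩ := (Cfsg.Agent.H403.mem_range_PSp (F := F) (n := 2 * k - 1) (by omega) N).1 ⟨m, ho⟩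
  exact sp_le hk hN (by omega) A hA

end std

end Cfsg.Agent.H938.Sax
end

private theorem dce_e2ec1e87d57b : _root_.True := by
  try have : _root_.True := by simp only [_root_.Cfsg.sympForm.eq_1]
  exact _root_.True.intro
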