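import Cfsg.Agent.H938.Sax.OrthGap
import Cfsg.Agent.H264.FKS.Final_m3
import Cfsg.Agent.S0814
import Cfsg.Agent.S0816
import Cfsg.Agent.S0818
import Cfsg.Agent.S2469
import Cfsg.Agent.H264.FKS.TwoRows
import Cfsg.Agent.S2472
import Cfsg.Agent.S2474
import Cfsg.Agent.H901.SaxSpRow
import Cfsg.Agent.FastGrp
import Cfsg.Agent.Prune
set_option linter.all false

section
prune_inst 0x7ffffdffbbf81ddfffff7e7faedcddfdfabcbfffa4dff9fbffe0ebff8bdf4b02c9e5f38defeb19fe1eb6c23410e87b43fdffeeffea6bdc7ffffd5ff45ffbffdfffffbd0951d588340fbc6ffe93f0778e7f3fffffffffffffffffffffffffffbeffbfffffffff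

-- part: H938/Sax/ASRows
section
set_option linter.all false
open scoped Cfsg.Agent.FastGrp

-- part: H938/Sax/OrthRows
section
/-!
# Geometric rows of the orthogonal groups: `OrdGap` or residual (helper938)
-/

set_option autoImplicit false

namespace Cfsg.Agent.H938.Sax

open Module QuadraticMap Cfsg Cfsg.Geo Cfsg.Agent.LieClassical.OrthCore Cfsg.Agent.H955 Cfsg.Agent.H954.TSing
  Cfsg.Agent.H884.El Cfsg.Agent.LieClassical.OmegaReindex
open scoped MatrixGroups Matrix

universe u v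

variable {F : Type u} [Field F] [Fintype F]

/-- minus type -/
theorem minus_row {m : ℕ} (hm : 4 ≤ m) {a b : F}
    (hab : ∀ z₁ z₂ : F, z₁ ^ 2 + a * z₁ * z₂ + b * z₂ ^ 2 = 0 → z₁ = 0 ∧ z₂ = 0)
    (M : Subgroup (POmega F (quadFormMinus (m - 1) F a b))) :
    PGap (POmega F (quadFormMinus (m - 1) F a b)) M ∨
      InOrthogonalResidualClass (pre (quadFormMinus (m - 1) F a b) M) :=
  geo_minus hm hab M

/-- plus type, `m ≠ 4` -/
theorem plus_row {m : ℕ} (hm : 4 ≤ m) (hm4 : m ≠ 4) (M : Subgroup (POmega F (quadFormPlus m F))) :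
    OrdGap (POmega F (quadFormPlus m F)) M ∨ InOrthogonalResidualClass (pre (quadFormPlus m F) M) := by
  have h : ∀ M : Subgroup (POmega F (⇑(quadPlus m F))),
      OrdGap (POmega F (⇑(quadPlus m F))) M ∨ InOrthogonalResidualClass (pre (⇑(quadPlus m F)) M) := by
    intro M
    rcases plus_miss hm (card_plus m) (nondeg_iff.2 quadPlus_nondegenerate) (isPlus_quadPlus m)
      (fun h => hm4 h.2) (data_plus hm) M with h | h | ⟨⟨k, hk⟩, v, hv, hMv⟩
    · exact Or.inl (PGap.ordGap h)
    · exact Or.inr h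
    · left
      have hk3 : 3 ≤ k := by omega
      obtain ⟨N, hN⟩ := exists_numD (q := Nat.card F) Finite.one_lt_card hk3
      have h1 := exists_plus_numD hk3 hN
      have h2 : ∃ g : POmega F (⇑(quadPlus m F)), orderOf g = N := by
        rw [coe_quadPlus, show m = 2 * k by omega]
        exact h1
      obtain ⟨g, hg⟩ := h2
      refine ordGap_of hg fun x hx => ?_
      exact plus_point_gap (nondeg_iff.2 quadPlus_nondegenerate) (data_plus hm) hk3 hN
        (by rw [card_plus]; omega) hv hMv x hx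
  rw [coe_quadPlus] at h
  exact h M

/-- odd dimension, `m ≠ 4` -/
theorem odd_row {m : ℕ} (hm : 3 ≤ m) (hm4 : m ≠ 4) (hodd : Odd (Fintype.card F))
    (M : Subgroup (POmega F (quadFormOdd m F))) :
    OrdGap (POmega F (quadFormOdd m F)) M ∨ InOrthogonalResidualClass (pre (quadFormOdd m F) M) := by
  have h2 := H390.two_ne_zero_of_odd hodd
  have h : ∀ M : Subgroup (POmega F (⇑(quadOdd m F))),
      OrdGap (POmega F (⇑(quadOdd m F))) M ∨ InOrthogonalResidualClass (pre (⇑(quadOdd m F)) M) := by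
    intro M
    rcases odd_miss h2 hm (card_odd m) (nondeg_iff.2 (quadOdd_nondegenerate h2)) (data_odd hm h2) M with
      h | h | ⟨⟨k, hk⟩, v, hv, hMv, hP⟩
    · exact Or.inl (PGap.ordGap h)
    · exact Or.inr h
    · left
      have hk3 : 3 ≤ k := by omega
      obtain ⟨N, hN⟩ := exists_numD (q := Nat.card F) Finite.one_lt_card hk3
      have h1 := exists_odd_numD h2 hk3 hN
      have h2' : ∃ g : POmega F (⇑(quadOdd m F)), orderOf g = N := by
        rw [coe_quadOdd, show m = 2 * k by omega]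
        exact h1
      obtain ⟨g, hg⟩ := h2'
      refine ordGap_of hg fun x hx => ?_
      exact odd_point_gap h2 (nondeg_iff.2 (quadOdd_nondegenerate h2)) (data_odd hm h2) hk3 hN
        (by rw [card_odd]; omega) hv hMv hP x hx
  rw [coe_quadOdd] at h
  exact h M

end Cfsg.Agent.H938.Sax
end

-- part: H938/Sax/AS
section
/-!
# Almost simple subgroups of classical groups, composite orders (helper938)

`NumP p f k N` : `NumD (p ^ f) k N` with `N` coprime to `2 f`.
-/

set_option autoImplicit false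

namespace Cfsg.Agent.H938.Sax

open Cfsg Cfsg.Agent.H884.El Cfsg.Agent.OrdDiv Cfsg.Agent.H436 Cfsg.Agent.H915.GN Cfsg.Agent.H264.GN
  Cfsg.Agent.H264.FKS

universe u

section abs

variable {R : Type*} [Group R] [Finite R] (S : Subgroup R) [S.Normal] {c N : ℕ}

theorem index_dvd (hC : Subgroup.centralizer (S : Set R) = ⊥) (hc : Nat.card (MulAut S) = c * Nat.card S) :
    S.index ∣ c := by
  have h1 := dvd_aut S hC
  rw [hc, ← S.card_mul_index, mul_comm] at h1
  exact Nat.dvd_of_mul_dvd_mul_right Nat.card_pos h1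

/-- an element of order prime to `|Out S|` lies in `S` -/
theorem mem_of_coprime (hC : Subgroup.centralizer (S : Set R) = ⊥) (hc : Nat.card (MulAut S) = c * Nat.card S)
    (hN : N.Coprime c) {x : R} (hx : orderOf x = N) : x ∈ S := by
  have h1 : x ^ S.index ∈ S := Subgroup.pow_index_mem S x
  have h2 : N.Coprime S.index := hN.coprime_dvd_right (index_dvd S hC hc)
  have h3 : orderOf (x ^ S.index) = N := by
    rw [orderOf_pow, hx, Nat.Coprime.gcd_eq_one h2, Nat.div_one]
  have h4 : x ∈ Subgroup.zpowers (x ^ S.index) := by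
    have h5 : Subgroup.zpowers (x ^ S.index) = Subgroup.zpowers x := by
      apply Subgroup.eq_of_le_of_card_ge
      · rw [Subgroup.zpowers_le]
        exact Subgroup.pow_mem _ (Subgroup.mem_zpowers x) _
      · rw [Nat.card_zpowers, Nat.card_zpowers, h3, hx]
    rw [h5]
    exact Subgroup.mem_zpowers x
  exact (Subgroup.zpowers_le.2 h1) h4

end abs

/-- the order `N` is missing in `R` -/
theorem no_of_socle {T : Type*} [Group T] [Finite T] {R : Subgroup T} (S : Subgroup R) [S.Normal] {c N : ℕ}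
    (hC : Subgroup.centralizer (S : Set R) = ⊥) (hc : Nat.card (MulAut S) = c * Nat.card S)
    (hN : N.Coprime c) (hno : ∀ s : S, orderOf s ≠ N) (m : T) (hm : m ∈ R) : orderOf m ≠ N := by
  intro ho
  have h1 : orderOf (⟨m, hm⟩ : R) = N := by rw [← ho, ← Subgroup.orderOf_coe]
  have h2 := mem_of_coprime S hC hc hN h1
  exact hno ⟨⟨m, hm⟩, h2⟩ (by rw [← h1, ← Subgroup.orderOf_coe])

def NumP (p f k N : ℕ) : Prop := NumD (p ^ f) k N ∧ N.Coprime (8 * f)

theorem exists_numP {p f k : ℕ} (hp : p.Prime) (hf : 1 ≤ f) (hk : 3 ≤ k) : ∃ N, NumP p f k N := by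
  by_cases h : p ^ f = 2 ∧ k = 4
  · refine ⟨99, Or.inl ⟨h.1, h.2, rfl⟩, ?_⟩
    have h1 : f = 1 := by
      by_contra hne
      have h2 : 2 ^ 2 ≤ p ^ f := (Nat.pow_le_pow_left hp.two_le 2).trans (Nat.pow_le_pow_right hp.pos (by omega))
      rw [h.1] at h2
      norm_num at h2
    subst h1
    decide
  · obtain ⟨r, hr⟩ := exists_ppp (p := p) (a := f) (e := 2 * (k - 1)) hp hf (by omega) (fun hh => by
      exact h ⟨hh.1, by omega⟩) (fun b hb => by
        intro hh
        have := Nat.mul_le_mul hb (show 4 ≤ 2 * (k - 1) by omega)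
        omega)
    obtain ⟨s, hs⟩ := exists_ppp (p := p) (a := f) (e := 2 * (k + 1)) hp hf (by omega) (fun hh => by omega)
      (fun b hb => by
        intro hh
        have := Nat.mul_le_mul hb (show 8 ≤ 2 * (k + 1) by omega)
        omega)
    refine ⟨r * s, Or.inr ⟨r, s, rfl, hr.of_pow hf, hs.of_pow hf⟩, ?_⟩
    have key : ∀ {e t : ℕ}, 4 ≤ e → PP p (f * e) t → t.Coprime (8 * f) := by
      intro e t he ht
      have h1 := ht.lt (by have := Nat.mul_le_mul hf he; omega)
      have h2 : f * 4 ≤ f * e := Nat.mul_le_mul_left f he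
      have ht2 : t.Coprime 2 := by
        rw [Nat.coprime_primes ht.prime Nat.prime_two]
        omega
      refine Nat.Coprime.mul_right (by rw [show 8 = 2 ^ 3 by norm_num]; exact ht2.pow_right 3) ?_
      exact (Nat.Prime.coprime_iff_not_dvd ht.prime).2 fun hd => by
        have := Nat.le_of_dvd (by omega) hd
        omega
    exact Nat.Coprime.mul_left (key (by omega) hr) (key (by omega) hs)

end Cfsg.Agent.H938.Sax
end

-- part: H938/Sax/ASRows
section
/-!
# Char-`p` socles in `PSp_{2n}(q)`, `Ω_{2n+1}(q)`, `PΩ⁺_{2n}(q)`: `OrdGap` for `n ≠ 4` (helper938)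
-/

set_option autoImplicit false
set_option linter.style.haveILetI false

namespace Cfsg.Agent.H938.Sax

open Cfsg Cfsg.Agent.H884.El Cfsg.Agent.OrdDiv Cfsg.Agent.H436 Cfsg.Agent.H915.GN Cfsg.Agent.H264.GN
  Cfsg.Agent.H264.FKS

universe u

/-- `S` has no element of order `N`, and `|Out S|` divides `8 f` -/
def Blk (S : Type*) [Group S] (f N : ℕ) : Prop :=
  ∃ c, c ∣ 8 * f ∧ Nat.card (MulAut S) = c * Nat.card S ∧ ∀ s : S, orderOf s ≠ N

theorem Blk.congr {S S' : Type*} [Group S] [Group S'] {f N : ℕ} (e : S ≃* S') (h : Blk S' f N) : Blk S f N := by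
  obtain ⟨c, h1, h2, h3⟩ := h
  refine ⟨c, h1, ?_, fun s hs => h3 (e s) (by rw [← hs]; exact orderOf_injective e.toMonoidHom e.injective s)⟩
  rw [Nat.card_congr e.toEquiv, ← h2]
  exact Nat.card_congr (MulAut.congr e).toEquiv

theorem charP_of {p f : ℕ} {F : Type*} [Field F] [Fintype F] (hp : p.Prime) (hf : 1 ≤ f)
    (hF : Fintype.card F = p ^ f) : CharP F p := H364.OutLie.charP_of_card hp hf hF

section

variable {p f k N : ℕ} {S : Type u} [Group S]

theorem blk_ominus (hp : p.Prime) (hf : 1 ≤ f) (hk : 3 ≤ k) (hN : NumP p f k N)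
    (hS : IsNamed (.ominus (2 * k) (p ^ f)) S) : Blk S f N := by
  obtain ⟨F, _, _, a, b, hF, hab, ⟨e⟩⟩ := hS.real
  haveI : Fact p.Prime := ⟨hp⟩
  refine Blk.congr e ⟨_, ?_, Cfsg.Agent.S0818.result p f hf hF (2 * k) (by omega) a b hab, fun m =>
    ominus_no hk (by rw [Nat.card_eq_fintype_card, hF]; exact hN.1) hab m⟩
  refine Nat.mul_dvd_mul_right ?_ f
  split_ifs <;> decide

theorem blk_oodd (hp : p.Prime) (hf : 1 ≤ f) (hk : 3 ≤ k) (hN : NumP p f k N)
    (hS : IsNamed (.oodd (2 * k - 1) (p ^ f)) S) : Blk S f N := by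
  obtain ⟨F, _, _, hF, ⟨e⟩⟩ := hS.real
  haveI : Fact p.Prime := ⟨hp⟩
  have hodd : Odd (p ^ f) := hS.cond.2.1
  have hoddp : Odd p := (Nat.odd_pow_iff (by omega)).1 hodd
  have h2 : (2 : F) ≠ 0 := H390.two_ne_zero_of_odd (by rw [hF]; exact hodd)
  refine Blk.congr e ⟨_, ?_, Cfsg.Agent.S0816.result p f hf hF hoddp (2 * k - 1) (by omega), fun m =>
    oodd_no h2 hk (by rw [Nat.card_eq_fintype_card, hF]; exact hN.1) m⟩
  exact Nat.mul_dvd_mul_right (by decide) f

theorem prim_of_pp {q e r : ℕ} (hq : 1 ≤ q) (he : 1 ≤ e) (h : PP q e r) : Prim q e r :=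
  ⟨h.prime, fun m => h.dvd_iff hq m, h.not_dvd he⟩

/-- adjacency in `PSp_{2n}(q)` -/
theorem psp_adj_iff {F : Type} [Field F] [Fintype F] {n r s : ℕ} (hp : p.Prime) (hf : 1 ≤ f)
    (hF : Fintype.card F = p ^ f) (hn : 2 * k - 1 ≤ n) (hn2 : n ≤ 2 * k) (hk : 3 ≤ k)
    (hr : PP (p ^ f) (2 * (k - 1)) r) (hs : PP (p ^ f) (2 * (k + 1)) s) :
    r * s ∈ Set.range (orderOf : PSp n F → ℕ) ↔ n = 2 * k := by
  haveI : Fact p.Prime := ⟨hp⟩
  haveI := charP_of hp hf hF
  have hq : 1 ≤ p ^ f := Nat.one_le_pow _ _ hp.pos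
  have hq2 : 2 ≤ p ^ f := hp.two_le.trans (Nat.le_self_pow (by omega) _)
  have hT : IsNamed (.psp n (p ^ f)) (PSp n F) :=
    .mk' ⟨F, inferInstance, inferInstance, hF, ⟨MulEquiv.refl _⟩⟩ ⟨by omega, fun _ => by omega, hF ▸
      Fintype.isPrimePow_card_of_field⟩ (by rw [← hF]; exact psp_eq (by omega))
  have hr' := prim_of_pp hq (by omega) hr
  have hs' := prim_of_pp hq (by omega) hs
  have key := Cfsg.Agent.S2469.result (F := F) p n (by omega) (fun h => by omega) r s hr.prime hs.prime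
    (ne_of_prim' hr' (by omega)) (ne_of_prim' hs' (by omega)) (ne_char hr' hf) (ne_char hs' hf)
    (hr.ne_of_ne hs (by omega)) (dvd_psp hT (by omega) dvd_rfl (by omega) (by omega) hr')
    (dvd_psp hT (by omega) dvd_rfl (by omega) (by omega) hs') (2 * (k - 1)) (2 * (k + 1)) (k - 1) (k + 1)
    (by rw [hF]; exact hr.ord.symm) (by rw [hF]; exact hs.ord.symm) (Or.inr ⟨even_two_mul _, rfl⟩)
    (Or.inr ⟨even_two_mul _, rfl⟩) (by omega)
  rw [← not_iff_not, key]
  constructor
  · rintro ⟨h1, -⟩ h2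
    omega
  · intro h
    refine ⟨by omega, ?_⟩
    rintro ⟨t, ht, h2⟩
    have h3 : k + 1 = (k - 1) * t := by
      have : 2 * (k + 1) = 2 * ((k - 1) * t) := by rw [h2]; ring
      omega
    have h4 : t < 3 := by
      by_contra h5
      have := Nat.mul_le_mul_left (k - 1) (show 3 ≤ t by omega)
      omega
    interval_cases t
    · exact absurd ht (by decide)
    · omega
    · exact absurd ht (by decide)

theorem blk_psp (hp : p.Prime) (hf : 1 ≤ f) (hk : 3 ≤ k) (hN : NumP p f k N)
    (hS : IsNamed (.psp (2 * k - 1) (p ^ f)) S) : Blk S f N := by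
  obtain ⟨F, _, _, hF, ⟨e⟩⟩ := hS.real
  haveI : Fact p.Prime := ⟨hp⟩
  haveI := charP_of hp hf hF
  have h1 := Cfsg.Agent.S0814.result (F := F) p f hf hF (2 * k - 1) (by omega) (fun h => by omega)
  rw [if_neg (fun h => by omega), one_mul] at h1
  refine Blk.congr e ⟨_, ?_, h1, fun m => ?_⟩
  · refine Nat.mul_dvd_mul_right ((Nat.gcd_dvd_left _ _).trans (by decide)) f
  · rcases hN.1 with ⟨h2, h3, h4⟩ | ⟨r, s, h3, hr, hs⟩
    · have hp2 : p = 2 := by
        have : p ∣ 2 := by rw [← h2]; exact dvd_pow_self p (by omega)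
        exact (Nat.prime_dvd_prime_iff_eq hp Nat.prime_two).1 this
      subst hp2
      exact psp_no hk (by rw [Nat.card_eq_fintype_card, hF]; exact hN.1) m
    · intro ho
      have := (psp_adj_iff hp hf hF le_rfl (by omega) hk hr hs).1 (by rw [← h3]; exact ⟨m, ho⟩)
      omega

/-! ### existence of elements of order `N` -/

theorem exists_psp (hp : p.Prime) (hf : 1 ≤ f) (hk : 3 ≤ k) (hN : NumP p f k N)
    (hS : IsNamed (.psp (2 * k) (p ^ f)) S) : ∃ g : S, orderOf g = N := by
  obtain ⟨F, _, _, hF, ⟨e⟩⟩ := hS.real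
  haveI : Fact p.Prime := ⟨hp⟩
  haveI := charP_of hp hf hF
  suffices h : ∃ g : PSp (2 * k) F, orderOf g = N by
    obtain ⟨g, hg⟩ := h
    exact ⟨e.symm g, by rw [← hg]; exact orderOf_injective e.symm.toMonoidHom e.symm.injective g⟩
  rcases hN.1 with ⟨h2, h3, h4⟩ | ⟨r, s, h3, hr, hs⟩
  · have hp2 : p = 2 := by
      have : p ∣ 2 := by rw [← h2]; exact dvd_pow_self p (by omega)
      exact (Nat.prime_dvd_prime_iff_eq hp Nat.prime_two).1 this
    subst hp2
    exact exists_psp_numD hk (by rw [Nat.card_eq_fintype_card, hF]; exact hN.1)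
  · have := (psp_adj_iff hp hf hF (by omega) le_rfl hk hr hs).2 rfl
    rw [← h3] at this
    exact this

theorem exists_oodd (hk : 3 ≤ k) (hN : NumP p f k N)
    (hS : IsNamed (.oodd (2 * k) (p ^ f)) S) : ∃ g : S, orderOf g = N := by
  obtain ⟨F, _, _, hF, ⟨e⟩⟩ := hS.real
  have hodd : Odd (p ^ f) := hS.cond.2.1
  have h2 : (2 : F) ≠ 0 := H390.two_ne_zero_of_odd (by rw [hF]; exact hodd)
  obtain ⟨g, hg⟩ := exists_odd_numD h2 hk (by rw [Nat.card_eq_fintype_card, hF]; exact hN.1)
  exact ⟨e.symm g, by rw [← hg]; exact orderOf_injective e.symm.toMonoidHom e.symm.injective g⟩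

theorem exists_oplus (hk : 3 ≤ k) (hN : NumP p f k N)
    (hS : IsNamed (.oplus (2 * k) (p ^ f)) S) : ∃ g : S, orderOf g = N := by
  obtain ⟨F, _, _, hF, ⟨e⟩⟩ := hS.real
  obtain ⟨g, hg⟩ := exists_plus_numD (F := F) hk (by rw [Nat.card_eq_fintype_card, hF]; exact hN.1)
  exact ⟨e.symm g, by rw [← hg]; exact orderOf_injective e.symm.toMonoidHom e.symm.injective g⟩

end

/-! ### rows -/

section rows

variable {p f n : ℕ} {g : Grp} {T : Type u} [Group T] [Finite T] {R : Subgroup T}

theorem ordGap_of_blk {N : ℕ} (hg : ∃ x : T, orderOf x = N) (S : Subgroup R) [S.Normal]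
    (hC : Subgroup.centralizer (S : Set R) = ⊥) (hN : N.Coprime (8 * f)) (h : Blk S f N) : OrdGap T R := by
  obtain ⟨x, hx⟩ := hg
  obtain ⟨c, h1, h2, h3⟩ := h
  exact ordGap_of hx (no_of_socle S hC h2 (hN.coprime_dvd_right h1) h3)

omit [Finite T] in
theorem pgap_of_not_full (h : ¬ Full T R) : PGap T R := exists_of_not_full h

/-- **`T = PSp_{2n}(q)`, `n ≥ 3`, `n ≠ 4`.** -/
theorem charp_psp_gap (hT : IsNamed (.psp n (p ^ f)) T) (hp : p.Prime) (hf : 1 ≤ f) (hn : 3 ≤ n) (hn4 : n ≠ 4)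
    (hex1 : ¬ (p = 2 ∧ f * (2 * n) = 6)) (hR : R ≠ ⊤) (S : Subgroup R) [S.Normal] [IsSimpleGroup S]
    (hna : ¬ IsMulCommutative S) (hC : Subgroup.centralizer (S : Set R) = ⊥) (hS : IsNamed g S)
    (hch : HasChar p g) : OrdGap T R := by
  by_cases hfull : Full T R
  · obtain ⟨h1, rfl⟩ := full_psp hT hp hf hn hex1 (fun h => by
      obtain ⟨-, h⟩ := h
      have h3 : f * 4 ≤ f * (2 * (n - 1)) := Nat.mul_le_mul_left f (by omega)
      have h4 : f = 1 := by omega
      subst h4
      omega) hR hfull S hna hC hS hch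
    obtain ⟨k, rfl⟩ : ∃ k, n = 2 * k := ⟨n / 2, by omega⟩
    obtain ⟨N, hN⟩ := exists_numP (k := k) hp hf (by omega)
    exact ordGap_of_blk (exists_psp hp hf (by omega) hN hT) S hC hN.2 (blk_ominus hp hf (by omega) hN hS)
  · exact (pgap_of_not_full hfull).ordGap

/-- **`T = Ω_{2n+1}(q)`, `n ≥ 3`, `n ≠ 4`.** -/
theorem charp_oodd_gap (hT : IsNamed (.oodd n (p ^ f)) T) (hp : p.Prime) (hf : 1 ≤ f) (hn : 3 ≤ n) (hn4 : n ≠ 4)
    (hR : R ≠ ⊤) (S : Subgroup R) [S.Normal] [IsSimpleGroup S]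
    (hna : ¬ IsMulCommutative S) (hC : Subgroup.centralizer (S : Set R) = ⊥) (hS : IsNamed g S)
    (hch : HasChar p g) : OrdGap T R := by
  by_cases hfull : Full T R
  · obtain ⟨h1, rfl⟩ := full_oodd hT hp hf hn hR hfull S hna hC hS hch
    obtain ⟨k, rfl⟩ : ∃ k, n = 2 * k := ⟨n / 2, by omega⟩
    obtain ⟨N, hN⟩ := exists_numP (k := k) hp hf (by omega)
    exact ordGap_of_blk (exists_oodd (by omega) hN hT) S hC hN.2 (blk_ominus hp hf (by omega) hN hS)
  · exact (pgap_of_not_full hfull).ordGap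

end rows

end Cfsg.Agent.H938.Sax
end
end

-- part: H938/Sax/SpRow
section
prune_inst 0x1000000000000000000000000000000000000000002000000000000000000000000000000000000000000000000000000000000000000000000000000000000000000000000000000000000000000000000000000
set_option linter.all false
open scoped Cfsg.Agent.FastGrp

-- part: H938/Sax/PlusRow
section
/-!
# `PSL_{n-1}(q²)` is not a subgroup of `PΩ⁺_{2n}(q)`, `n` even; rows for `PΩ⁺_{2n}(q)`, `n ≠ 4` (helper938)
-/

set_option autoImplicit false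
set_option linter.style.haveILetI false

namespace Cfsg.Agent.H938.Sax

open Module QuadraticMap Cfsg Cfsg.Agent.H884.El Cfsg.Agent.OrdDiv Cfsg.Agent.H436 Cfsg.Agent.H915.GN
  Cfsg.Agent.H264.GN Cfsg.Agent.H264.FKS Cfsg.Agent.LieClassical.OrthCore Cfsg.Agent.H955 Cfsg.Agent.H954.TSing
  Cfsg.Agent.LieClassical.OmegaReindex
open Cfsg.Agent.H951 (fx cm Inv)

universe u v

section

variable {F : Type u} [Field F] [Fintype F] {V : Type v} [AddCommGroup V] [Module F V] [FiniteDimensional F V]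
  {Q : QuadraticForm F V} {g : Module.End F V} {e r s : ℕ}

/-- no isometry of order `r s`, `ord_r(q) = e` odd, `ord_s(q) = 2 e`, in dimension `< 4 e`. -/
theorem no_rs (he : Odd e) (he3 : 3 ≤ e) (hr : PP (Nat.card F) e r) (hs : PP (Nat.card F) (2 * e) s)
    (hQ : Nondeg Q) (hg : ∀ v, Q (g v) = Q v) (ho : orderOf g = r * s) (hd : finrank F V < 4 * e) : False := by
  have hgrs : g ^ (r * s) = 1 := by rw [← ho]; exact pow_orderOf_eq_one g
  have hr0 := hr.prime.pos
  have hs0 := hs.prime.pos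
  have hx : Iso Q (g ^ r) s := Iso.mk' hs (by omega) (by rw [← pow_mul, hgrs]) (iso_pow hg r)
  have hy : Iso Q (g ^ s) r := Iso.mk' hr (by omega) (by rw [← pow_mul, mul_comm, hgrs]) (iso_pow hg s)
  have hx1 : g ^ r ≠ 1 := by
    intro h
    have h0 := orderOf_dvd_of_pow_eq_one h
    rw [ho] at h0
    have h1 := Nat.le_of_dvd hr0 h0
    have h2 : r * 2 ≤ r * s := Nat.mul_le_mul_left r hs.prime.two_le
    omega
  have hy1 : g ^ s ≠ 1 := by
    intro h
    have h0 := orderOf_dvd_of_pow_eq_one h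
    rw [ho] at h0
    have h1 := Nat.le_of_dvd hs0 h0
    have h2 : 2 * s ≤ r * s := Nat.mul_le_mul_right s hr.prime.two_le
    omega
  have hxy : g ^ s * g ^ r = g ^ r * g ^ s := by rw [← pow_add, ← pow_add, add_comm]
  obtain ⟨h1, h2⟩ := hx.even_case hQ hx1 hs (even_two_mul e) (by omega)
  obtain ⟨h3, h4, -⟩ := hy.odd_case hQ hy1 hr he hd
  have hinv : _root_.Cfsg.Agent.H951.Inv (g ^ r) (cm (g ^ s)) := Typ.inv_cm_of_comm hxy
  rcases hx.le_or hs h1 hinv with h5 | h5
  · have h6 := Submodule.finrank_mono h5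
    have h7 := hx.finrank_add
    omega
  · have h6 : cm (g ^ r) = cm (g ^ s) := Submodule.eq_of_le_of_finrank_eq h5 (by omega)
    rw [h6] at h2
    exact h2 h4

end

theorem plus_no_rs {F : Type} [Field F] [Fintype F] {n r s : ℕ} (hn : 4 ≤ n) (he : Odd (n - 1))
    (hr : PP (Nat.card F) (n - 1) r) (hs : PP (Nat.card F) (2 * (n - 1)) s)
    (m : POmega F (quadFormPlus n F)) : orderOf m ≠ r * s := by
  have h : ∀ m : POmega F (⇑(quadPlus n F)), orderOf m ≠ r * s := fun m ho => by
    obtain ⟨g, h1, h2⟩ := exists_lin_iso (data_plus hn) ((hr.odd (by omega)).mul (hs.odd (by omega))) ho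
    exact no_rs he (by omega) hr hs (nondeg_iff.2 quadPlus_nondegenerate) h1 h2
      (by rw [finrank_V, card_plus]; omega)
  rw [coe_quadPlus] at h
  exact h m

theorem pp_of_prim {q e r : ℕ} (h : Prim q e r) : PP q e r := ⟨h.prime, orderOf_of_prim h⟩

variable {p f n : ℕ}

/-- `PSL_{n-1}(q²)` is not a subgroup of `PΩ⁺_{2n}(q)`, `n` even. -/
theorem not_psl_oplus {T : Type*} [Group T] (hp : p.Prime) (hf : 1 ≤ f) (hn : 4 ≤ n) (he : n % 2 = 0)
    (hex1 : ¬ (p = 2 ∧ f * (2 * (n - 1)) = 6)) (hT : IsNamed (.oplus n (p ^ f)) T) {R : Subgroup T}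
    {S : Subgroup R} (hS : IsNamed (.psl (n - 1) (p ^ (2 * f))) S) : False := by
  obtain ⟨F, _, _, hF, ⟨e⟩⟩ := hT.real
  obtain ⟨F', _, _, hF', ⟨e'⟩⟩ := hS.real
  have ho : Odd (n - 1) := by
    rw [Nat.odd_iff]; omega
  obtain ⟨s, hs⟩ := exists_prim (q := p) (e := f * (2 * (n - 1))) hp.two_le (by
    have := Nat.mul_le_mul hf (show 6 ≤ 2 * (n - 1) by omega)
    omega) hex1
  obtain ⟨r, hr⟩ : ∃ r, Prim (p ^ f) (n - 1) r := by
    by_cases h6 : p = 2 ∧ f * (n - 1) = 6
    · obtain ⟨rfl, h6⟩ := h6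
      have hn4 : n = 4 := by
        have h1 : n - 1 ∣ 6 := ⟨f, by rw [← h6, mul_comm]⟩
        have h2 := Nat.le_of_dvd (by norm_num) h1
        have : n ≤ 7 := by omega
        interval_cases n <;> first | rfl | (exfalso; revert h1 ho; decide)
      subst hn4
      have hf2 : f = 2 := by omega
      subst hf2
      exact ⟨7, by norm_num; exact prim_four_three⟩
    · obtain ⟨r, hr⟩ := exists_prim (q := p) (e := f * (n - 1)) hp.two_le (by
        have := Nat.mul_le_mul hf (show 3 ≤ n - 1 by omega)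
        omega) h6
      exact ⟨r, prim_pow hf hr⟩
  have hs' := prim_pow hf hs
  obtain ⟨x, -, hx⟩ := mem_range_of_le e' (psl_adj hp hf hF' (by omega) le_rfl hr hs')
  refine plus_no_rs (F := F) hn ho (r := r) (s := s) ?_ ?_ (e x) ?_
  · rw [Nat.card_eq_fintype_card, hF]; exact pp_of_prim hr
  · rw [Nat.card_eq_fintype_card, hF]; exact pp_of_prim hs'
  · rw [← hx]
    exact orderOf_injective e.toMonoidHom e.injective x

section rows

variable {g : Grp} {T : Type u} [Group T] [Finite T] {R : Subgroup T}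

/-- `T = PΩ⁺_{2n}(q)`, the full subgroups. -/
theorem full_oplus' (hT : IsNamed (.oplus n (p ^ f)) T) (hp : p.Prime) (hf : 1 ≤ f) (hn : 4 ≤ n)
    (hex1 : ¬ (p = 2 ∧ f * (2 * (n - 1)) = 6)) (hex2 : ¬ (p = 2 ∧ f * (2 * (n - 2)) = 6)) (hR : R ≠ ⊤)
    (hfull : Full T R) (S : Subgroup R) [S.Normal] [IsSimpleGroup S] (hna : ¬ IsMulCommutative S)
    (hC : Subgroup.centralizer (S : Set R) = ⊥) (hS : IsNamed g S) (hch : HasChar p g) :
    n % 2 = 0 ∧ (g = .psp (n - 1) (p ^ f) ∨ g = .oodd (n - 1) (p ^ f)) := by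
  obtain ⟨h1, h2⟩ := full_oplus hT hp hf hn hex1 hex2 hR hfull S hna hC hS hch
  refine ⟨h1, ?_⟩
  rcases h2 with rfl | h2
  · exact (not_psl_oplus hp hf hn h1 hex1 hT hS).elim
  · exact h2

/-- **`T = PΩ⁺_{2n}(q)`, `n ≥ 5`.** -/
theorem charp_oplus_gap (hT : IsNamed (.oplus n (p ^ f)) T) (hp : p.Prime) (hf : 1 ≤ f) (hn : 5 ≤ n)
    (hex2 : ¬ (p = 2 ∧ f * (2 * (n - 2)) = 6)) (hR : R ≠ ⊤) (S : Subgroup R) [S.Normal] [IsSimpleGroup S]
    (hna : ¬ IsMulCommutative S) (hC : Subgroup.centralizer (S : Set R) = ⊥) (hS : IsNamed g S)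
    (hch : HasChar p g) : OrdGap T R := by
  by_cases hfull : Full T R
  · obtain ⟨h1, h2⟩ := full_oplus' hT hp hf (by omega) (fun h => by
      obtain ⟨-, h⟩ := h
      have h3 : f * 8 ≤ f * (2 * (n - 1)) := Nat.mul_le_mul_left f (by omega)
      omega) hex2 hR hfull S hna hC hS hch
    obtain ⟨k, rfl⟩ : ∃ k, n = 2 * k := ⟨n / 2, by omega⟩
    obtain ⟨N, hN⟩ := exists_numP (k := k) hp hf (by omega)
    rcases h2 with rfl | rfl
    · exact ordGap_of_blk (exists_oplus (by omega) hN hT) S hC hN.2 (blk_psp hp hf (by omega) hN hS)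
    · exact ordGap_of_blk (exists_oplus (by omega) hN hT) S hC hN.2 (blk_oodd hp hf (by omega) hN hS)
  · exact (pgap_of_not_full hfull).ordGap

end rows

end Cfsg.Agent.H938.Sax
end

-- part: H938/Sax/Frat
section
/-!
# Normalisers of subgroups of primitive prime order and the index of the socle (helper938)
-/

set_option autoImplicit false
set_option linter.style.haveILetI false

namespace Cfsg.Agent.H938.Sax.Frat

open Module Polynomial Cfsg.Agent.H884.El
open Cfsg.Agent.H951 (fx cm Inv Irr)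

universe u v

/-- an endomorphism `α ↦ α ^ j` of the field `F[α]` over the finite field `F` -/
theorem aut_pow {F : Type u} [Field F] [Finite F] {P : F[X]} (hP : Irreducible P) {j : ℕ}
    (h : aeval (AdjoinRoot.root P ^ j) P = 0) :
    (AdjoinRoot.root P) ^ (j ^ P.natDegree) = AdjoinRoot.root P := by
  have : Fact (Irreducible P) := ⟨hP⟩
  have hfd : FiniteDimensional F (AdjoinRoot P) := (AdjoinRoot.powerBasis hP.ne_zero).finite
  have hfin : Finite (AdjoinRoot P) := Module.finite_of_finite F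
  let σ : AdjoinRoot P →ₐ[F] AdjoinRoot P := AdjoinRoot.liftAlgHom P (Algebra.ofId F (AdjoinRoot P))
    (AdjoinRoot.root P ^ j) h
  have hσ : σ (AdjoinRoot.root P) = AdjoinRoot.root P ^ j := by
    exact AdjoinRoot.liftAlgHom_root _ _ _ _
  have hbij : Function.Bijective σ := (Finite.injective_iff_bijective).1 σ.toRingHom.injective
  let τ : AdjoinRoot P ≃ₐ[F] AdjoinRoot P := AlgEquiv.ofBijective σ hbij
  have hτ : ∀ n : ℕ, (τ ^ n) (AdjoinRoot.root P) = AdjoinRoot.root P ^ (j ^ n) := by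
    intro n
    induction n with
    | zero => simp
    | succ n ih =>
      rw [pow_succ', AlgEquiv.mul_apply, ih, map_pow]
      change σ (AdjoinRoot.root P) ^ _ = _
      rw [hσ, ← pow_mul, pow_succ']
  have hcard : Nat.card (AdjoinRoot P ≃ₐ[F] AdjoinRoot P) = P.natDegree := by
    rw [IsGalois.card_aut_eq_finrank, (AdjoinRoot.powerBasis hP.ne_zero).finrank, AdjoinRoot.powerBasis_dim]
  have h1 : τ ^ P.natDegree = 1 := by
    rw [← hcard]
    exact pow_card_eq_one'
  have h2 := hτ P.natDegree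
  rw [h1] at h2
  exact h2.symm

section

variable {F : Type u} [Field F] [Fintype F] {V : Type v} [AddCommGroup V] [Module F V] [FiniteDimensional F V]
  {x y : Module.End F V} {r e : ℕ}

/-- irreducible commutator space: invariant subspaces contain it or are fixed pointwise. -/
theorem le_or (hr : PP (Nat.card F) e r) (he : 1 ≤ e) (hx : x ^ r = 1) (hcm : finrank F (cm x) = e)
    {W : Submodule F V} (hW : _root_.Cfsg.Agent.H951.Inv x W) : W ≤ fx x ∨ cm x ≤ W := by
  have := Fact.mk hr.prime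
  have hr0 := hr.ne0 he
  have h1 : e ∣ finrank F ↥(W ⊓ cm x) := by
    rw [← ord_eq hr]
    exact H951.ord_dvd_finrank hx (hW.inf H951.inv_cm) (H951.inf_fx_of_le_cm hr0 hx inf_le_right)
  have h2 : finrank F ↥(W ⊓ cm x) ≤ finrank F (cm x) := Submodule.finrank_mono inf_le_right
  rcases Nat.eq_zero_or_pos (finrank F ↥(W ⊓ cm x)) with h0 | h0
  · left
    have h4 : W ⊓ cm x = ⊥ := Submodule.finrank_eq_zero.1 h0
    have h5 := H951.inf_fx_sup_inf_cm hr0 hx hW
    rw [h4, sup_bot_eq] at h5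
    rw [← h5]
    exact inf_le_right
  · right
    have := Nat.le_of_dvd h0 h1
    have h6 : W ⊓ cm x = cm x := Submodule.eq_of_le_of_finrank_eq inf_le_right (by omega)
    rw [← h6]
    exact inf_le_left

theorem irr_cm (hr : PP (Nat.card F) e r) (he : 1 ≤ e) (hx : x ^ r = 1) (hcm : finrank F (cm x) = e) :
    Irr x (cm x) := by
  have hr0 := hr.ne0 he
  refine ⟨fun h => ?_, H951.inv_cm, fun U hU hUi => ?_⟩
  · rw [h, finrank_bot] at hcm
    omega
  · rcases le_or hr he hx hcm hUi with h | h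
    · left
      rw [eq_bot_iff, ← (H951.isCompl_fx_cm hr0 hx).inf_eq_bot]
      exact le_inf h hU
    · right
      exact le_antisymm hU h

/-- **A linear map which normalises `⟨x⟩` acts on it as an automorphism of order dividing `e`.** -/
theorem pow_e_modEq (hr : PP (Nat.card F) e r) (he : 2 ≤ e) (hx : x ^ r = 1) (hcm : finrank F (cm x) = e)
    {j : ℕ} (hy : Function.Injective y) (hyx : y * x = x ^ j * y) : j ^ e ≡ 1 [MOD r] := by
  have := Fact.mk hr.prime
  have hr0 := hr.ne0 (by omega)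
  have hirr := irr_cm hr (by omega) hx hcm
  obtain ⟨P, hP, hd, hPW⟩ := hirr.exists_factor (cyclotomic r F) (cyclotomic_ne_zero r F)
    (fun v hv => H951.cyclotomic_apply_of_mem_cm hx hv)
  have hdeg : P.natDegree = e := by
    rw [H951.natDegree_factor hr0 hP hd, ord_eq hr]
  -- `y` maps `cm x` onto itself
  have hyW : _root_.Cfsg.Agent.H951.Inv y (cm x) := by
    intro w hw
    obtain ⟨v, rfl⟩ := H951.mem_cm.1 hw
    have h1 : y (x v) = (x ^ j) (y v) := congrArg (fun z : Module.End F V => z v) hyx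
    rw [map_sub, h1]
    have key : ∀ n : ℕ, ∀ u : V, (x ^ n) u - u ∈ cm x := by
      intro n u
      induction n with
      | zero => simp
      | succ n ih =>
        have h2 : (x ^ (n + 1)) u - u = (x ((x ^ n) u) - (x ^ n) u) + ((x ^ n) u - u) := by
          rw [pow_succ', Module.End.mul_apply]; abel
        rw [h2]
        exact (cm x).add_mem (H951.mem_cm.2 ⟨_, rfl⟩) ih
    exact key j (y v)
  have hsurj : ∀ w ∈ cm x, ∃ v ∈ cm x, y v = w := by
    have h1 : (cm x).map y = cm x := by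
      apply Submodule.eq_of_le_of_finrank_eq
      · rintro _ ⟨w, hw, rfl⟩
        exact hyW w hw
      · exact (LinearEquiv.finrank_eq (Submodule.equivMapOfInjective y hy (cm x))).symm
    intro w hw
    rw [← h1] at hw
    exact hw
  have hpow : ∀ n : ℕ, y * x ^ n = (x ^ j) ^ n * y := by
    intro n
    induction n with
    | zero => simp
    | succ n ih => rw [pow_succ, ← mul_assoc, ih, mul_assoc, hyx, ← mul_assoc, ← pow_succ]
  have hconj : ∀ f : F[X], y * aeval x f = aeval (x ^ j) f * y := by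
    intro f
    induction f using Polynomial.induction_on' with
    | add p q hp hq => rw [map_add, map_add, mul_add, add_mul, hp, hq]
    | monomial n a =>
      rw [aeval_monomial, aeval_monomial, mul_assoc, ← hpow, ← mul_assoc, ← mul_assoc,
        (Algebra.commutes a y).symm]
  have hcomp : ∀ w ∈ cm x, aeval x (P.comp (X ^ j)) w = 0 := by
    intro w hw
    obtain ⟨v, hv, rfl⟩ := hsurj w hw
    have h1 : aeval x (P.comp (X ^ j)) = aeval (x ^ j) P := by
      rw [aeval_comp, map_pow, aeval_X]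
    rw [h1]
    have h2 := congrArg (fun z : Module.End F V => z v) (hconj P)
    have h3 : y (aeval x P v) = aeval (x ^ j) P (y v) := h2
    rw [← h3, hPW v hv, map_zero]
  have hdvd : P ∣ P.comp (X ^ j) := by
    by_contra hnd
    have hco : IsCoprime P (P.comp (X ^ j)) := (hP.coprime_iff_not_dvd).2 hnd
    obtain ⟨a, b, hab⟩ := hco
    obtain ⟨v, hv, hv0⟩ := (Submodule.ne_bot_iff _).1 hirr.1
    apply hv0
    have h1 : aeval x (a * P + b * P.comp (X ^ j)) v = v := by rw [hab]; simp only [_root_.map_one, _root_.Module.End.one_apply]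
    rw [← h1, map_add, LinearMap.add_apply, map_mul, map_mul, Module.End.mul_apply, Module.End.mul_apply,
      hPW v hv, hcomp v hv, map_zero, map_zero, add_zero]
  have hroot : aeval (AdjoinRoot.root P ^ j) P = 0 := by
    have h1 : aeval (AdjoinRoot.root P) (P.comp (X ^ j)) = 0 := by
      obtain ⟨c, hc⟩ := hdvd
      rw [hc, map_mul, AdjoinRoot.aeval_eq, AdjoinRoot.mk_self, zero_mul]
    rwa [aeval_comp, map_pow, aeval_X] at h1
  have hfix := aut_pow hP hroot
  rw [hdeg] at hfix
  have hF : Fact (Irreducible P) := ⟨hP⟩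
  have hα : orderOf (AdjoinRoot.root P) = r := by
    have h1 : (AdjoinRoot.root P) ^ r = 1 := by
      have h2 : P ∣ X ^ r - 1 := hd.trans (cyclotomic.dvd_X_pow_sub_one r F)
      obtain ⟨c, hc⟩ := h2
      have h3 : aeval (AdjoinRoot.root P) (X ^ r - 1 : F[X]) = 0 := by
        rw [hc, map_mul, AdjoinRoot.aeval_eq, AdjoinRoot.mk_self, zero_mul]
      rw [map_sub, map_pow, aeval_X, map_one] at h3
      exact sub_eq_zero.1 h3
    refine orderOf_eq_prime h1 fun h2 => ?_
    have h3 : P ∣ X - 1 := by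
      have h4 : AdjoinRoot.mk P (X - 1) = 0 := by
        rw [map_sub, AdjoinRoot.mk_X, h2, map_one, sub_self]
      exact AdjoinRoot.mk_eq_zero.1 h4
    have h4 := natDegree_le_of_dvd h3 (X_sub_C_ne_zero (1 : F) |> fun h => by simpa only [_root_.ne_eq, _root_.map_one] using h)
    have h5 : natDegree (X - 1 : F[X]) = 1 := by
      have := natDegree_X_sub_C (1 : F)
      rwa [map_one] at this
    omega
  have h1 : (AdjoinRoot.root P) ^ (j ^ e) = (AdjoinRoot.root P) ^ 1 := by rw [hfix, pow_one]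
  have h0 : AdjoinRoot.root P ≠ 0 := by
    intro h0
    rw [h0, orderOf_zero] at hα
    exact hr.prime.ne_zero hα.symm
  have h2 : (Units.mk0 _ h0) ^ (j ^ e) = (Units.mk0 _ h0) ^ 1 := Units.ext (by
    push_cast [Units.val_mk0]
    exact h1)
  rw [pow_eq_pow_iff_modEq, ← orderOf_units, Units.val_mk0, hα] at h2
  exact h2

omit [Fintype F] [FiniteDimensional F V] in
theorem pow_conj {j n : ℕ} (hyx : y * x = x ^ j * y) : y ^ n * x = x ^ (j ^ n) * y ^ n := by
  have hpow : ∀ m : ℕ, y * x ^ m = x ^ (j * m) * y := by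
    intro m
    induction m with
    | zero => simp
    | succ m ih => rw [pow_succ, ← mul_assoc, ih, mul_assoc, hyx, ← mul_assoc, ← pow_add, mul_add, mul_one]
  induction n with
  | zero => simp
  | succ n ih => rw [pow_succ', mul_assoc, ih, ← mul_assoc, hpow, mul_assoc, ← pow_succ', ← pow_succ']

/-- an element of order `p`, `p ∤ e`, normalising `⟨x⟩` centralises `x`. -/
theorem comm_of_norm (hr : PP (Nat.card F) e r) (he : 2 ≤ e) (hx : x ^ r = 1) (hcm : finrank F (cm x) = e)
    {j p : ℕ} (hyx : y * x = x ^ j * y) (hp : p.Coprime e) (hyp : y ^ p = 1) (hp0 : p ≠ 0) : y * x = x * y := by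
  have hy : Function.Injective y := by
    intro a b hab
    obtain ⟨m, rfl⟩ := Nat.exists_eq_succ_of_ne_zero hp0
    have h1 : ∀ v, (y ^ m) (y v) = v := fun v => by
      rw [← Module.End.mul_apply, ← pow_succ, hyp]; rfl
    rw [← h1 a, hab, h1 b]
  have h1 := pow_e_modEq hr he hx hcm hy hyx
  have hx1 : x ≠ 1 := by
    rintro rfl
    have h2 : cm (1 : Module.End F V) = ⊥ := by
      rw [eq_bot_iff]
      intro v hv
      obtain ⟨w, rfl⟩ := H951.mem_cm.1 hv
      simp only [_root_.Module.End.one_apply, _root_.sub_self, _root_.ZeroMemClass.zero_mem]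
    rw [h2, finrank_bot] at hcm
    omega
  have hxo : orderOf x = r := by
    have := Fact.mk hr.prime
    exact orderOf_eq_prime hx hx1
  have hr1 := hr.prime.pos
  have hxu : IsUnit x := by
    refine ⟨⟨x, x ^ (r - 1), ?_, ?_⟩, rfl⟩
    · rw [← pow_succ', Nat.sub_add_cancel hr1, hx]
    · rw [← pow_succ, Nat.sub_add_cancel hr1, hx]
  obtain ⟨u, rfl⟩ := hxu
  have h2 : j ^ p ≡ 1 [MOD r] := by
    have h3 := pow_conj (n := p) hyx
    rw [hyp, one_mul, mul_one] at h3
    have h4 : u ^ (j ^ p) = u ^ 1 := Units.ext (by push_cast; rw [pow_one]; exact h3.symm)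
    rw [pow_eq_pow_iff_modEq, ← orderOf_units, hxo] at h4
    exact h4
  have h3 : j ≡ 1 [MOD r] := by
    rw [← ZMod.natCast_eq_natCast_iff] at h1 h2 ⊢
    push_cast at h1 h2 ⊢
    have h4 : orderOf (j : ZMod r) ∣ 1 := by
      rw [← hp]
      exact Nat.dvd_gcd (orderOf_dvd_of_pow_eq_one h2) (orderOf_dvd_of_pow_eq_one h1)
    rw [Nat.dvd_one, orderOf_eq_one_iff] at h4
    exact h4
  have h4 : ((u : Module.End F V)) ^ j = u := by
    have h5 : u ^ j = u ^ 1 := by
      rw [pow_eq_pow_iff_modEq, ← orderOf_units, hxo]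
      exact h3
    rw [pow_one] at h5
    exact_mod_cast congrArg Units.val h5
  rw [hyx, h4]

/-- a `p`-element commuting with `x` acts trivially on `[V,x]` -/
theorem cm_le_fx (hr : PP (Nat.card F) e r) (he : 2 ≤ e) (hx : x ^ r = 1) (hcm : finrank F (cm x) = e)
    {p : ℕ} [CharP F p] [Fact p.Prime] (hyx : y * x = x * y) {n : ℕ} (hyp : y ^ (p ^ n) = 1) : cm x ≤ fx y := by
  have hinv : _root_.Cfsg.Agent.H951.Inv x (fx y) := by
    intro w hw
    rw [H951.mem_fx] at hw ⊢
    have h1 : y (x w) = x (y w) := congrArg (fun z : Module.End F V => z w) hyx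
    rw [h1, hw]
  rcases le_or hr (by omega) hx hcm hinv with h | h
  · exfalso
    have hr0 := hr.ne0 (by omega)
    have h0 : cm x ⊓ fx y = ⊥ := by
      rw [eq_bot_iff, ← (H951.isCompl_fx_cm hr0 hx).inf_eq_bot]
      exact fun v hv => ⟨h hv.2, hv.1⟩
    have hz : (y - 1) ^ (p ^ n) = 0 := by
      have : CharP (Module.End F V) p := by
        have : Nontrivial V := by
          by_contra hcon
          rw [not_nontrivial_iff_subsingleton] at hcon
          have h8 : finrank F (cm x) ≤ finrank F V := Submodule.finrank_le _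
          have h9 : finrank F V = 0 := finrank_zero_of_subsingleton
          omega
        exact charP_of_injective_algebraMap (algebraMap F (Module.End F V)).injective p
      rw [sub_pow_char_pow_of_commute (p := p) n (Commute.one_right y), hyp, one_pow, sub_self]
    -- `y - 1` is injective on `cm x`
    have hstab : ∀ w ∈ cm x, (y - 1) w ∈ cm x := by
      intro w hw
      obtain ⟨v, rfl⟩ := H951.mem_cm.1 hw
      refine H951.mem_cm.2 ⟨(y - 1) v, ?_⟩
      have h1 : y (x v) = x (y v) := congrArg (fun z : Module.End F V => z v) hyx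
      rw [LinearMap.sub_apply, LinearMap.sub_apply, Module.End.one_apply, Module.End.one_apply, map_sub,
        map_sub, h1]
      abel
    have hinj : ∀ w ∈ cm x, (y - 1) w = 0 → w = 0 := by
      intro w hw h1
      rw [LinearMap.sub_apply, Module.End.one_apply, sub_eq_zero] at h1
      rw [← Submodule.mem_bot F, ← h0]
      exact ⟨hw, H951.mem_fx.2 h1⟩
    have key : ∀ m : ℕ, ∀ w ∈ cm x, ((y - 1) ^ m) w = 0 → w = 0 := by
      intro m
      induction m with
      | zero => intro w _ h1; simpa using h1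
      | succ m ih =>
        intro w hw h1
        rw [pow_succ, Module.End.mul_apply] at h1
        exact hinj w hw (ih _ (hstab w hw) h1)
    obtain ⟨v, hv, hv0⟩ := (Submodule.ne_bot_iff _).1 (irr_cm hr (by omega) hx hcm).1
    exact hv0 (key _ v hv (by rw [hz]; rfl))
  · exact h

/-- **No element of order `p` normalises `⟨x⟩`**, if `dim V ≤ e + 1`, `p ∤ e`. -/
theorem eq_one_of_norm (hr : PP (Nat.card F) e r) (he : 2 ≤ e) (hx : x ^ r = 1) (hcm : finrank F (cm x) = e)
    (hd : finrank F V ≤ e + 1) {p : ℕ} [CharP F p] [hpp : Fact p.Prime] {j : ℕ} (hyx : y * x = x ^ j * y)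
    (hp : p.Coprime e) (hyp : y ^ p = 1) : y = 1 := by
  have hcomm := comm_of_norm hr he hx hcm hyx hp hyp hpp.out.ne_zero
  have h1 := cm_le_fx hr he hx hcm hcomm (n := 1) (by rwa [pow_one])
  have hr0 := hr.ne0 (by omega)
  have hz : (y - 1) ^ p = 0 := by
    have : CharP (Module.End F V) p := by
      have : Nontrivial V := by
        by_contra hcon
        rw [not_nontrivial_iff_subsingleton] at hcon
        have h8 : finrank F (cm x) ≤ finrank F V := Submodule.finrank_le _
        have h9 : finrank F V = 0 := finrank_zero_of_subsingleton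
        omega
      exact charP_of_injective_algebraMap (algebraMap F (Module.End F V)).injective p
    rw [sub_pow_char_of_commute (p := p) (Commute.one_right y), hyp, one_pow, sub_self]
  -- `y - 1` has rank at most one and image in `fx x`, kernel contains `cm x`
  have hfx : fx x ≤ fx y := by
    intro w hw
    rw [H951.mem_fx] at hw ⊢
    have h2 := H951.finrank_fx_add_cm (F := F) hr0 hx
    have h3 : finrank F (fx x) ≤ 1 := by omega
    have hyw : y w ∈ fx x := by
      rw [H951.mem_fx]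
      have h4 : y (x w) = x (y w) := congrArg (fun z : Module.End F V => z w) hcomm
      rw [← h4, hw]
    by_cases hw0 : w = 0
    · rw [hw0, map_zero]
    · have h5 : finrank F (fx x) = 1 := by
        have h6 : finrank F (fx x) ≠ 0 := fun h7 => by
          rw [Submodule.finrank_eq_zero] at h7
          exact hw0 ((Submodule.mem_bot F).1 (h7 ▸ H951.mem_fx.2 hw))
        omega
      obtain ⟨c, hc⟩ := (finrank_eq_one_iff_of_nonzero' (⟨w, H951.mem_fx.2 hw⟩ : fx x)
        (fun h => hw0 (congrArg Subtype.val h))).1 h5 ⟨y w, hyw⟩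
      have hc' : c • w = y w := congrArg Subtype.val hc
      have h6 : ∀ m : ℕ, ((y - 1) ^ m) w = (c - 1) ^ m • w := by
        intro m
        induction m with
        | zero => simp
        | succ m ih =>
          rw [pow_succ', Module.End.mul_apply, ih, map_smul, LinearMap.sub_apply, Module.End.one_apply, ← hc',
            pow_succ, mul_smul, sub_smul, one_smul]
      have h7 := h6 p
      rw [hz, LinearMap.zero_apply] at h7
      have h8 : c - 1 = 0 := by
        rcases smul_eq_zero.1 h7.symm with h | h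
        · exact pow_eq_zero_iff hpp.out.ne_zero |>.1 h
        · exact absurd h hw0
      rw [← hc', sub_eq_zero.1 h8, one_smul]
  refine LinearMap.ext fun v => ?_
  have h2 : v ∈ fx x ⊔ cm x := by rw [(H951.isCompl_fx_cm hr0 hx).sup_eq_top]; trivial
  exact H951.mem_fx.1 (sup_le hfx h1 h2)

end

section group

variable {F : Type} [Field F] [Fintype F] {ι : Type} [Fintype ι] [DecidableEq ι] {X T : Type*} [Group X] [Group T]
  [Finite X] {e r p : ℕ}

theorem exists_zpow {P : Subgroup T} [IsCyclic P] [Finite P] (hr : r.Prime) {x y : T} (hx : x ∈ P)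
    (hxo : orderOf x = r) (hy : y ∈ Subgroup.normalizer (P : Set T)) : ∃ j : ℕ, y * x * y⁻¹ = x ^ j := by
  have h1 : y * x * y⁻¹ ∈ P := (Subgroup.mem_normalizer_iff.1 hy x).1 hx
  have h2 : orderOf (⟨y * x * y⁻¹, h1⟩ : P) = r := by
    rw [Subgroup.orderOf_mk, ← hxo]
    exact orderOf_injective (MulAut.conj y).toMonoidHom (MulAut.conj y).injective x
  have h3 : orderOf (⟨x, hx⟩ : P) = r := by rw [Subgroup.orderOf_mk, hxo]
  have h4 := Cfsg.Agent.H264.FKS.mem_zpowers_of_cyclic h3 h2 hr.pos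
  have h5 : (⟨y * x * y⁻¹, h1⟩ : P) ∈ Submonoid.powers (⟨x, hx⟩ : P) := mem_powers_iff_mem_zpowers.2 h4
  obtain ⟨j, hj⟩ := h5
  exact ⟨j, (congrArg Subtype.val hj).symm⟩

theorem no_norm (hr : PP (Nat.card F) e r) (he : 2 ≤ e) (hdim : Fintype.card ι ≤ e + 1)
    (σ : X →* Matrix.GeneralLinearGroup ι F) (hσ : Function.Injective σ) (π : X →* T) (hπ : Function.Surjective π)
    (hker : ∀ z, π z = 1 → z ∈ Subgroup.center X ∧ z ^ 2 = 1) [CharP F p] [hpp : Fact p.Prime] (hp2 : p ≠ 2)
    (hp : p.Coprime e) {P : Subgroup T} (hP : IsPGroup r P) (hP1 : P ≠ ⊥) {y : T}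
    (hy : y ∈ Subgroup.normalizer (P : Set T)) (hyo : orderOf y = p) : False := by
  have hfr := Fact.mk hr.prime
  haveI : Finite T := Finite.of_surjective π hπ
  have hcyc : Cfsg.Agent.H264.FKS.Cyc r T := Cfsg.Agent.H264.FKS.cyc_of_gl
    (prim_of_pp (Nat.card_pos (α := F)) (by omega) hr) he (by omega) σ hσ π hπ
  have := hcyc P hP
  obtain ⟨x, hxP, hxo⟩ : ∃ x ∈ P, orderOf x = r := by
    have h1 : r ∣ Nat.card P := by
      obtain ⟨n, hn⟩ := IsPGroup.iff_card.1 hP
      rw [hn]
      refine dvd_pow_self r fun h0 => hP1 ?_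
      rw [h0, pow_zero] at hn
      exact Subgroup.card_eq_one.1 hn
    obtain ⟨z, hz⟩ := exists_prime_orderOf_dvd_card' r h1
    exact ⟨z, z.2, by rw [← hz, Subgroup.orderOf_coe]⟩
  obtain ⟨j, hj⟩ := exists_zpow hr.prime hxP hxo hy
  have hrodd : Odd r := hr.odd he
  have hpodd : Odd p := hpp.out.odd_of_ne_two hp2
  obtain ⟨x₀, rfl⟩ := hπ x
  obtain ⟨y₀, rfl⟩ := hπ y
  obtain ⟨n, h1, h2⟩ := exists_lift_odd π (fun z hz => (hker z hz).2) hrodd hxo
  obtain ⟨m, h3, h4⟩ := exists_lift_odd π (fun z hz => (hker z hz).2) hpodd hyo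
  generalize x₀ ^ n = a at h1 h2
  generalize y₀ ^ m = b at h3 h4
  rw [← h1, ← h3] at hj
  -- the relation lifts
  have h5 : π (b * a * b⁻¹ * (a ^ j)⁻¹) = 1 := by
    rw [map_mul, map_mul, map_mul, map_inv, map_inv, map_pow, hj, mul_inv_cancel]
  obtain ⟨hc, hz2⟩ := hker _ h5
  obtain ⟨z, hz⟩ : ∃ z, z = b * a * b⁻¹ * (a ^ j)⁻¹ := ⟨_, rfl⟩
  rw [← hz] at hc hz2
  have h6 : b * a * b⁻¹ = z * a ^ j := by rw [hz]; group
  have h7 : (b * a * b⁻¹) ^ r = 1 := by
    rw [conj_pow, ← h2, pow_orderOf_eq_one, mul_one, mul_inv_cancel]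
  have h8 : (z * a ^ j) ^ r = z ^ r := by
    have hcomm : Commute z (a ^ j) := (Subgroup.mem_center_iff.1 hc (a ^ j)).symm
    rw [hcomm.mul_pow, ← pow_mul, mul_comm j r, pow_mul, ← h2, pow_orderOf_eq_one, one_pow, mul_one]
  have hz1 : z = 1 := by
    rw [← h6, h7] at h8
    obtain ⟨k, hk⟩ := hrodd
    rw [hk, pow_succ, pow_mul, hz2, one_pow, one_mul] at h8
    exact h8.symm
  rw [hz1, one_mul] at h6
  have h9 : b * a = a ^ j * b := by rw [← h6]; group
  -- linear maps
  have hmul : ∀ g h : X, lin (σ (g * h)) = lin (σ g) * lin (σ h) := fun g h => by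
    rw [map_mul, lin, Units.val_mul, Matrix.toLin'_mul]; rfl
  have hpow : ∀ (g : X) (k : ℕ), lin (σ (g ^ k)) = lin (σ g) ^ k := by
    intro g k
    induction k with
    | zero => rw [pow_zero, pow_zero, map_one, lin_one]
    | succ k ih => rw [pow_succ, pow_succ, hmul, ih]
  have hx1 : lin (σ a) ^ r = 1 := by
    rw [← hpow, ← h2, pow_orderOf_eq_one, map_one, lin_one]
  have hxne : lin (σ a) ≠ 1 := by
    intro h
    rw [← lin_one] at h
    have h10 := hσ ((lin_injective h).trans (map_one σ).symm)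
    rw [h10, orderOf_one] at h2
    exact hr.prime.one_lt.ne h2
  have hy1 : lin (σ b) ^ p = 1 := by
    rw [← hpow, ← h4, pow_orderOf_eq_one, map_one, lin_one]
  have hrel : lin (σ b) * lin (σ a) = lin (σ a) ^ j * lin (σ b) := by
    rw [← hmul, h9, hmul, hpow]
  have hfin : finrank F (ι → F) = Fintype.card ι := Module.finrank_fintype_fun_eq_card F
  have hcm : finrank F (cm (lin (σ a))) = e := by
    have hr0 := hr.ne0 (by omega)
    have h10 : e ∣ finrank F (cm (lin (σ a))) := by
      rw [← ord_eq hr]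
      exact H951.ord_dvd_finrank hx1 H951.inv_cm (H951.inf_fx_of_le_cm hr0 hx1 le_rfl)
    obtain ⟨k, hk⟩ := h10
    have h11 : finrank F (cm (lin (σ a))) ≤ finrank F (ι → F) := Submodule.finrank_le _
    have h12 : finrank F (cm (lin (σ a))) ≠ 0 := fun h0 => by
      rw [Submodule.finrank_eq_zero, H951.cm, LinearMap.range_eq_bot, sub_eq_zero] at h0
      exact hxne h0
    have h13 : k = 1 := by
      have h14 : k < 2 := by
        by_contra hcon
        have := Nat.mul_le_mul_left e (show 2 ≤ k by omega)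
        omega
      have h15 : k ≠ 0 := by rintro rfl; omega
      omega
    rw [hk, h13, mul_one]
  have h10 := eq_one_of_norm hr he hx1 hcm (by rw [hfin]; exact hdim) (p := p) hrel hp hy1
  rw [← lin_one] at h10
  have h11 := hσ ((lin_injective h10).trans (map_one σ).symm)
  rw [h11, orderOf_one] at h4
  exact hpp.out.one_lt.ne h4

omit [Finite X] in
/-- **Frattini**: if no element of order `p` normalises an `r`-subgroup, then `p` does not divide the index of a
normal subgroup whose order is divisible by `r`. -/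
theorem not_dvd_index [Finite T] {R : Subgroup T} (S : Subgroup R) [S.Normal] (hr : r.Prime) (hrS : r ∣ Nat.card S)
    (hp : p.Prime)
    (H : ∀ P : Subgroup T, IsPGroup r P → P ≠ ⊥ → ∀ y ∈ Subgroup.normalizer (P : Set T), orderOf y ≠ p) :
    ¬ p ∣ S.index := by
  intro hd
  have hfr := Fact.mk hr
  have hfp := Fact.mk hp
  obtain ⟨P⟩ : Nonempty (Sylow r S) := inferInstance
  have h1 := Sylow.normalizer_sup_eq_top P
  set P₁ : Subgroup R := (P : Subgroup S).map S.subtype with hP₁
  have h2 : S.relIndex (Subgroup.normalizer (P₁ : Set R)) = S.index := by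
    rw [← Subgroup.relIndex_sup_right, h1, Subgroup.relIndex_top_right]
  have h3 : p ∣ Nat.card (Subgroup.normalizer (P₁ : Set R)) := by
    rw [← h2] at hd
    exact hd.trans (Subgroup.relIndex_dvd_card _ _)
  obtain ⟨y, hy⟩ := exists_prime_orderOf_dvd_card' p h3
  refine H (P₁.map R.subtype) ((P.isPGroup'.map _).map _) ?_ ((y : R) : T) ?_ ?_
  · intro h4
    rw [Subgroup.map_eq_bot_iff_of_injective _ R.subtype_injective, hP₁,
      Subgroup.map_eq_bot_iff_of_injective _ S.subtype_injective] at h4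
    exact P.ne_bot_of_dvd_card hrS h4
  · rw [Subgroup.mem_normalizer_iff]
    intro t
    have h5 := Subgroup.mem_normalizer_iff.1 y.2
    constructor
    · rintro ⟨z, hz, rfl⟩
      exact ⟨(y : R) * z * (y : R)⁻¹, (h5 z).1 hz, rfl⟩
    · rintro ⟨z, hz, hzt⟩
      have h6 : t = (((y : R)⁻¹ * z * (y : R) : R) : T) := by
        have : (z : T) = (y : R) * t * ((y : R) : T)⁻¹ := hzt
        push_cast
        rw [this]; group
      refine ⟨(y : R)⁻¹ * z * (y : R), (h5 _).2 ?_, h6.symm⟩
      have h7 : (y : R) * ((y : R)⁻¹ * z * (y : R)) * (y : R)⁻¹ = z := by group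
      rw [h7]
      exact hz
  · rw [Subgroup.orderOf_coe, Subgroup.orderOf_coe, hy]

end group

end Cfsg.Agent.H938.Sax.Frat
end

-- part: H938/Sax/PR
section
/-!
# No isometries of order `p r` in dimension `e + 2`, `ord_r(q) = e` (helper938)
-/

set_option autoImplicit false

namespace Cfsg.Agent.H938.Sax

open Module QuadraticMap Cfsg Cfsg.Geo Cfsg.Agent.LieClassical.OrthCore Cfsg.Agent.H955 Cfsg.Agent.H954.TSing
  Cfsg.Agent.H884.El Cfsg.Agent.LieClassical.OmegaReindex
open Cfsg.Agent.H951 (fx cm Inv)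

universe u v

section

variable {F : Type u} [Field F] {V : Type v} [AddCommGroup V] [Module F V] [FiniteDimensional F V]
  {Q : QuadraticForm F V} {y : Module.End F V} {p : ℕ}

/-- unipotent isometries in dimension `≤ 2`, odd characteristic -/
theorem unip_two (h2 : (2 : F) ≠ 0) (hQ : Nondeg Q) (hd : finrank F V ≤ 2) (hy : ∀ v, Q (y v) = Q v)
    {m : ℕ} (hN : (y - 1) ^ m = 0) : y = 1 := by
  by_contra hne
  have hN1 : y - 1 ≠ 0 := sub_ne_zero.2 hne
  -- the last nonzero power
  classical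
  obtain ⟨k, hk1, hk2⟩ : ∃ k, (y - 1) ^ (k + 1) ≠ 0 ∧ (y - 1) ^ (k + 2) = 0 := by
    have hex : ∃ m, (y - 1) ^ m = 0 := ⟨m, hN⟩
    have h1 := Nat.find_spec hex
    have h3 : Nat.find hex ≠ 0 := by
      intro h0
      rw [h0, pow_zero] at h1
      apply hN1
      have : (1 : Module.End F V) = 0 := h1
      rw [← mul_one (y - 1), this, mul_zero]
    have h4 : Nat.find hex ≠ 1 := by
      intro h0
      rw [h0, pow_one] at h1
      exact hN1 h1
    obtain ⟨k, hk⟩ : ∃ k, Nat.find hex = k + 2 := ⟨Nat.find hex - 2, by omega⟩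
    refine ⟨k, Nat.find_min hex (by omega), by rw [← hk]; exact h1⟩
  obtain ⟨w, hw⟩ : ∃ w, ((y - 1) ^ (k + 1)) w ≠ 0 := by
    by_contra hcon
    push Not at hcon
    exact hk1 (LinearMap.ext hcon)
  set a := ((y - 1) ^ k) w with ha
  set n := ((y - 1) ^ (k + 1)) w with hn
  have hya : y a = a + n := by
    have h1 : (y - 1) a = n := by rw [ha, hn, pow_succ', Module.End.mul_apply]
    rw [LinearMap.sub_apply, Module.End.one_apply] at h1
    rw [← h1]; abel
  have hyn : y n = n := by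
    have h1 : (y - 1) n = 0 := by
      have : (y - 1) n = ((y - 1) ^ (k + 2)) w := by rw [hn, pow_succ' (y - 1) (k + 1), Module.End.mul_apply]
      rw [this, hk2]; rfl
    rw [LinearMap.sub_apply, Module.End.one_apply, sub_eq_zero] at h1
    exact h1
  have hpol : ∀ a b, polar Q (y a) (y b) = polar Q a b := fun a b => by simp only [polar, ← map_add, hy]
  have hnn : polar Q n n = 0 := by
    have h1 := hpol a n
    rw [hya, hyn, polar_add_left] at h1
    exact (add_eq_left).1 h1
  have hQn : Q n = 0 := by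
    rw [polar_self, two_nsmul, ← two_mul] at hnn
    exact (mul_eq_zero.1 hnn).resolve_left h2
  have han : polar Q a n = 0 := by
    have h1 := hy a
    rw [hya, QuadraticMap.map_add (⇑Q) a n, hQn, add_zero] at h1
    exact (add_eq_left).1 h1
  have hli : LinearIndependent F ![a, n] := by
    rw [LinearIndependent.pair_iff]
    intro s t hst
    have h1 : s • n = 0 := by
      have h2 := congrArg y hst
      rw [map_add, map_smul, map_smul, hya, hyn, map_zero, smul_add] at h2
      have h3 : s • n = (s • a + s • n + t • n) - (s • a + t • n) := by abel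
      rw [h3, h2, hst, sub_zero]
    have hs : s = 0 := (smul_eq_zero.1 h1).resolve_right hw
    rw [hs, zero_smul, zero_add] at hst
    exact ⟨hs, (smul_eq_zero.1 hst).resolve_right hw⟩
  have hcard : Fintype.card (Fin 2) = finrank F V := by
    have h1 := hli.fintype_card_le_finrank
    rw [Fintype.card_fin] at h1 ⊢
    omega
  have hspan := hli.span_eq_top_of_card_eq_finrank' hcard
  apply hw
  refine hQ n fun v => ?_
  have hv : v ∈ Submodule.span F (Set.range ![a, n]) := by rw [hspan]; trivial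
  rw [Matrix.range_cons, Matrix.range_cons, Matrix.range_empty, Set.union_empty,
    Set.singleton_union, Submodule.mem_span_pair] at hv
  obtain ⟨s, t, rfl⟩ := hv
  rw [polar_add_right, polar_smul_right, polar_smul_right, polar_comm, han, hnn, smul_zero, smul_zero, add_zero]

end

section

variable {F : Type u} [Field F] [Fintype F] {V : Type v} [AddCommGroup V] [Module F V] [FiniteDimensional F V]
  {Q : QuadraticForm F V} {g : Module.End F V} {e p r : ℕ}

/-- no isometry of order `p r` in dimension `e + 2` -/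
theorem no_pr (h2 : (2 : F) ≠ 0) (hr : PP (Nat.card F) e r) (he : 3 ≤ e) (hQ : Nondeg Q)
    (hg : ∀ v, Q (g v) = Q v) [CharP F p] [hpp : Fact p.Prime] (ho : orderOf g = p * r)
    (hd : finrank F V ≤ e + 2) : False := by
  have hgpr : g ^ (p * r) = 1 := by rw [← ho]; exact pow_orderOf_eq_one g
  have hr0 := hr.prime.pos
  have hp0 := hpp.out.pos
  have hx : Iso Q (g ^ p) r := Iso.mk' hr (by omega) (by rw [← pow_mul, hgpr]) (iso_pow hg p)
  have hx1 : g ^ p ≠ 1 := by
    intro h
    have h0 := orderOf_dvd_of_pow_eq_one h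
    rw [ho] at h0
    have h1 := Nat.le_of_dvd hp0 h0
    have h2 : p * 2 ≤ p * r := Nat.mul_le_mul_left p hr.prime.two_le
    omega
  have hy1 : g ^ r ≠ 1 := by
    intro h
    have h0 := orderOf_dvd_of_pow_eq_one h
    rw [ho] at h0
    have h1 := Nat.le_of_dvd hr0 h0
    have h2 : 2 * r ≤ p * r := Nat.mul_le_mul_right r hpp.out.two_le
    omega
  have hyp : (g ^ r) ^ p = 1 := by rw [← pow_mul, mul_comm, hgpr]
  have hxy : g ^ r * g ^ p = g ^ p * g ^ r := by rw [← pow_add, ← pow_add, add_comm]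
  have hcm : finrank F (cm (g ^ p)) = e := by
    obtain ⟨k, hk⟩ := hx.dvd_cm hr
    have h11 : finrank F (cm (g ^ p)) ≤ finrank F V := Submodule.finrank_le _
    have h12 : finrank F (cm (g ^ p)) ≠ 0 := fun h0 => cm_ne_bot hx1 (Submodule.finrank_eq_zero.1 h0)
    have h14 : k < 2 := by
      by_contra hcon
      have := Nat.mul_le_mul_left e (show 2 ≤ k by omega)
      omega
    have h15 : k ≠ 0 := by rintro rfl; omega
    rw [hk, show k = 1 by omega, mul_one]
  have hle : cm (g ^ p) ≤ fx (g ^ r) := Frat.cm_le_fx hr (by omega) hx.pow hcm hxy (n := 1) (by rwa [pow_one])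
  -- the complement
  have hinv : _root_.Cfsg.Agent.H951.Inv (g ^ r) (fx (g ^ p)) := Typ.inv_fx_of_comm hxy.symm
  have hnd := nondeg_fx hQ hx.iso hx.ne0 hx.pow
  have hfd : finrank F (fx (g ^ p)) ≤ 2 := by
    have := hx.finrank_add
    omega
  have hone : (g ^ r).restrict hinv = 1 := by
    refine unip_two h2 hnd hfd (fun v => iso_pow hg r v) (m := p) ?_
    have hV : Nontrivial V := by
      by_contra hcon
      rw [not_nontrivial_iff_subsingleton] at hcon
      have h8 : finrank F (cm (g ^ p)) ≤ finrank F V := Submodule.finrank_le _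
      have h9 : finrank F V = 0 := finrank_zero_of_subsingleton
      omega
    have hch : CharP (Module.End F V) p :=
      charP_of_injective_algebraMap (algebraMap F (Module.End F V)).injective p
    have hz : (g ^ r - 1) ^ p = 0 := by
      rw [sub_pow_char_of_commute (p := p) (Commute.one_right _), hyp, one_pow, sub_self]
    refine LinearMap.ext fun w => Subtype.ext ?_
    have key : ∀ m : ℕ, ∀ w : fx (g ^ p), ((((g ^ r).restrict hinv - 1) ^ m) w : V) = ((g ^ r - 1) ^ m) w := by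
      intro m
      induction m with
      | zero => intro w; rfl
      | succ m ih =>
        intro w
        rw [pow_succ, pow_succ, Module.End.mul_apply, Module.End.mul_apply, ih]
        rfl
    rw [key, hz]; rfl
  apply hy1
  refine LinearMap.ext fun v => ?_
  have h3 : v ∈ fx (g ^ p) ⊔ cm (g ^ p) := by rw [(H951.isCompl_fx_cm hx.ne0 hx.pow).sup_eq_top]; trivial
  obtain ⟨a, ha, b, hb, rfl⟩ := Submodule.mem_sup.1 h3
  rw [map_add, H951.mem_fx.1 (hle hb)]
  have h4 := congrArg Subtype.val (LinearMap.congr_fun hone ⟨a, ha⟩)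
  have h5 : (g ^ r) a = a := h4
  rw [h5]; rfl

end

end Cfsg.Agent.H938.Sax
end

-- part: H938/Sax/FourA
section
/-!
# `Ω_9(q)` and `PSp_8(q)`, `q` odd: element order `p r`, `ord_r(q) = 6` (helper938)
-/

set_option autoImplicit false
set_option linter.style.haveILetI false

namespace Cfsg.Agent.H938.Sax

open Module QuadraticMap Cfsg Cfsg.Geo Cfsg.Agent.LieClassical.OrthCore Cfsg.Agent.H955 Cfsg.Agent.H954.TSing
  Cfsg.Agent.H884.El Cfsg.Agent.LieClassical.OmegaReindex Cfsg.Agent.OrdDiv Cfsg.Agent.H436 Cfsg.Agent.H915.GN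
  Cfsg.Agent.H264.GN Cfsg.Agent.H264.FKS
open Cfsg.Agent.H951 (fx cm Inv)
open scoped MatrixGroups Matrix

universe u v

section perp

variable {F : Type u} [Field F] {V : Type v} [AddCommGroup V] [Module F V] [FiniteDimensional F V]
  {Q : QuadraticForm F V} {g : Module.End F V}

/-- an isometry fixing a nonsingular vector has the same order on its orthogonal complement -/
theorem perp_restrict (h2F : (2 : F) ≠ 0) (hQ : Nondeg Q) (hg : ∀ v, Q (g v) = Q v) {v : V} (hv : Q v ≠ 0)
    (hfix : g v = v) : ∃ hinv : _root_.Cfsg.Agent.H951.Inv g (perp Q (Submodule.span F {v})),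
      orderOf (g.restrict hinv) = orderOf g ∧ Nondeg (res Q (perp Q (Submodule.span F {v}))) ∧
        finrank F (perp Q (Submodule.span F {v})) + 1 = finrank F V := by
  set W := perp Q (Submodule.span F {v}) with hW
  have hpol : ∀ a b, polar Q (g a) (g b) = polar Q a b := fun a b => by
    simp only [polar, ← map_add, hg]
  have hinv : _root_.Cfsg.Agent.H951.Inv g W := by
    intro w hw u hu
    obtain ⟨c, rfl⟩ := Submodule.mem_span_singleton.1 hu
    have h4 := hw (c • v) hu
    rw [← hpol, map_smul, hfix] at h4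
    exact h4
  have hv0 : v ≠ 0 := by
    rintro rfl
    exact hv (QuadraticMap.map_zero Q)
  have hns : Nondeg (res Q (Submodule.span F {v})) := by
    rw [nondeg_res_iff]
    intro x hx hxy
    obtain ⟨c, rfl⟩ := Submodule.mem_span_singleton.1 hx
    have h4 := hxy v (Submodule.mem_span_singleton_self v)
    rw [polar_smul_left, polar_self, smul_eq_mul, two_nsmul, ← two_mul] at h4
    rcases mul_eq_zero.1 h4 with h | h
    · rw [h, zero_smul]
    · exact absurd ((mul_eq_zero.1 h).resolve_left h2F) hv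
  have hnW : Nondeg (res Q W) := nondeg_perp hQ hns
  have hdW : finrank F W + 1 = finrank F V := by
    have := finrank_add_perp hQ (Submodule.span F {v})
    rw [finrank_span_singleton (K := F) hv0, ← hW] at this
    omega
  have hcompl := isCompl_perp hns
  refine ⟨hinv, ?_, hnW, hdW⟩
  apply Nat.dvd_antisymm
  · apply orderOf_dvd_of_pow_eq_one
    refine LinearMap.ext fun w => Subtype.ext ?_
    rw [restrict_pow_coe, pow_orderOf_eq_one]
    rfl
  · apply orderOf_dvd_of_pow_eq_one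
    refine LinearMap.ext fun x => ?_
    have hx : x ∈ Submodule.span F {v} ⊔ W := by rw [hcompl.sup_eq_top]; trivial
    obtain ⟨a, ha, b, hb, rfl⟩ := Submodule.mem_sup.1 hx
    obtain ⟨c, rfl⟩ := Submodule.mem_span_singleton.1 ha
    rw [map_add, map_smul, H951.pow_fx hfix]
    have h5 := restrict_pow_coe hinv (orderOf (g.restrict hinv)) ⟨b, hb⟩
    rw [pow_orderOf_eq_one] at h5
    change c • v + _ = c • v + b
    rw [← h5]
    rfl

end perp

section quad

variable {ι : Type} [Fintype ι] [DecidableEq ι] {F : Type u} [Field F] [Fintype F] {Q : QuadraticForm F (ι → F)}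
  {e p r : ℕ}

omit [Field F] [Fintype F] in
theorem odd_pr (hpp : p.Prime) (hp2 : p ≠ 2) (hr : PP (Nat.card F) e r) (he : 3 ≤ e) : Odd (p * r) :=
  (hpp.odd_of_ne_two hp2).mul (hr.odd (by omega))

theorem pomega_no_pr (h2 : (2 : F) ≠ 0) (hQ : Nondeg Q) (hD : H390.Lift.Data Q) [CharP F p] [hpp : Fact p.Prime]
    (hp2 : p ≠ 2) (hr : PP (Nat.card F) e r) (he : 3 ≤ e) (hd : Fintype.card ι ≤ e + 2) (m : POmega F (⇑Q)) :
    orderOf m ≠ p * r := by
  intro ho
  obtain ⟨g, h1, h3⟩ := exists_lin_iso hD (odd_pr hpp.out hp2 hr he) ho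
  exact no_pr h2 hr he hQ h1 h3 (by rw [finrank_V]; exact hd)

/-- stabilisers of nonsingular points -/
theorem point_no_pr (h2 : (2 : F) ≠ 0) (hQ : Nondeg Q) (hD : H390.Lift.Data Q) [CharP F p] [hpp : Fact p.Prime]
    (hp2 : p ≠ 2) (hr : PP (Nat.card F) e r) (he : 3 ≤ e) (hd : Fintype.card ι ≤ e + 3)
    {M : Subgroup (POmega F (⇑Q))} {v : ι → F} (hv : Q v ≠ 0)
    (hM : pre (⇑Q) M ≤ subspaceStabilizer (Submodule.span F {v})) (m : POmega F (⇑Q)) (hm : m ∈ M) :
    orderOf m ≠ p * r := by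
  intro ho
  have hodd := odd_pr hpp.out hp2 hr he
  obtain ⟨g, h1, h4, h3⟩ := exists_pre hD hodd hm ho
  have hfix : _root_.Cfsg.Agent.H884.El.lin g v = v := fix_of_line h3 hodd (by rw [← h4]; exact pow_orderOf_eq_one _) hv
    (inv_of_mem (hM h1) v (Submodule.mem_span_singleton_self v))
  obtain ⟨hinv, h5, h6, h7⟩ := perp_restrict h2 hQ h3 hv hfix
  refine no_pr h2 hr he h6 (g := (_root_.Cfsg.Agent.H884.El.lin g).restrict hinv) (fun w => h3 w) (h5.trans h4) ?_
  rw [finrank_V] at h7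
  omega

end quad

/-! ### existence -/

section rows

variable {p f r : ℕ} {T : Type u} [Group T]

theorem psp8_pr (hp : p.Prime) (hf : 1 ≤ f) {F : Type} [Field F] [Fintype F]
    (hF : Fintype.card F = p ^ f) (hr : PP (p ^ f) 6 r) : p * r ∈ Set.range (orderOf : PSp 4 F → ℕ) := by
  haveI : Fact p.Prime := ⟨hp⟩
  haveI := charP_of hp hf hF
  have hq : 1 ≤ p ^ f := Nat.one_le_pow _ _ hp.pos
  have hT : IsNamed (.psp 4 (p ^ f)) (PSp 4 F) :=
    .mk' ⟨F, inferInstance, inferInstance, hF, ⟨MulEquiv.refl _⟩⟩ ⟨by omega, fun _ => by omega, hF ▸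
      Fintype.isPrimePow_card_of_field⟩ (by rw [← hF]; exact psp_eq (by omega))
  have hr' := prim_of_pp hq (by omega) hr
  have key := Cfsg.Agent.S2472.result (F := F) p 4 (by omega) (fun h => by omega) r hr.prime
    (ne_of_prim' hr' (by omega)) (ne_char hr' hf) (dvd_psp hT (by omega) dvd_rfl (k := 3) (by omega) (by omega) hr')
    6 3 (by rw [hF]; exact hr.ord.symm) (Or.inr ⟨by decide, by decide⟩)
  by_contra hcon
  rw [mul_comm] at hcon
  exact absurd (key.1 hcon) (by norm_num)

theorem exists_psp8_pr (hp : p.Prime) (hf : 1 ≤ f) (hr : PP (p ^ f) 6 r)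
    (hT : IsNamed (.psp 4 (p ^ f)) T) : ∃ g : T, orderOf g = p * r := by
  obtain ⟨F, _, _, hF, ⟨e⟩⟩ := hT.real
  obtain ⟨g, hg⟩ := psp8_pr hp hf hF hr
  exact ⟨e.symm g, by rw [← hg]; exact orderOf_injective e.symm.toMonoidHom e.symm.injective g⟩

theorem exists_oodd9_pr (hp : p.Prime) (hf : 1 ≤ f) (hr : PP (p ^ f) 6 r)
    (hT : IsNamed (.oodd 4 (p ^ f)) T) : ∃ g : T, orderOf g = p * r := by
  obtain ⟨F, _, _, hF, ⟨e⟩⟩ := hT.real
  have hodd : Odd (Fintype.card F) := by rw [hF]; exact hT.cond.2.1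
  have hrp : p ≠ r := (ne_char (prim_of_pp (Nat.one_le_pow _ _ hp.pos) (by omega) hr) hf).symm
  have h1 := psp8_pr hp hf hF hr
  obtain ⟨g, hg⟩ := (Cfsg.Agent.S2474.result hodd 4 (by omega) p r hp hr.prime hrp).2 h1
  exact ⟨e.symm g, by rw [← hg]; exact orderOf_injective e.symm.toMonoidHom e.symm.injective g⟩

/-- no element of order `p` normalises an `s`-subgroup, `ord_s(q) = 8` -/
theorem oodd9_norm (hp : p.Prime) (hp2 : p ≠ 2) (hf : 1 ≤ f) {s : ℕ} (hs : PP (p ^ f) 8 s)
    (hT : IsNamed (.oodd 4 (p ^ f)) T) (P : Subgroup T) (hP : IsPGroup s P) (hP1 : P ≠ ⊥) (y : T)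
    (hy : y ∈ Subgroup.normalizer (P : Set T)) : orderOf y ≠ p := by
  intro ho
  obtain ⟨F, _, _, hF, ⟨e⟩⟩ := hT.real
  haveI : Fact p.Prime := ⟨hp⟩
  haveI := charP_of hp hf hF
  have h2 : (2 : F) ≠ 0 := H390.two_ne_zero_of_odd (by rw [hF]; exact hT.cond.2.1)
  have hD : H390.Lift.Data (quadOdd 4 F) := data_odd (by omega) h2
  have e' : T ≃* POmega F (⇑(quadOdd 4 F)) := by rw [coe_quadOdd]; exact e
  haveI : Finite T := Finite.of_equiv _ e.symm.toEquiv
  refine Frat.no_norm (F := F) (e := 8) (r := s) (p := p) (by rw [Nat.card_eq_fintype_card, hF]; exact hs)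
    (by omega) (ι := Unit ⊕ (Fin 4 ⊕ Fin 4)) (by rw [card_odd])
    ((isometryGroup F (⇑(quadOdd 4 F))).subtype.comp (Omega F (⇑(quadOdd 4 F))).subtype)
    ((Subgroup.subtype_injective _).comp (Subgroup.subtype_injective _))
    (e'.symm.toMonoidHom.comp (QuotientGroup.mk' (Subgroup.center (Omega F (⇑(quadOdd 4 F))))))
    (e'.symm.surjective.comp (QuotientGroup.mk'_surjective _)) (fun z hz => ?_) hp2 ?_ hP hP1 hy ho
  · have h3 : z ∈ Subgroup.center (Omega F (⇑(quadOdd 4 F))) := by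
      have h4 : (QuotientGroup.mk' (Subgroup.center (Omega F (⇑(quadOdd 4 F))))) z = 1 := by
        apply e'.symm.injective
        rw [map_one]; exact hz
      exact (QuotientGroup.eq_one_iff z).1 h4
    exact ⟨h3, H390.Lift.center_sq hD z h3⟩
  · rw [show (8 : ℕ) = 2 ^ 3 by norm_num]
    exact ((Nat.coprime_primes hp Nat.prime_two).2 hp2).pow_right 3

theorem psp8_norm (hp : p.Prime) (hp2 : p ≠ 2) (hf : 1 ≤ f) {s : ℕ} (hs : PP (p ^ f) 8 s)
    (hT : IsNamed (.psp 4 (p ^ f)) T) (P : Subgroup T) (hP : IsPGroup s P) (hP1 : P ≠ ⊥) (y : T)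
    (hy : y ∈ Subgroup.normalizer (P : Set T)) : orderOf y ≠ p := by
  intro ho
  obtain ⟨F, _, _, hF, ⟨e⟩⟩ := hT.real
  haveI : Fact p.Prime := ⟨hp⟩
  haveI := charP_of hp hf hF
  haveI : Finite T := Finite.of_equiv _ e.symm.toEquiv
  refine Frat.no_norm (F := F) (e := 8) (r := s) (p := p) (by rw [Nat.card_eq_fintype_card, hF]; exact hs)
    (by omega) (ι := Fin 4 ⊕ Fin 4) (by simp)
    (MonoidHom.toHomUnits (Matrix.symplecticGroup (Fin 4) F).subtype)
    (fun a b hab => Subtype.ext (congrArg Units.val hab))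
    (e.symm.toMonoidHom.comp (QuotientGroup.mk' (Subgroup.center (Matrix.symplecticGroup (Fin 4) F))))
    (e.symm.surjective.comp (QuotientGroup.mk'_surjective _)) (fun z hz => ?_) hp2 ?_ hP hP1 hy ho
  · have h3 : z ∈ Subgroup.center (Matrix.symplecticGroup (Fin 4) F) := by
      have h4 : (QuotientGroup.mk' (Subgroup.center (Matrix.symplecticGroup (Fin 4) F))) z = 1 := by
        apply e.symm.injective
        rw [map_one]; exact hz
      exact (QuotientGroup.eq_one_iff z).1 h4
    refine ⟨h3, Subtype.ext ?_⟩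
    rcases Cfsg.Agent.ClassicalGeometry.SympInvolutions.center_eq h3 with h | h
    · rw [SubmonoidClass.coe_pow, h, one_pow]; rfl
    · rw [SubmonoidClass.coe_pow, h, neg_one_sq]; rfl
  · rw [show (8 : ℕ) = 2 ^ 3 by norm_num]
    exact ((Nat.coprime_primes hp Nat.prime_two).2 hp2).pow_right 3

theorem mem_of_coprime_index {R : Type*} [Group R] (S : Subgroup R) [S.Normal] {N : ℕ}
    (hN : N.Coprime S.index) {x : R} (hx : orderOf x = N) : x ∈ S := by
  obtain ⟨k, hk⟩ := exists_pow_eq_self_of_coprime (x := x) (n := S.index) (by rw [hx]; exact hN.symm)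
  rw [← hk]
  exact S.pow_mem (Subgroup.pow_index_mem S x) k

theorem exists_ppp' (hp : p.Prime) (hf : 1 ≤ f) (hp2 : p ≠ 2) : (∃ r, PP (p ^ f) 6 r ∧ 6 * f < r) ∧
    ∃ s, PP (p ^ f) 8 s := by
  constructor
  · obtain ⟨r, hr⟩ := exists_pp (q := p) (e := f * 6) hp.two_le (by omega) (fun h => hp2 h.1)
    exact ⟨r, hr.of_pow hf, by have := hr.lt (by omega); omega⟩
  · obtain ⟨r, hr⟩ := exists_pp (q := p) (e := f * 8) hp.two_le (by omega) (fun h => hp2 h.1)
    exact ⟨r, hr.of_pow hf⟩

/-- the socle `PΩ⁻_8(q)` in `T` -/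
theorem ordGap_ominus_four [Finite T] {R : Subgroup T} (hp : p.Prime) (hp2 : p ≠ 2) (hf : 1 ≤ f)
    (hT : IsNamed (.oodd 4 (p ^ f)) T ∨ IsNamed (.psp 4 (p ^ f)) T) (S : Subgroup R) [S.Normal]
    (hC : Subgroup.centralizer (S : Set R) = ⊥) (hS : IsNamed (.ominus 4 (p ^ f)) S) : OrdGap T R := by
  haveI : Fact p.Prime := ⟨hp⟩
  obtain ⟨⟨r, hr, hlt⟩, s, hs⟩ := exists_ppp' hp hf hp2
  have hq : 1 ≤ p ^ f := Nat.one_le_pow _ _ hp.pos
  obtain ⟨x, hx⟩ : ∃ g : T, orderOf g = p * r := by
    rcases hT with h | h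
    · exact exists_oodd9_pr hp hf hr h
    · exact exists_psp8_pr hp hf hr h
  have hsS : s ∣ Nat.card S := by
    refine IsNamed.dvd hS hs.prime ?_ ?_
    · exact (((dvd_pow_add_one hq (e := 4) (by omega) hs).mul_right _).mul_left _)
    · intro h
      have h1 : s ∣ 4 := h.trans (Nat.gcd_dvd_left _ _)
      have h2 := Nat.le_of_dvd (by norm_num) h1
      have := hs.lt (by omega)
      omega
  have hpi : ¬ p ∣ S.index := Frat.not_dvd_index S hs.prime hsS hp fun P hP hP1 y hy => by
    rcases hT with h | h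
    · exact oodd9_norm hp hp2 hf hs h P hP hP1 y hy
    · exact psp8_norm hp hp2 hf hs h P hP hP1 y hy
  obtain ⟨F, _, _, a, b, hF, hab, ⟨e⟩⟩ := hS.real
  haveI := charP_of hp hf hF
  have hodd : Odd (Fintype.card F) := by rw [hF]; exact (hp.odd_of_ne_two hp2).pow
  have h2 : (2 : F) ≠ 0 := H390.two_ne_zero_of_odd hodd
  have hri : ¬ r ∣ S.index := by
    have h3 := Cfsg.Agent.S0818.result p f hf hF 4 (by omega) a b hab
    rw [← Nat.card_congr e.toEquiv, ← Nat.card_congr (MulAut.congr e).toEquiv] at h3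
    have h4 := Sax.index_dvd S hC h3
    intro h5
    have h6 : r ∣ 8 * f := (h5.trans h4).trans (Nat.mul_dvd_mul_right (by split_ifs <;> decide) f)
    rcases hr.prime.dvd_mul.1 h6 with h7 | h7
    · have h8 : r ∣ 2 := hr.prime.dvd_of_dvd_pow (show r ∣ 2 ^ 3 from h7)
      have := Nat.le_of_dvd (by norm_num) h8
      omega
    · have := Nat.le_of_dvd (by omega) h7
      omega
  have hco : (p * r).Coprime S.index :=
    Nat.Coprime.mul_left ((Nat.Prime.coprime_iff_not_dvd hp).2 hpi) ((Nat.Prime.coprime_iff_not_dvd hr.prime).2 hri)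
  refine ordGap_of hx fun m hm ho => ?_
  have h1 : orderOf (⟨m, hm⟩ : R) = p * r := by rw [← ho, ← Subgroup.orderOf_coe]
  have h3 := mem_of_coprime_index S hco h1
  have h4 : orderOf (e ⟨⟨m, hm⟩, h3⟩) = p * r := by
    have h6 : orderOf (e ⟨⟨m, hm⟩, h3⟩) = orderOf (⟨⟨m, hm⟩, h3⟩ : S) :=
      orderOf_injective e.toMonoidHom e.injective _
    rw [h6, ← h1, Subgroup.orderOf_mk]
  have h5 : ∀ m : POmega F (⇑(quadMinus (4 - 1) F a b)), orderOf m ≠ p * r := fun m =>
    pomega_no_pr h2 (nondeg_iff.2 (quadMinus_nondegenerate hab)) (data_minus (by omega) hab) hp2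
      (by rw [Nat.card_eq_fintype_card, hF]; exact hr) (by omega) (by rw [card_minus (by omega)]) m
  rw [coe_quadMinus] at h5
  exact h5 _ h4

section charp

variable {n : ℕ} {g : Grp} [Finite T] {R : Subgroup T}

/-- **`T = PSp_{2n}(q)`, `n ≥ 3`, `(n, p) ≠ (4, 2)`.** -/
theorem charp_psp_gap' (hT : IsNamed (.psp n (p ^ f)) T) (hp : p.Prime) (hf : 1 ≤ f) (hn : 3 ≤ n)
    (hn4 : ¬ (n = 4 ∧ p = 2))
    (hex1 : ¬ (p = 2 ∧ f * (2 * n) = 6)) (hR : R ≠ ⊤) (S : Subgroup R) [S.Normal] [IsSimpleGroup S]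
    (hna : ¬ IsMulCommutative S) (hC : Subgroup.centralizer (S : Set R) = ⊥) (hS : IsNamed g S)
    (hch : HasChar p g) : OrdGap T R := by
  by_cases h4 : n = 4
  · subst h4
    by_cases hfull : Full T R
    · obtain ⟨h1, rfl⟩ := full_psp hT hp hf hn hex1 (fun h => hn4 ⟨rfl, h.1⟩) hR hfull S hna hC hS hch
      exact ordGap_ominus_four hp (fun h => hn4 ⟨rfl, h⟩) hf (Or.inr hT) S hC hS
    · exact (pgap_of_not_full hfull).ordGap
  · exact charp_psp_gap hT hp hf hn h4 hex1 hR S hna hC hS hch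

/-- **`T = Ω_{2n+1}(q)`, `n ≥ 3`.** -/
theorem charp_oodd_gap' (hT : IsNamed (.oodd n (p ^ f)) T) (hp : p.Prime) (hf : 1 ≤ f) (hn : 3 ≤ n)
    (hR : R ≠ ⊤) (S : Subgroup R) [S.Normal] [IsSimpleGroup S]
    (hna : ¬ IsMulCommutative S) (hC : Subgroup.centralizer (S : Set R) = ⊥) (hS : IsNamed g S)
    (hch : HasChar p g) : OrdGap T R := by
  by_cases h4 : n = 4
  · subst h4
    by_cases hfull : Full T R
    · obtain ⟨h1, rfl⟩ := full_oodd hT hp hf hn hR hfull S hna hC hS hch
      refine ordGap_ominus_four hp ?_ hf (Or.inl hT) S hC hS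
      rintro rfl
      have := hT.cond.2.1
      rw [Nat.odd_pow_iff (by omega)] at this
      exact absurd this (by decide)
    · exact (pgap_of_not_full hfull).ordGap
  · exact charp_oodd_gap hT hp hf hn h4 hR S hna hC hS hch

end charp

end rows

/-- geometric subgroups of `Ω_9(q)` -/
theorem odd_row_four {F : Type} [Field F] [Fintype F] (hodd : Odd (Fintype.card F))
    (M : Subgroup (POmega F (quadFormOdd 4 F))) :
    OrdGap (POmega F (quadFormOdd 4 F)) M ∨ InOrthogonalResidualClass (pre (quadFormOdd 4 F) M) := by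
  have h2 := H390.two_ne_zero_of_odd hodd
  obtain ⟨p, f, hp, hf, hpf⟩ := exists_char F
  rw [Nat.card_eq_fintype_card] at hpf
  haveI : Fact p.Prime := ⟨hp⟩
  haveI := charP_of hp hf hpf
  have hp2 : p ≠ 2 := by
    rintro rfl
    rw [hpf, Nat.odd_pow_iff (by omega)] at hodd
    exact absurd hodd (by decide)
  obtain ⟨⟨r, hr, -⟩, -⟩ := exists_ppp' hp hf hp2
  have hex : ∃ g : POmega F (quadFormOdd 4 F), orderOf g = p * r := by
    have hT : IsNamed (.oodd 4 (p ^ f)) (POmega F (quadFormOdd 4 F)) :=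
      .mk' ⟨F, inferInstance, inferInstance, hpf, ⟨MulEquiv.refl _⟩⟩ ⟨by omega, hpf ▸ hodd, hpf ▸
        Fintype.isPrimePow_card_of_field⟩ (by rw [← hpf]; exact oodd_eq (by omega) hodd)
    exact exists_oodd9_pr hp hf hr hT
  have h : ∀ M : Subgroup (POmega F (⇑(quadOdd 4 F))),
      OrdGap (POmega F (⇑(quadOdd 4 F))) M ∨ InOrthogonalResidualClass (pre (⇑(quadOdd 4 F)) M) := by
    intro M
    rcases odd_miss h2 (by omega) (card_odd 4) (nondeg_iff.2 (quadOdd_nondegenerate h2)) (data_odd (by omega) h2) M with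
      h | h | ⟨-, v, hv, hMv, hP⟩
    · exact Or.inl (PGap.ordGap h)
    · exact Or.inr h
    · left
      rw [← coe_quadOdd] at hex
      obtain ⟨g, hg⟩ := hex
      refine ordGap_of hg fun x hx => ?_
      exact point_no_pr h2 (nondeg_iff.2 (quadOdd_nondegenerate h2)) (data_odd (by omega) h2) hp2
        (by rw [Nat.card_eq_fintype_card, hpf]; exact hr) (by omega) (by rw [card_odd]) hv hMv x hx
  rw [coe_quadOdd] at h
  exact h M

end Cfsg.Agent.H938.Sax
end

-- part: H938/Sax/SpRow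
section
/-!
# Geometric subgroups of `PSp_{2m}(q)`, `m ≥ 3`: `OrdGap` or residual (helper938)
-/

set_option autoImplicit false

namespace Cfsg.Agent.H938.Sax

open Module QuadraticMap Cfsg Cfsg.Geo Cfsg.Agent.LieClassical.OrthCore Cfsg.Agent.H955 Cfsg.Agent.H954.TSing
  Cfsg.Agent.H884.El Cfsg.Agent.LieClassical.OmegaReindex
open Cfsg.Agent.H951 (fx cm Inv)
open Cfsg.Agent.ClassicalGeometry.SympBasic Cfsg.Agent.H876 Cfsg.Agent.H931
open scoped MatrixGroups Matrix

universe u

variable {F : Type u} [Field F] [Fintype F] {m k N : ℕ}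

omit [Fintype F] in
/-- elements of odd order of `R` are images of matrices of the same order -/
theorem exists_pre_sp {R : Subgroup (PSp m F)} (hN : Odd N) {x : PSp m F}
    (hm : x ∈ R) (ho : orderOf x = N) :
    ∃ g ∈ Cfsg.Agent.H262.El.pre R, orderOf (lin g) = N := by
  obtain ⟨A, rfl⟩ := QuotientGroup.mk'_surjective (Subgroup.center (Matrix.symplecticGroup (Fin m) F)) x
  obtain ⟨n, h1, h2⟩ := exists_lift_odd (QuotientGroup.mk' (Subgroup.center (Matrix.symplecticGroup (Fin m) F)))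
    (fun y hy => by
      have h3 := (QuotientGroup.eq_one_iff y).1 hy
      refine Subtype.ext ?_
      rcases Cfsg.Agent.ClassicalGeometry.SympInvolutions.center_eq h3 with h | h
      · rw [SubmonoidClass.coe_pow, h, one_pow]; rfl
      · rw [SubmonoidClass.coe_pow, h, neg_one_sq]; rfl) hN ho
  refine ⟨spToGL m F (A ^ n), ⟨A ^ n, ?_, rfl⟩, ?_⟩
  · change (QuotientGroup.mk' (Subgroup.center (Matrix.symplecticGroup (Fin m) F))) (A ^ n) ∈ R
    rw [h1]
    exact hm
  · rw [orderOf_lin, orderOf_injective (spToGL m F) Cfsg.Agent.H262.El.spToGL_injective, h2]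

/-- `O^-_{4k}(q)` in `Sp_{4k}(q)`, `q` even -/
theorem ominus_sp_gap (hk : 3 ≤ k) (hm : m = 2 * k) (hN : NumD (Nat.card F) k N) {R : Subgroup (PSp m F)}
    {Q : QuadraticForm F (Fin m ⊕ Fin m → F)}
    (hpol : ∀ u v, QuadraticMap.polar Q u v = sympForm m F u v) (hP : ¬ IsPlus Q)
    (hR : Cfsg.Agent.H262.El.pre R ≤ Cfsg.isometryGroup F (⇑Q)) (x : PSp m F) (hx : x ∈ R) : orderOf x ≠ N := by
  intro ho
  obtain ⟨g, h1, h2⟩ := exists_pre_sp (hN.odd hk) hx ho
  have hfin : finrank F (Fin m ⊕ Fin m → F) = 4 * k := by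
    rw [Module.finrank_fintype_fun_eq_card, Fintype.card_sum, Fintype.card_fin]; omega
  have h3 := lin_main hk hN (nondeg_of_symp hpol) (fun v => lin_iso hR h1 v) h2 (by rw [hfin]; omega)
  exact hP (h3.2 hfin).1

/-- **`PSp_{2m}(q)`, `m ≥ 3`.** -/
theorem psp_row (hm : 3 ≤ m) (h32 : ¬ (m = 3 ∧ Fintype.card F = 2)) (h4 : ¬ (m = 4 ∧ ¬ Odd (Fintype.card F)))
    {R : Subgroup (PSp m F)} (hR : R ≠ ⊤) :
    OrdGap (PSp m F) R ∨ InSymplecticResidualClass (Cfsg.Agent.H262.El.pre R) := by
  rcases Cfsg.Agent.H901.SaxSp.psp_cases (by omega) (fun h => by omega) h32 (fun h => by omega) hR with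
    h | h | ⟨⟨k, hk⟩, hq, Q, hpol, hP, hH⟩ | ⟨h, -⟩
  · exact Or.inl h.ordGap
  · exact Or.inr h
  · left
    have hk3 : 3 ≤ k := by
      by_contra hcon
      exact h4 ⟨by omega, hq⟩
    have h2 : CharP F 2 := by
      obtain ⟨p, f, hp, hf, hpf⟩ := exists_char F
      rw [Nat.card_eq_fintype_card] at hpf
      have := charP_of hp hf hpf
      have hp2 : p = 2 := by
        by_contra hne
        exact hq (by rw [hpf]; exact (hp.odd_of_ne_two hne).pow)
      rwa [hp2] at this
    obtain ⟨N, hN⟩ := exists_numD (q := Nat.card F) Finite.one_lt_card hk3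
    have h1 := exists_psp_numD hk3 hN
    have hm2 : m = 2 * k := by omega
    subst hm2
    obtain ⟨g, hg⟩ := h1
    exact ordGap_of hg fun x hx => ominus_sp_gap hk3 rfl hN hpol hP hH x hx
  · omega

end Cfsg.Agent.H938.Sax
end
end
end
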