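import Cfsg.Agent.H951.Main
import Cfsg.Agent.H951.Iso
import Cfsg.Agent.H951.Block
import Cfsg.Agent.H938.Sax.SpRow
import Cfsg.Agent.H951.SBridge
import Cfsg.Agent.H424.OrthElt
import Cfsg.Agent.S0814
import Cfsg.Agent.S0816
import Cfsg.Agent.ClassicalGeometry.SympAutExists
import Cfsg.Agent.LieClassical.SympPerfect
import Cfsg.Agent.ThreePrime.AutQuot
import Cfsg.Agent.Prune
set_option linter.all false
prune_inst 0x7fffecfdb9ba79dfff7f7e7faedcddfdfbbb3fffa4dff9cb7fe06bff2bdf6b10c9c563ad0beb30fe0ed6ca1410ec7b43fdffeeffea6bdc7ffffd5ff45ffbff8ffdf7bd0011d48c340f340ff683f0778e7f3fffffffffffffffffffffffffffaeffbfffffffff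
open scoped Cfsg.Agent.FastGrp

-- part: H938/Sax/Ord
section
/-!
# Orders of semisimple isometries: `g ^ (q ^ a + 1) = 1` and `g ^ (q ± 1) = 1` on small blocks (helper938)
-/

set_option autoImplicit false

namespace Cfsg.Agent.H938.Sax.Ord

open Module Polynomial
open Cfsg.Agent.H951

universe u v

variable {F : Type u} [Field F] {V : Type v} [AddCommGroup V] [Module F V]
  {ε : F} {B : V → V → F} {g w : Module.End F V} {Z U : Submodule F V} {m r a : ℕ}

theorem pow_eq_of_line {c : F} {z : V} (h : g z = c • z) (n : ℕ) : (g ^ n) z = c ^ n • z := by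
  induction n with
  | zero => simp
  | succ k ih => rw [pow_succ', Module.End.mul_apply, ih, map_smul, h, smul_smul, pow_succ]

/-- an invariant line -/
theorem line [Fintype F] [FiniteDimensional F V] (hinj : Function.Injective g) (hU : _root_.Cfsg.Agent.H951.Inv g U)
    (h1 : finrank F U = 1) : ∀ z ∈ U, (g ^ (Fintype.card F - 1)) z = z := by
  intro z hz
  obtain ⟨v, hv0, hv⟩ := finrank_eq_one_iff'.1 h1
  obtain ⟨c, hc⟩ := hv ⟨g v, hU v v.2⟩
  have hc' : g (v : V) = c • (v : V) := by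
    have := congrArg Subtype.val hc
    exact this.symm
  have hc0 : c ≠ 0 := by
    rintro rfl
    rw [zero_smul] at hc'
    exact hv0 (Subtype.ext (hinj (by rw [hc']; exact (map_zero g).symm)))
  obtain ⟨d, hd⟩ := hv ⟨z, hz⟩
  have hd' : z = d • (v : V) := (congrArg Subtype.val hd).symm
  rw [hd', map_smul, pow_eq_of_line hc', FiniteField.pow_card_sub_one_eq_one c hc0, one_smul]

theorem pos_finrank [FiniteDimensional F V] (h : U ≠ ⊥) : 1 ≤ finrank F U :=
  Nat.one_le_iff_ne_zero.2 fun h' => h (Submodule.finrank_eq_zero.1 h')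

/-- the annihilating polynomial of an irreducible block divides everything killing it -/
theorem dvd_of_killed {P Q : F[X]} (hP : Irreducible P) {v : V} (hv0 : v ≠ 0) (h1 : aeval g P v = 0)
    (h2 : aeval g Q v = 0) : P ∣ Q := by
  by_contra hn
  obtain ⟨a, b, hab⟩ := (hP.coprime_iff_not_dvd).2 hn
  have h3 : aeval g (a * P + b * Q) v = v := by rw [hab, map_one]; rfl
  rw [map_add, map_mul, map_mul, LinearMap.add_apply, Module.End.mul_apply, Module.End.mul_apply, h1, h2, map_zero,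
    map_zero, add_zero] at h3
  exact hv0 h3.symm

/-- three roots of a quadratic coincide -/
theorem roots_two {K : Type*} [Field K] {P : K[X]} (hP : P ≠ 0) (hd : P.natDegree = 2) {x y z : K} (hx : P.IsRoot x)
    (hy : P.IsRoot y) (hz : P.IsRoot z) : x = y ∨ y = z ∨ x = z := by
  classical
  by_contra hn
  push Not at hn
  obtain ⟨h1, h2, h3⟩ := hn
  have h4 : ({x, y, z} : Finset K).card ≤ P.natDegree := by
    refine card_le_degree_of_subset_roots ?_
    intro t ht
    rw [mem_roots hP]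
    simp only [Finset.mem_val, Finset.mem_insert, Finset.mem_singleton] at ht
    rcases ht with rfl | rfl | rfl <;> assumption
  rw [hd, Finset.card_eq_three.2 ⟨x, y, z, h1, h3, h2, rfl⟩] at h4
  omega

/-- **Two dimensional blocks.** -/
theorem two [Fintype F] [FiniteDimensional F V] (hB : Frm (RingHom.id F) ε B) (hg : Isom B g) (hm : (m : F) ≠ 0)
    (hgm : g ^ m = 1) (hZ : _root_.Cfsg.Agent.H951.Inv g Z) (hnd : Nd B Z) (hd : finrank F Z = 2) :
    (∀ z ∈ Z, (g ^ (Fintype.card F - 1)) z = z) ∨ ∀ z ∈ Z, (g ^ (Fintype.card F + 1)) z = z := by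
  have hm0 : m ≠ 0 := by rintro rfl; exact hm Nat.cast_zero
  have hinj : Function.Injective g := by
    intro x y hxy
    have h1 : (g ^ m) x = (g ^ m) y := by
      obtain ⟨k, rfl⟩ := Nat.exists_eq_succ_of_ne_zero hm0
      rw [pow_succ, Module.End.mul_apply, Module.End.mul_apply, hxy]
    rw [hgm] at h1
    exact h1
  rcases Nat.lt_or_ge m 2 with hm1 | hm2
  · obtain rfl : m = 1 := by omega
    rw [pow_one] at hgm
    left
    intro z _
    rw [hgm, one_pow]
    rfl
  have hZ0 : Z ≠ ⊥ := by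
    rintro rfl
    rw [finrank_bot] at hd
    omega
  obtain ⟨U, hUZ, hU⟩ := exists_irr hZ hZ0
  have hss := semisimple_of_pow hm hgm
  have hle : finrank F U ≤ 2 := hd ▸ Submodule.finrank_mono hUZ
  have hge := pos_finrank hU.1
  rcases Nat.lt_or_ge (finrank F U) 2 with h1 | h2
  · left
    obtain ⟨T, hT, hTZ, hi, hs⟩ := exists_rel_compl hss hU.2.1 hZ hUZ
    have h3 := finrank_sup_of_disj hi
    rw [hs, hd] at h3
    intro z hz
    rw [← hs] at hz
    obtain ⟨x, hx, y, hy, rfl⟩ := Submodule.mem_sup.1 hz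
    rw [map_add, line hinj hU.2.1 (by omega) x hx, line hinj hT (by omega) y hy]
  · obtain rfl : U = Z := Submodule.eq_of_le_of_finrank_eq hUZ (by omega)
    have hQ0 : (X ^ m - 1 : F[X]) ≠ 0 := X_pow_sub_C_ne_zero (by omega) 1
    obtain ⟨P, hP, hPm, hPU⟩ := hU.exists_factor (X ^ m - 1) hQ0 (fun v _ => by
      rw [map_sub, map_pow, aeval_X, hgm, map_one, sub_self]; rfl)
    have hdeg := hU.finrank_eq_natDegree hP hPU
    rw [hd] at hdeg
    obtain ⟨v, hvU, hv0⟩ := (Submodule.ne_bot_iff _).1 hZ0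
    have := Fact.mk hP
    set α := AdjoinRoot.root P with hα
    have key : ∀ Q : F[X], P ∣ Q ↔ aeval α Q = 0 := fun Q => by
      rw [AdjoinRoot.aeval_eq, AdjoinRoot.mk_eq_zero]
    have hPexp : P ∣ expand F (m - 1) P := by
      refine dvd_of_killed hP hv0 (hPU v hvU) ?_
      by_contra hne
      have hmem : aeval g (expand F (m - 1) P) v ∈ U := hU.2.1.aeval _ v hvU
      obtain ⟨y, hy, hy0⟩ := hnd _ hmem hne
      apply hy0
      have h5 := adj_aeval hB hg (P := m - 1) (by omega) (by rw [Nat.sub_add_cancel (by omega)]; exact hgm) P y v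
      rw [hPU y hy, Polynomial.map_id, hB.zero_left] at h5
      exact hB.eq_zero_comm.1 h5.symm
    have hr1 : aeval α P = 0 := (key P).1 dvd_rfl
    have hr2 : aeval (α ^ Fintype.card F) P = 0 := by
      rw [← expand_aeval, FiniteField.expand_card, map_pow, hr1, zero_pow Fintype.card_ne_zero]
    have hr3 : aeval (α ^ (m - 1)) P = 0 := by
      rw [← expand_aeval]
      exact (key _).1 hPexp
    have hαm : α ^ m = 1 := by
      have := (key _).1 hPm
      rw [map_sub, map_pow, aeval_X, map_one, sub_eq_zero] at this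
      exact this
    have hroot : ∀ x : AdjoinRoot P, aeval x P = 0 → (P.map (algebraMap F (AdjoinRoot P))).IsRoot x := fun x hx => by
      rw [IsRoot.def, eval_map_algebraMap]; exact hx
    have hP0 : P.map (algebraMap F (AdjoinRoot P)) ≠ 0 :=
      (Polynomial.map_ne_zero_iff (algebraMap F (AdjoinRoot P)).injective).2 hP.ne_zero
    have hdP : (P.map (algebraMap F (AdjoinRoot P))).natDegree = 2 := by rw [natDegree_map]; exact hdeg.symm
    have hlin : ∀ c : F, ¬ P ∣ X - C c := fun c hc => by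
      have := natDegree_le_of_dvd hc (X_sub_C_ne_zero c)
      rw [natDegree_X_sub_C] at this
      omega
    rcases roots_two hP0 hdP (hroot _ hr1) (hroot _ hr2) (hroot _ hr3) with h | h | h
    · exfalso
      have h3 : P ∣ ((X ^ Fintype.card F - X : F[X]).roots.map fun c => X - C c).prod := by
        rw [prod_multiset_X_sub_C_of_monic_of_roots_card_eq, key, map_sub, map_pow, aeval_X, ← h, sub_self]
        · exact monic_X_pow_sub (by rw [degree_X]; exact_mod_cast Fintype.one_lt_card)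
        · rw [FiniteField.roots_X_pow_card_sub_X, FiniteField.X_pow_card_sub_X_natDegree_eq F Fintype.one_lt_card]
          rfl
      obtain ⟨c, -, hc⟩ := hP.prime.exists_mem_multiset_map_dvd h3
      exact hlin c hc
    · right
      have h3 : α ^ (Fintype.card F + 1) = 1 := by
        rw [pow_succ, h, ← pow_succ, Nat.sub_add_cancel (by omega)]; exact hαm
      have h4 : P ∣ X ^ (Fintype.card F + 1) - 1 := by
        rw [key, map_sub, map_pow, aeval_X, map_one, h3, sub_self]
      intro z hz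
      obtain ⟨Q, hQ⟩ := h4
      have h5 : aeval g (X ^ (Fintype.card F + 1) - 1 : F[X]) z = 0 := by
        rw [hQ, mul_comm, map_mul, Module.End.mul_apply, hPU z hz, map_zero]
      rw [map_sub, map_pow, aeval_X, map_one, LinearMap.sub_apply, sub_eq_zero] at h5
      exact h5
    · exfalso
      have h3 : α ^ 2 = 1 := by
        rw [pow_two]
        nth_rewrite 2 [h]
        rw [← pow_succ', Nat.sub_add_cancel (by omega)]; exact hαm
      have h4 : P ∣ (X - C 1) * (X - C (-1)) := by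
        rw [key, map_mul, map_sub, map_sub, aeval_X, aeval_C, aeval_C, map_one, map_neg, map_one]
        linear_combination h3
      rcases hP.prime.dvd_or_dvd h4 with h5 | h5
      · exact hlin _ h5
      · exact hlin _ h5

theorem commute_aeval (h : Commute g w) (f : F[X]) (v : V) : g (aeval w f v) = aeval w f (g v) := by
  have h1 : Commute g (aeval w f) := by
    rw [aeval_eq_sum_range]
    exact Commute.sum_right _ _ _ fun i _ => (h.pow_right i).smul_right _
  rw [← Module.End.mul_apply, h1.eq, Module.End.mul_apply]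

/-- `g` acts on an irreducible block of `w` as a polynomial in `w` -/
theorem exists_poly [FiniteDimensional F V] (hU : Irr w U) (hgw : Commute g w) (hgU : _root_.Cfsg.Agent.H951.Inv g U) :
    ∃ f : F[X], ∀ z ∈ U, g z = aeval w f z := by
  obtain ⟨v, hvU, hv0⟩ := (Submodule.ne_bot_iff _).1 hU.1
  set R : Submodule F V := LinearMap.range ((LinearMap.applyₗ v).comp (aeval (R := F) w).toLinearMap) with hR
  have hmem : ∀ z, z ∈ R ↔ ∃ f : F[X], aeval w f v = z := fun z => Iff.rfl
  have hRinv : _root_.Cfsg.Agent.H951.Inv w R := by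
    intro z hz
    obtain ⟨f, rfl⟩ := (hmem z).1 hz
    exact (hmem _).2 ⟨X * f, by rw [map_mul, aeval_X, Module.End.mul_apply]⟩
  have hvR : v ∈ R := (hmem v).2 ⟨1, by rw [map_one]; rfl⟩
  have hUR : U ≤ R := by
    rcases hU.2.2 (U ⊓ R) inf_le_left (hU.2.1.inf hRinv) with h | h
    · exact absurd ((Submodule.mem_bot F).1 (h ▸ Submodule.mem_inf.2 ⟨hvU, hvR⟩)) hv0
    · exact inf_eq_left.1 h
  obtain ⟨f, hf⟩ := (hmem _).1 (hUR (hgU v hvU))
  refine ⟨f, fun z hz => ?_⟩
  obtain ⟨h, rfl⟩ := (hmem _).1 (hUR hz)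
  rw [commute_aeval hgw, ← hf, ← Module.End.mul_apply, ← Module.End.mul_apply, ← map_mul, ← map_mul, mul_comm]

theorem inv_cm_of_commute (h : Commute g w) : _root_.Cfsg.Agent.H951.Inv g (cm w) := by
  intro z hz
  obtain ⟨y, rfl⟩ := mem_cm.1 hz
  refine mem_cm.2 ⟨g y, ?_⟩
  rw [map_sub, ← Module.End.mul_apply, ← h.eq, Module.End.mul_apply]

theorem inv_fx_of_commute (h : Commute g w) : _root_.Cfsg.Agent.H951.Inv g (fx w) := by
  intro z hz
  rw [mem_fx] at hz ⊢
  rw [← Module.End.mul_apply, ← h.eq, Module.End.mul_apply, hz]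

/-- **The big block.** -/
theorem big [Fintype F] [FiniteDimensional F V] (hB : Frm (RingHom.id F) ε B) (hV : Nd B (⊤ : Submodule F V))
    (hw : Isom B w) (hg : Isom B g) (hgw : Commute g w) [Fact r.Prime] (hr : (r : F) ≠ 0) (hwr : w ^ r = 1)
    (hdv : r ∣ Fintype.card F ^ a + 1) (hdim : finrank F (cm w) = orderOf (Fintype.card F : ZMod r)) :
    ∀ z ∈ cm w, (g ^ (Fintype.card F ^ a + 1)) z = z := by
  have hnd := Isom.nd_cm hB hw hr hwr hV
  have hpos := ord_pos (F := F) hr
  have hc0 : cm w ≠ ⊥ := by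
    intro h
    rw [h, finrank_bot] at hdim
    omega
  obtain ⟨U, hUc, hU⟩ := exists_irr (inv_cm (x := w)) hc0
  have h1 := hU.finrank_eq hr hwr hUc
  obtain rfl : U = cm w := Submodule.eq_of_le_of_finrank_eq hUc (by rw [h1, hdim])
  obtain ⟨f, hf⟩ := exists_poly hU hgw (inv_cm_of_commute hgw)
  obtain ⟨p, hp⟩ := CharP.exists F
  have hpp : Fact p.Prime := ⟨(CharP.char_is_prime_or_zero F p).resolve_right
    (CharP.char_ne_zero_of_finite F p)⟩
  obtain ⟨e, -, he⟩ := FiniteField.card F p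
  have hq : Fintype.card F ^ a = p ^ (e * a : ℕ) := by rw [he, pow_mul]
  have hwp : w ^ (Fintype.card F ^ a + 1) = 1 := by
    obtain ⟨k, hk⟩ := hdv
    rw [hk, pow_mul, hwr, one_pow]
  have hexp : ∀ f : F[X], expand F (Fintype.card F ^ a) (f.map (RingHom.id F)) = f ^ (Fintype.card F ^ a) := by
    intro f
    rw [hq]
    refine expand_map_eq_pow (fun x => ?_) f
    rw [← hq, FiniteField.pow_card_pow]
    rfl
  have hpow : ∀ n : ℕ, ∀ z ∈ cm w, (g ^ n) z = aeval w (f ^ n) z := by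
    intro n
    induction n with
    | zero => intro z _; rw [pow_zero, pow_zero, map_one]
    | succ n ih =>
      intro z hz
      rw [pow_succ', Module.End.mul_apply, ih z hz, hf _ (inv_cm.aeval _ z hz), ← Module.End.mul_apply, ← map_mul,
        ← pow_succ']
  intro z hz
  by_contra hne
  have hgz : (g ^ (Fintype.card F ^ a + 1)) z ∈ cm w := (inv_cm_of_commute hgw).pow _ z hz
  obtain ⟨y, hy, hy0⟩ := hnd _ ((cm w).sub_mem hgz hz) (sub_ne_zero.2 hne)
  apply hy0
  rw [hB.sub_left, sub_eq_zero]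
  have h2 : ∀ x, B y x = B y z → B x y = B z y := fun x h => by
    rw [hB.herm, hB.herm y z, h]
  apply h2
  rw [← hg y z, hf y hy, adj_aeval hB hw (P := Fintype.card F ^ a) (pow_pos Fintype.card_pos a) hwp, hexp,
    ← hpow _ _ ((inv_cm_of_commute hgw) z hz), ← Module.End.mul_apply, ← pow_succ]

theorem injective_of_pow' (hm : (m : F) ≠ 0) (hgm : g ^ m = 1) : Function.Injective g := by
  have hm0 : m ≠ 0 := by rintro rfl; exact hm Nat.cast_zero
  intro x y hxy
  have h1 : (g ^ m) x = (g ^ m) y := by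
    obtain ⟨k, rfl⟩ := Nat.exists_eq_succ_of_ne_zero hm0
    rw [pow_succ, Module.End.mul_apply, Module.End.mul_apply, hxy]
  rw [hgm] at h1
  exact h1

/-- gluing a two dimensional block with a block where `g ^ 2 = 1` -/
theorem glue [Fintype F] [FiniteDimensional F V] (hB : Frm (RingHom.id F) ε B) (hg : Isom B g) (hm : (m : F) ≠ 0)
    (hgm : g ^ m = 1) (hZ : _root_.Cfsg.Agent.H951.Inv g Z) (hnd : Nd B Z) {E : Submodule F V} (hE : _root_.Cfsg.Agent.H951.Inv g E) (hEn : Nd B E) (hEZ : E ≤ Z)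
    (hd : finrank F Z = finrank F E + 2) (hm1 : ∀ z ∈ E, (g ^ (Fintype.card F - 1)) z = z)
    (hp1 : ∀ z ∈ E, (g ^ (Fintype.card F + 1)) z = z) :
    (∀ z ∈ Z, (g ^ (Fintype.card F - 1)) z = z) ∨ ∀ z ∈ Z, (g ^ (Fintype.card F + 1)) z = z := by
  have hs := hB.sup_perp_inf hEn hEZ
  have hfin := hB.finrank_perp_inf hEn hEZ
  have hinj := injective_of_pow' hm hgm
  refine (two hB hg hm hgm ((Isom.inv_perp hB hg hinj hE).inf hZ) (hB.nd_perp_inf hnd hEn hEZ) (by omega)).imp
    (fun h z hz => ?_) (fun h z hz => ?_)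
  · rw [← hs] at hz
    obtain ⟨x, hx, y, hy, rfl⟩ := Submodule.mem_sup.1 hz
    rw [map_add, hm1 x hx, h y hy]
  · rw [← hs] at hz
    obtain ⟨x, hx, y, hy, rfl⟩ := Submodule.mem_sup.1 hz
    rw [map_add, hp1 x hx, h y hy]

/-- **Four dimensional symplectic blocks with a fixed vector.** -/
theorem four [Fintype F] [FiniteDimensional F V] (hB : Frm (RingHom.id F) ε B) (ha : ∀ v, B v v = 0)
    (hg : Isom B g) (hm : (m : F) ≠ 0)
    (hgm : g ^ m = 1) (hZ : _root_.Cfsg.Agent.H951.Inv g Z) (hnd : Nd B Z) (hd : finrank F Z = 4) (hf : Z ⊓ fx g ≠ ⊥) :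
    (∀ z ∈ Z, (g ^ (Fintype.card F - 1)) z = z) ∨ ∀ z ∈ Z, (g ^ (Fintype.card F + 1)) z = z := by
  have hEn := Isom.nd_inf_fx hB hg hm hgm hZ hnd
  have h1 := pos_finrank hf
  have h2 := even_finrank_of_alt hB ha hEn
  have h3 : finrank F ↥(Z ⊓ fx g) ≤ 4 := hd ▸ Submodule.finrank_mono inf_le_left
  have hfix : ∀ n : ℕ, ∀ z ∈ Z ⊓ fx g, (g ^ n) z = z := fun n z hz =>
    pow_fx (mem_fx.1 (Submodule.mem_inf.1 hz).2) n
  rcases Nat.lt_or_ge (finrank F ↥(Z ⊓ fx g)) 4 with h4 | h4
  · obtain ⟨k, hk⟩ := h2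
    exact glue hB hg hm hgm hZ hnd (hZ.inf inv_fx) hEn inf_le_left (by omega) (hfix _) (hfix _)
  · left
    have h5 : Z ⊓ fx g = Z := Submodule.eq_of_le_of_finrank_eq inf_le_left (by omega)
    intro z hz
    exact hfix _ z (h5.symm ▸ hz)

theorem map_eq_of_inv' [FiniteDimensional F V] (hinj : Function.Injective g) (hZ : _root_.Cfsg.Agent.H951.Inv g Z) : Z.map g = Z := by
  refine Submodule.eq_of_le_of_finrank_eq (inv_iff_map.1 hZ) ?_
  exact (Submodule.equivMapOfInjective g hinj Z).finrank_eq.symm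

/-- a vector with `g u = ± u` -/
theorem exists_pm [FiniteDimensional F V] (hB : Frm (RingHom.id F) ε B) (hε : ε = 1)
    (hg : Isom B g) (hinj : Function.Injective g) (hZ : _root_.Cfsg.Agent.H951.Inv g Z) (hnd : Nd B Z) (hd : Odd (finrank F Z)) :
    ∃ u ∈ Z, u ≠ 0 ∧ (g u = u ∨ g u = -u) := by
  subst hε
  have hsym : ∀ u v, B u v = B v u := fun u v => by
    rw [hB.herm v u, one_mul]; rfl
  have hA : Frm (RingHom.id F) (-1) (fun u v => B (g u) v - B u (g v)) := by
    refine ⟨fun u v w => ?_, fun a u v => ?_, fun u v => ?_, fun a => rfl, by simp⟩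
    · simp only [map_add, hB.add_left]; ring
    · simp only [map_smul, hB.smul_left]; ring
    · simp only [hsym (g v) u, hsym v (g u), RingHom.id_apply]; ring
  have h1 : ¬ Nd (fun u v => B (g u) v - B u (g v)) Z := fun h => by
    have h2 := even_finrank_of_alt hA (fun v => by simp only [hsym (g v) v, sub_self]) h
    exact (Nat.not_even_iff_odd.2 hd) h2
  unfold Nd at h1
  push Not at h1
  obtain ⟨u, hu, hu0, h2⟩ := h1
  have hgg : g (g u) = u := by
    by_contra hne
    have h3 : g (g u) - u ∈ Z := Z.sub_mem (hZ _ (hZ _ hu)) hu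
    obtain ⟨y, hy, hy0⟩ := hnd _ h3 (sub_ne_zero.2 hne)
    have hmap := map_eq_of_inv' hinj hZ
    rw [← hmap] at hy
    obtain ⟨y', hy', rfl⟩ := hy
    apply hy0
    rw [hB.sub_left, hg]
    exact h2 y' hy'
  by_cases h3 : g u + u = 0
  · exact ⟨u, hu, hu0, Or.inr (eq_neg_of_add_eq_zero_left h3)⟩
  · exact ⟨g u + u, Z.add_mem (hZ _ hu) hu, h3, Or.inl (by rw [map_add, hgg, add_comm])⟩

/-- a nonsingular vector -/
theorem exists_nonsing (hB : Frm (RingHom.id F) ε B) (hε : ε = 1) (h2 : (2 : F) ≠ 0) {E : Submodule F V}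
    (hE : Nd B E) (h0 : E ≠ ⊥) : ∃ v ∈ E, B v v ≠ 0 := by
  subst hε
  have hsym : ∀ u v, B u v = B v u := fun u v => by
    rw [hB.herm v u, one_mul]; rfl
  by_contra hn
  push Not at hn
  obtain ⟨u, hu, hu0⟩ := (Submodule.ne_bot_iff _).1 h0
  obtain ⟨v, hv, hv0⟩ := hE u hu hu0
  have h3 := hn (u + v) (E.add_mem hu hv)
  rw [hB.add_left, hB.add_right, hB.add_right, hn u hu, hn v hv, hsym v u, zero_add, add_zero, ← two_mul] at h3
  exact hv0 ((mul_eq_zero.1 h3).resolve_left h2)

/-- **Three dimensional orthogonal blocks.** -/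
theorem three [Fintype F] [FiniteDimensional F V] (hB : Frm (RingHom.id F) ε B) (hε : ε = 1) (h2 : (2 : F) ≠ 0)
    (hg : Isom B g) (hm : (m : F) ≠ 0) (hgm : g ^ m = 1) (hZ : _root_.Cfsg.Agent.H951.Inv g Z) (hnd : Nd B Z) (hd : finrank F Z = 3) :
    (∀ z ∈ Z, (g ^ (Fintype.card F - 1)) z = z) ∨ ∀ z ∈ Z, (g ^ (Fintype.card F + 1)) z = z := by
  have hinj := injective_of_pow' hm hgm
  obtain ⟨u, hu, hu0, hpm⟩ := exists_pm hB hε hg hinj hZ hnd (hd ▸ by decide)
  -- a sign with `δ g` fixing `u`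
  obtain ⟨δ, hδ2, hδ⟩ : ∃ δ : F, δ * δ = 1 ∧ δ • g u = u := by
    rcases hpm with h | h
    · exact ⟨1, by ring, by rw [h, one_smul]⟩
    · exact ⟨-1, by ring, by rw [h, neg_smul, one_smul, neg_neg]⟩
  have hδg : Isom B (δ • g) := fun x y => by
    rw [LinearMap.smul_apply, LinearMap.smul_apply, hB.smul_left, hB.smul_right, hg, RingHom.id_apply, ← mul_assoc,
      hδ2, one_mul]
  have hδm : (δ • g) ^ (2 * m) = 1 := by
    rw [_root_.smul_pow, pow_mul δ, pow_two, hδ2, one_pow, one_smul, mul_comm, pow_mul, hgm, one_pow]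
  have h2m : ((2 * m : ℕ) : F) ≠ 0 := by
    rw [Nat.cast_mul]
    exact mul_ne_zero (by exact_mod_cast h2) hm
  have hδZ : _root_.Cfsg.Agent.H951.Inv (δ • g) Z := fun z hz => Z.smul_mem _ (hZ z hz)
  have hEn := Isom.nd_inf_fx hB hδg h2m hδm hδZ hnd
  have hE0 : Z ⊓ fx (δ • g) ≠ ⊥ := by
    intro h
    have : u ∈ Z ⊓ fx (δ • g) := Submodule.mem_inf.2 ⟨hu, mem_fx.2 hδ⟩
    rw [h] at this
    exact hu0 ((Submodule.mem_bot F).1 this)
  obtain ⟨v, hv, hv0⟩ := exists_nonsing hB hε h2 hEn hE0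
  have hvg : g v = δ • v := by
    have h3 := mem_fx.1 (Submodule.mem_inf.1 hv).2
    rw [LinearMap.smul_apply] at h3
    calc g v = (δ * δ) • g v := by rw [hδ2, one_smul]
      _ = δ • v := by rw [mul_smul, h3]
  have hvne : v ≠ 0 := by
    rintro rfl
    exact hv0 (hB.zero_left 0)
  have hodd : Odd (Fintype.card F) := by
    rw [Nat.odd_iff]
    refine FiniteField.odd_card_of_char_ne_two fun h => h2 ?_
    have h3 := ringChar.Nat.cast_ringChar (R := F)
    rw [h] at h3
    exact_mod_cast h3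
  have hδe : ∀ n, Even n → δ ^ n = 1 := fun n hn => by
    obtain ⟨k, rfl⟩ := hn
    rw [← two_mul, pow_mul, pow_two, hδ2, one_pow]
  have hline : ∀ n, Even n → ∀ z ∈ Submodule.span F {v}, (g ^ n) z = z := fun n hn z hz => by
    obtain ⟨c, rfl⟩ := Submodule.mem_span_singleton.1 hz
    rw [map_smul, pow_eq_of_line hvg, hδe n hn, one_smul]
  refine glue hB hg hm hgm hZ hnd (E := Submodule.span F {v}) ?_ ?_ ?_ ?_ (hline _ ?_) (hline _ ?_)
  · intro z hz
    obtain ⟨c, rfl⟩ := Submodule.mem_span_singleton.1 hz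
    rw [map_smul, hvg, smul_comm]
    exact Submodule.smul_mem _ _ hz
  · intro z hz hz0
    obtain ⟨c, rfl⟩ := Submodule.mem_span_singleton.1 hz
    refine ⟨v, Submodule.mem_span_singleton_self v, ?_⟩
    rw [hB.smul_left]
    exact mul_ne_zero (fun h => hz0 (by rw [h, zero_smul])) hv0
  · rw [Submodule.span_singleton_le_iff_mem]
    exact (Submodule.mem_inf.1 hv).1
  · rw [finrank_span_singleton hvne, hd]
  · exact hodd.tsub_odd odd_one
  · exact hodd.add_odd odd_one

/-- the conclusion: `g` has order dividing `lcm(q ^ 2 + 1, q ± 1)` -/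
def Lcm (q : ℕ) {G : Type*} [Monoid G] (g : G) : Prop :=
  g ^ (Nat.lcm (q ^ 2 + 1) (q - 1)) = 1 ∨ g ^ (Nat.lcm (q ^ 2 + 1) (q + 1)) = 1

theorem lcm_of [Fintype F] [FiniteDimensional F V] (hr : (r : F) ≠ 0) (hwr : w ^ r = 1)
    (hcm : ∀ z ∈ cm w, (g ^ (Fintype.card F ^ 2 + 1)) z = z)
    (hfx : (∀ z ∈ fx w, (g ^ (Fintype.card F - 1)) z = z) ∨ ∀ z ∈ fx w, (g ^ (Fintype.card F + 1)) z = z) :
    Lcm (Fintype.card F) g := by
  have hd : ∀ (n k : ℕ) (z : V), n ∣ k → (g ^ n) z = z → (g ^ k) z = z := by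
    rintro n k z ⟨c, rfl⟩ h
    rw [pow_mul]
    exact pow_fx h c
  have key : ∀ n, (∀ z ∈ fx w, (g ^ n) z = z) → g ^ (Nat.lcm (Fintype.card F ^ 2 + 1) n) = 1 := by
    intro n h
    refine LinearMap.ext fun v => ?_
    have hv : v ∈ fx w ⊔ cm w := by rw [(isCompl_fx_cm hr hwr).sup_eq_top]; trivial
    obtain ⟨x, hx, y, hy, rfl⟩ := Submodule.mem_sup.1 hv
    rw [map_add, hd _ _ x (Nat.dvd_lcm_right _ _) (h x hx), hd _ _ y (Nat.dvd_lcm_left _ _) (hcm y hy)]
    rfl
  exact hfx.imp (key _) (key _)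

/-- the power of `g` of prime order -/
theorem exists_power [Fintype F] [FiniteDimensional F V] (hr4 : orderOf (Fintype.card F : ZMod r) = 4)
    [hrp : Fact r.Prime] (hr0 : (r : F) ≠ 0) (hm : (m : F) ≠ 0) (hgm : g ^ m = 1) (hro : r ∣ orderOf g) :
    ∃ k, (g ^ k) ^ r = 1 ∧ 4 ∣ finrank F (cm (g ^ k)) ∧ cm (g ^ k) ≠ ⊥ := by
  have hm0 : 0 < m := Nat.pos_of_ne_zero (by rintro rfl; exact hm Nat.cast_zero)
  have hog : 0 < orderOf g := Nat.pos_of_dvd_of_pos (orderOf_dvd_of_pow_eq_one hgm) hm0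
  refine ⟨orderOf g / r, ?_, ?_, ?_⟩
  · rw [← pow_mul, Nat.div_mul_cancel hro, pow_orderOf_eq_one]
  · rw [← hr4]
    have h1 : (g ^ (orderOf g / r)) ^ r = 1 := by rw [← pow_mul, Nat.div_mul_cancel hro, pow_orderOf_eq_one]
    exact ord_dvd_finrank h1 inv_cm (inf_fx_of_le_cm hr0 h1 le_rfl)
  · intro h
    have h1 : g ^ (orderOf g / r) = 1 := by
      refine LinearMap.ext fun v => ?_
      have h2 : (g ^ (orderOf g / r)) v - v ∈ cm (g ^ (orderOf g / r)) := mem_cm.2 ⟨v, rfl⟩
      rw [h, Submodule.mem_bot, sub_eq_zero] at h2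
      exact h2
    have h2 := orderOf_dvd_of_pow_eq_one h1
    have h3 := Nat.le_of_dvd (Nat.div_pos (Nat.le_of_dvd hog hro) hrp.out.pos) h2
    have h4 := Nat.div_lt_self hog hrp.out.one_lt
    omega

section main

variable [Fintype F] [FiniteDimensional F V] (hr4 : orderOf (Fintype.card F : ZMod r) = 4)
    [hrp : Fact r.Prime] (hdv : r ∣ Fintype.card F ^ 2 + 1)

include hr4 hdv

/-- general frame -/
theorem core (hB : Frm (RingHom.id F) ε B) (hV : Nd B (⊤ : Submodule F V)) (hr0 : (r : F) ≠ 0)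
    (hg : Isom B g) (hm : (m : F) ≠ 0) (hgm : g ^ m = 1) (hro : r ∣ orderOf g)
    (hlt : ∀ k, (g ^ k) ^ r = 1 → cm (g ^ k) ≠ ⊥ → finrank F (cm (g ^ k)) < 8)
    (hfx : ∀ k, (g ^ k) ^ r = 1 → _root_.Cfsg.Agent.H951.Inv g (fx (g ^ k)) → Nd B (fx (g ^ k)) → finrank F (fx (g ^ k)) + 4 = finrank F V →
      (∀ z ∈ fx (g ^ k), (g ^ (Fintype.card F - 1)) z = z) ∨ ∀ z ∈ fx (g ^ k), (g ^ (Fintype.card F + 1)) z = z) :
    Lcm (Fintype.card F) g := by
  obtain ⟨k, hk1, hk2, hk3⟩ := exists_power hr4 hr0 hm hgm hro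
  have h1 := hlt k hk1 hk3
  have h2 := pos_finrank hk3
  have h3 : finrank F (cm (g ^ k)) = 4 := by omega
  have hcomm : Commute g (g ^ k) := (Commute.refl g).pow_right k
  have hw : Isom B (g ^ k) := hg.pow k
  refine lcm_of hr0 hk1 (big hB hV hw hg hcomm hr0 hk1 hdv (by rw [h3, hr4])) ?_
  refine hfx k hk1 (inv_fx_of_commute hcomm) (Isom.nd_fx hB hw hr0 hk1 hV) ?_
  have := finrank_fx_cm (F := F) (V := V) hr0 hk1
  omega

/-- dimension six -/
theorem six (hB : Frm (RingHom.id F) ε B) (hV : Nd B (⊤ : Submodule F V)) (hr0 : (r : F) ≠ 0)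
    (hg : Isom B g) (hm : (m : F) ≠ 0) (hgm : g ^ m = 1) (hro : r ∣ orderOf g) (hd : finrank F V = 6) :
    Lcm (Fintype.card F) g := by
  refine core hr4 hdv hB hV hr0 hg hm hgm hro (fun k _ _ => ?_) (fun k _ h1 h2 h3 => ?_)
  · have := Submodule.finrank_le (cm (g ^ k))
    omega
  · exact two hB hg hm hgm h1 h2 (by omega)

/-- dimension seven -/
theorem seven (hB : Frm (RingHom.id F) ε B) (hV : Nd B (⊤ : Submodule F V)) (hε : ε = 1) (h2 : (2 : F) ≠ 0)
    (hr0 : (r : F) ≠ 0)
    (hg : Isom B g) (hm : (m : F) ≠ 0) (hgm : g ^ m = 1) (hro : r ∣ orderOf g) (hd : finrank F V = 7) :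
    Lcm (Fintype.card F) g := by
  refine core hr4 hdv hB hV hr0 hg hm hgm hro (fun k _ _ => ?_) (fun k _ h1 h3 h4 => ?_)
  · have := Submodule.finrank_le (cm (g ^ k))
    omega
  · exact three hB hε h2 hg hm hgm h1 h3 (by omega)

theorem eight_even (hB : Frm (RingHom.id F) ε B) (hV : Nd B (⊤ : Submodule F V)) (ha : ∀ v, B v v = 0)
    (hr0 : (r : F) ≠ 0)
    (hg : Isom B g) (hm : (m : F) ≠ 0) (hgm : g ^ m = 1) (hro : r ∣ orderOf g) (hd : finrank F V = 8)
    (hf : fx g ≠ ⊥) : Lcm (Fintype.card F) g := by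
  have hle : ∀ k, fx g ≤ fx (g ^ k) := fun k z hz => mem_fx.2 (pow_fx (mem_fx.1 hz) k)
  refine core hr4 hdv hB hV hr0 hg hm hgm hro (fun k hk _ => ?_) (fun k _ h1 h2 h3 => ?_)
  · have h4 := finrank_fx_cm (F := F) (V := V) hr0 hk
    have h5 := pos_finrank hf
    have h6 := Submodule.finrank_mono (hle k)
    omega
  · refine four hB ha hg hm hgm h1 h2 (by omega) ?_
    rwa [inf_eq_right.2 (hle k)]

theorem eight_odd (hB : Frm (RingHom.id F) ε B) (hV : Nd B (⊤ : Submodule F V)) (hε : ε = 1) (h2 : (2 : F) ≠ 0)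
    (hr2 : Odd r)
    (hr0 : (r : F) ≠ 0)
    (hg : Isom B g) (hm : (m : F) ≠ 0) (hgm : g ^ m = 1) (hro : r ∣ orderOf g) (hd : finrank F V = 8)
    {v : V} (hv : B v v ≠ 0) (hgv : g v = v ∨ g v = -v) : Lcm (Fintype.card F) g := by
  have hv0 : v ≠ 0 := by
    rintro rfl
    exact hv (hB.zero_left 0)
  obtain ⟨δ, hδ2, hδ⟩ : ∃ δ : F, δ * δ = 1 ∧ g v = δ • v := by
    rcases hgv with h | h
    · exact ⟨1, by ring, by rw [h, one_smul]⟩
    · exact ⟨-1, by ring, by rw [h, neg_smul, one_smul]⟩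
  have hδe : ∀ n, Even n → δ ^ n = 1 := fun n hn => by
    obtain ⟨k, rfl⟩ := hn
    rw [← two_mul, pow_mul, pow_two, hδ2, one_pow]
  have hodd : Odd (Fintype.card F) := by
    rw [Nat.odd_iff]
    refine FiniteField.odd_card_of_char_ne_two fun h => h2 ?_
    have h3 := ringChar.Nat.cast_ringChar (R := F)
    rw [h] at h3
    exact_mod_cast h3
  have hline : ∀ n, Even n → ∀ z ∈ Submodule.span F {v}, (g ^ n) z = z := fun n hn z hz => by
    obtain ⟨c, rfl⟩ := Submodule.mem_span_singleton.1 hz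
    rw [map_smul, pow_eq_of_line hδ, hδe n hn, one_smul]
  have hvfx : ∀ k, (g ^ k) ^ r = 1 → v ∈ fx (g ^ k) := fun k hk => by
    rw [mem_fx, pow_eq_of_line hδ]
    have h4 : (δ ^ k) ^ r = 1 := by
      have h5 : ((g ^ k) ^ r) v = v := by rw [hk]; rfl
      rw [pow_eq_of_line (pow_eq_of_line hδ k)] at h5
      by_contra h6
      have h7 : ((δ ^ k) ^ r - 1) • v = 0 := by rw [sub_smul, h5, one_smul, sub_self]
      rcases smul_eq_zero.1 h7 with h8 | h8
      · exact h6 (sub_eq_zero.1 h8)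
      · exact hv0 h8
    obtain ⟨j, hj⟩ := hr2
    have h5 : (δ ^ k) ^ r = δ ^ k := by
      rw [hj, pow_succ, pow_mul, ← pow_mul δ k 2, hδe _ ⟨k, by ring⟩, one_pow, one_mul]
    rw [← h5, h4, one_smul]
  refine core hr4 hdv hB hV hr0 hg hm hgm hro (fun k hk _ => ?_) (fun k hk h1 h3 h4 => ?_)
  · have h4 := finrank_fx_cm (F := F) (V := V) hr0 hk
    have h5 := pos_finrank (U := fx (g ^ k)) ((Submodule.ne_bot_iff _).2 ⟨v, hvfx k hk, hv0⟩)
    omega
  · have hE : _root_.Cfsg.Agent.H951.Inv g (Submodule.span F {v}) := by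
      intro z hz
      obtain ⟨c, rfl⟩ := Submodule.mem_span_singleton.1 hz
      rw [map_smul, hδ, smul_comm]
      exact Submodule.smul_mem _ _ hz
    have hEn : Nd B (Submodule.span F {v}) := by
      intro z hz hz0
      obtain ⟨c, rfl⟩ := Submodule.mem_span_singleton.1 hz
      refine ⟨v, Submodule.mem_span_singleton_self v, ?_⟩
      rw [hB.smul_left]
      exact mul_ne_zero (fun h => hz0 (by rw [h, zero_smul])) hv
    have hEZ : Submodule.span F {v} ≤ fx (g ^ k) := by
      rw [Submodule.span_singleton_le_iff_mem]; exact hvfx k hk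
    have hs := hB.sup_perp_inf hEn hEZ
    have hfin := hB.finrank_perp_inf hEn hEZ
    rw [finrank_span_singleton hv0] at hfin
    have hinj := injective_of_pow' hm hgm
    refine (three hB hε h2 hg hm hgm ((Isom.inv_perp hB hg hinj hE).inf h1) (hB.nd_perp_inf h3 hEn hEZ)
      (by omega)).imp (fun h z hz => ?_) (fun h z hz => ?_)
    · rw [← hs] at hz
      obtain ⟨x, hx, y, hy, rfl⟩ := Submodule.mem_sup.1 hz
      rw [map_add, hline _ (hodd.tsub_odd odd_one) x hx, h y hy]
    · rw [← hs] at hz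
      obtain ⟨x, hx, y, hy, rfl⟩ := Submodule.mem_sup.1 hz
      rw [map_add, hline _ (hodd.add_odd odd_one) x hx, h y hy]

end main

end Cfsg.Agent.H938.Sax.Ord
end

-- part: H938/Sax/PEight
section
/-!
# `PΩ⁺_8(q)`, `q ≥ 4`: every proper subgroup misses an element order (helper938)

The order is `q ^ 4 - 1` (`q` even), `(q ^ 4 - 1) / 4` (`q` odd); elements of the critical subgroups have orders
dividing `lcm(q ^ 2 + 1, q ± 1)`.
-/

set_option autoImplicit false
set_option linter.unusedSectionVars false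

namespace Cfsg.Agent.H938.Sax

open Module QuadraticMap Cfsg Cfsg.Geo Cfsg.Agent.LieClassical.OrthCore Cfsg.Agent.H955 Cfsg.Agent.H954.TSing
  Cfsg.Agent.H884.El Cfsg.Agent.LieClassical.OmegaReindex Cfsg.Agent.OrdDiv Cfsg.Agent.H436 Cfsg.Agent.H915.GN
  Cfsg.Agent.H264.GN Cfsg.Agent.ClassicalGeometry.SympBasic Cfsg.Agent.H931
open Cfsg.Agent.H264.FKS hiding lin
open Cfsg.Agent.H876 (spToGL)
open Cfsg.Agent.H951 (fx cm Inv Frm Isom Nd)
open Cfsg.Agent.H938.Sax.Ord (Lcm)
open scoped MatrixGroups Matrix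

universe u v

/-! ### numbers -/

section num

variable {q i : ℕ}

/-- the missing order -/
def N0 (q : ℕ) : ℕ := if Odd q then (q ^ 4 - 1) / 4 else q ^ 4 - 1

theorem four_sub (hq : 1 ≤ q) : q ^ 4 - 1 = (q ^ 2 + 1) * ((q - 1) * (q + 1)) := by
  obtain ⟨k, rfl⟩ := Nat.exists_eq_add_of_le hq
  rw [show (1 + k) ^ 4 = ((1 + k) ^ 2 + 1) * (k * (1 + k + 1)) + 1 by ring, Nat.add_sub_cancel,
    Nat.add_sub_cancel_left]

theorem four_dvd (ho : Odd q) : 4 ∣ q ^ 4 - 1 := by
  have hq : 1 ≤ q := ho.pos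
  rw [four_sub hq]
  obtain ⟨k, rfl⟩ := ho
  exact Dvd.dvd.mul_left ⟨k * (k + 1), by rw [Nat.add_sub_cancel]; ring⟩ _

theorem dvd_of_lcm {X : Type*} [Group X] {x : X} {c : ℕ} (hc : c = if Odd q then 2 else 1)
    (hq : 2 ≤ q) (ho : orderOf x = N0 q) (h : Lcm q (x ^ i)) : (q + 1) ∣ c * i ∨ (q - 1) ∣ c * i := by
  -- `N0 * c ^ 2 = q ^ 4 - 1`
  have hN : N0 q * (c * c) = (q ^ 2 + 1) * ((q - 1) * (q + 1)) := by
    rw [← four_sub (by omega), hc, N0]
    split_ifs with h1
    · exact Nat.div_mul_cancel (four_dvd h1)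
    · ring
  have key : ∀ b b' : ℕ, 0 < b → (q - 1) * (q + 1) = b * b' → (Odd q → 2 ∣ b) →
      (x ^ i) ^ Nat.lcm (q ^ 2 + 1) b = 1 → b' ∣ c * i := by
    intro b b' hb0 hbb hb h1
    have h2 : N0 q ∣ i * Nat.lcm (q ^ 2 + 1) b := by
      rw [← ho]
      exact orderOf_dvd_of_pow_eq_one (by rw [pow_mul]; exact h1)
    have h3 : Nat.lcm (q ^ 2 + 1) b * c ∣ (q ^ 2 + 1) * b := by
      rw [← Nat.gcd_mul_lcm (q ^ 2 + 1) b, mul_comm]
      refine Nat.mul_dvd_mul_right ?_ _
      rw [hc]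
      split_ifs with h4
      · refine Nat.dvd_gcd ?_ (hb h4)
        exact ((h4.pow (n := 2)).add_odd odd_one).two_dvd
      · exact one_dvd _
    have h4 : (q ^ 2 + 1) * (b * b') ∣ (q ^ 2 + 1) * (b * (c * i)) := by
      rw [← hbb, ← hN]
      calc N0 q * (c * c) ∣ i * Nat.lcm (q ^ 2 + 1) b * (c * c) := Nat.mul_dvd_mul_right h2 _
        _ = (Nat.lcm (q ^ 2 + 1) b * c) * (i * c) := by ring
        _ ∣ ((q ^ 2 + 1) * b) * (i * c) := Nat.mul_dvd_mul_right h3 _
        _ = (q ^ 2 + 1) * (b * (c * i)) := by ring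
    exact Nat.dvd_of_mul_dvd_mul_left hb0 (Nat.dvd_of_mul_dvd_mul_left (by positivity) h4)
  rcases h with h | h
  · exact Or.inl (key (q - 1) (q + 1) (by omega) rfl (fun ho => (ho.tsub_odd odd_one).two_dvd) h)
  · exact Or.inr (key (q + 1) (q - 1) (by omega) (mul_comm _ _) (fun ho => (ho.add_odd odd_one).two_dvd) h)

/-- the geometric case -/
theorem not_lcm {X : Type*} [Group X] {x : X} (hq : 4 ≤ q) (ho : orderOf x = N0 q) : ¬ Lcm q x := by
  intro h
  have h1 := dvd_of_lcm (i := 1) rfl (by omega) ho (by rwa [pow_one])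
  have hc : (if Odd q then 2 else 1) * 1 ≤ 2 := by split_ifs <;> norm_num
  have hc0 : 0 < (if Odd q then 2 else 1) * 1 := by split_ifs <;> norm_num
  rcases h1 with h1 | h1
  · have := Nat.le_of_dvd hc0 h1
    omega
  · have := Nat.le_of_dvd hc0 h1
    omega

theorem lt_three_pow (f : ℕ) (hf : 3 ≤ f) : 4 * f + 1 < 3 ^ f := by
  induction f, hf using Nat.le_induction with
  | base => norm_num
  | succ n hn ih => rw [pow_succ]; omega

/-- the residual case -/
theorem residual_num {p f : ℕ} (hp : p.Prime) (hf : 1 ≤ f) (hq : 4 ≤ p ^ f) {X : Type*} [Group X] {x : X}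
    (ho : orderOf x = N0 (p ^ f)) (hi : i ∣ Nat.gcd 2 (p ^ f - 1) * f) (h : Lcm (p ^ f) (x ^ i)) :
    p ^ f % 4 = 1 ∧ i = Nat.gcd 2 (p ^ f - 1) * f := by
  have h1 := dvd_of_lcm rfl (by omega) ho h
  have hi0 : 0 < i := by
    rcases Nat.eq_zero_or_pos i with rfl | h
    · rw [zero_dvd_iff] at hi
      rcases Nat.mul_eq_zero.1 hi with h | h
      · have := Nat.gcd_pos_of_pos_left (p ^ f - 1) (show 0 < 2 by norm_num)
        omega
      · omega
    · exact h
  rcases hp.eq_two_or_odd' with rfl | hodd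
  · have he : ¬ Odd (2 ^ f) := by
      rw [Nat.not_odd_iff_even]
      exact (even_two.pow_of_ne_zero (by omega))
    rw [if_neg he, one_mul] at h1
    have hg : Nat.gcd 2 (2 ^ f - 1) = 1 := by
      rw [← Nat.coprime_iff_gcd_eq_one, Nat.coprime_two_left]
      exact Nat.Even.sub_odd (by omega) (Nat.not_odd_iff_even.1 he) odd_one
    rw [hg, one_mul] at hi
    have h2 := Nat.le_of_dvd (by omega) hi
    have h3 : 2 ^ f - 1 ≤ i := by
      rcases h1 with h1 | h1
      · have := Nat.le_of_dvd hi0 h1; omega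
      · exact Nat.le_of_dvd hi0 h1
    have h4 : ∀ n, 2 ≤ n → n + 1 < 2 ^ n := by
      intro n hn
      induction n, hn using Nat.le_induction with
      | base => norm_num
      | succ n hn ih => rw [pow_succ]; omega
    have hf2 : 2 ≤ f := by
      by_contra hlt
      obtain rfl : f = 1 := by omega
      norm_num at hq
    have := h4 f hf2
    omega
  · have ho' : Odd (p ^ f) := hodd.pow
    rw [if_pos ho'] at h1
    have hg : Nat.gcd 2 (p ^ f - 1) = 2 := Nat.gcd_eq_left (ho'.tsub_odd odd_one).two_dvd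
    rw [hg] at hi ⊢
    have h2 := Nat.le_of_dvd (by omega) hi
    have h3 : p ^ f - 1 ≤ 2 * i := by
      rcases h1 with h1 | h1
      · have := Nat.le_of_dvd (by omega) h1; omega
      · exact Nat.le_of_dvd (by omega) h1
    have hp3 : 3 ≤ p := by
      have := hp.two_le
      obtain ⟨k, hk⟩ := hodd
      omega
    have hf3 : f < 3 := by
      by_contra hge
      have h5 := lt_three_pow f (by omega)
      have h6 := Nat.pow_le_pow_left hp3 f
      omega
    interval_cases f
    · rw [pow_one] at *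
      have : p = 5 := by
        have : p ≤ 5 := by omega
        obtain ⟨k, hk⟩ := hodd
        omega
      subst this
      have : i = 1 ∨ i = 2 := by omega
      rcases this with rfl | rfl
      · omega
      · omega
    · have hp3' : p = 3 := by
        by_contra hne
        have h5 : 5 ≤ p := by
          obtain ⟨k, hk⟩ := hodd
          omega
        have := Nat.pow_le_pow_left h5 2
        omega
      subst hp3'
      norm_num only [_root_.true_and] at h1 h3 hi ⊢
      have h6 : i ≤ 4 := by omega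
      have h7 : 4 ≤ i := by omega
      omega

end num

/-! ### lifts -/

section lift

variable {F : Type u} [Field F] [Fintype F] {r : ℕ}

omit [Fintype F] in
/-- semisimple lifts over a kernel of exponent two -/
theorem exists_lift_ss {G H : Type*} [Group G] [Group H] (f : G →* H) (hk : ∀ x, f x = 1 → x ^ 2 = 1)
    {x : G} (h : ((orderOf (f x) : ℕ) : F) ≠ 0) :
    ∃ n m : ℕ, f (x ^ n) = f x ∧ (m : F) ≠ 0 ∧ (x ^ n) ^ m = 1 := by
  by_cases h2 : (2 : F) = 0
  · have hodd : Odd (orderOf (f x)) := by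
      rw [← Nat.not_even_iff_odd]
      rintro ⟨k, hk⟩
      apply h
      rw [hk, Nat.cast_add, ← two_mul, h2, zero_mul]
    obtain ⟨n, h3, h4⟩ := exists_lift_odd f hk hodd rfl
    exact ⟨n, _, h3, h, by rw [← h4, pow_orderOf_eq_one]⟩
  · refine ⟨1, orderOf (f x) * 2, by rw [pow_one], ?_, ?_⟩
    · rw [Nat.cast_mul]
      exact mul_ne_zero h (by exact_mod_cast h2)
    · rw [pow_one, pow_mul]
      exact hk _ (by rw [map_pow, pow_orderOf_eq_one])

omit [Fintype F] in
theorem frm_polar {V : Type*} [AddCommGroup V] [Module F V] (Q : QuadraticForm F V) :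
    Frm (RingHom.id F) 1 (polar Q) :=
  ⟨fun u v w => polar_add_left Q u v w, fun a u v => by rw [polar_smul_left, smul_eq_mul],
    fun u v => by rw [polar_comm, one_mul]; rfl, fun _ => rfl, one_ne_zero⟩

omit [Fintype F] in
theorem isom_polar {V : Type*} [AddCommGroup V] [Module F V] {Q : QuadraticForm F V} {g : Module.End F V}
    (hg : ∀ v, Q (g v) = Q v) : Isom (polar Q) g := fun a b => by
  simp only [polar, ← map_add, hg]

omit [Fintype F] in
theorem nd_polar {V : Type*} [AddCommGroup V] [Module F V] {Q : QuadraticForm F V} (hQ : Nondeg Q) :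
    Nd (polar Q) (⊤ : Submodule F V) := by
  intro u _ hu
  by_contra hn
  push Not at hn
  exact hu (hQ u fun v => hn v trivial)

theorem pp_dvd (hr : PP (Nat.card F) 4 r) : r ∣ Fintype.card F ^ 2 + 1 := by
  have h := dvd_pow_add_one (q := Nat.card F) Finite.card_pos (e := 2) (by omega) hr
  rwa [Nat.card_eq_fintype_card] at h

theorem lcm_of_injective {G H : Type*} [Group G] [Monoid H] (f : G →* H) (hf : Function.Injective f) {x : G} {q : ℕ}
    (h : Lcm q (f x)) : Lcm q x := by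
  refine h.imp (fun h => hf ?_) (fun h => hf ?_) <;> rw [map_pow, h, map_one]

theorem lcm_map {G H : Type*} [Monoid G] [Monoid H] (f : G →* H) {x : G} {q : ℕ}
    (h : Lcm q x) : Lcm q (f x) := by
  refine h.imp (fun h => ?_) (fun h => ?_) <;> rw [← map_pow, h, map_one]

theorem lcm_lin {ι : Type} [Fintype ι] [DecidableEq ι] {q : ℕ} {g : GL ι F} (h : Lcm q (lin g)) : Lcm q g := by
  have key : ∀ n, lin g ^ n = 1 → g ^ n = 1 := fun n hn => by
    have h1 := orderOf_dvd_of_pow_eq_one hn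
    rw [orderOf_lin] at h1
    exact orderOf_dvd_iff_pow_eq_one.1 h1
  exact h.imp (key _) (key _)

theorem lin_pow_eq {ι : Type} [Fintype ι] [DecidableEq ι] {g : GL ι F} {n : ℕ} (h : g ^ n = 1) : lin g ^ n = 1 := by
  rw [← orderOf_dvd_iff_pow_eq_one, orderOf_lin, orderOf_dvd_iff_pow_eq_one]
  exact h

/-- elements of `PSp_6(q)` -/
theorem lcm_psp (hr : PP (Nat.card F) 4 r) {y : PSp 3 F} (hry : r ∣ orderOf y) (hy : ((orderOf y : ℕ) : F) ≠ 0) :
    Lcm (Fintype.card F) y := by
  have := Fact.mk hr.prime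
  obtain ⟨A, rfl⟩ := QuotientGroup.mk'_surjective (Subgroup.center (Matrix.symplecticGroup (Fin 3) F)) y
  obtain ⟨n, m, h1, h2, h3⟩ := exists_lift_ss (F := F)
    (QuotientGroup.mk' (Subgroup.center (Matrix.symplecticGroup (Fin 3) F)))
    (fun y hy => by
      have h3 := (QuotientGroup.eq_one_iff y).1 hy
      refine Subtype.ext ?_
      rcases Cfsg.Agent.ClassicalGeometry.SympInvolutions.center_eq h3 with h | h
      · rw [SubmonoidClass.coe_pow, h, one_pow]; rfl
      · rw [SubmonoidClass.coe_pow, h, neg_one_sq]; rfl) hy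
  rw [← h1] at hry ⊢
  refine lcm_map _ (lcm_of_injective (spToGL 3 F) Cfsg.Agent.H262.El.spToGL_injective (lcm_lin ?_))
  have hiso : Isom (sympForm 3 F) (lin (spToGL 3 F (A ^ n))) := fun u v =>
    sympForm_mulVec (A ^ n).2 u v
  have hV : Nd (sympForm 3 F) (⊤ : Submodule F (Fin 3 ⊕ Fin 3 → F)) := H951.nd_symp 3
  refine Ord.six (r := r) (m := m) (ord_eq hr) (pp_dvd hr) (H951.frm_symp 3) hV (hr.ne0 (by omega)) hiso h2 ?_ ?_ ?_
  · refine lin_pow_eq ?_
    rw [← map_pow, h3, map_one]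
  · rw [orderOf_lin, orderOf_injective (spToGL 3 F) Cfsg.Agent.H262.El.spToGL_injective]
    exact hry.trans (orderOf_map_dvd _ _)
  · rw [Module.finrank_fintype_fun_eq_card, Fintype.card_sum, Fintype.card_fin]

section quad

variable {ι : Type} [Fintype ι] [DecidableEq ι] {Q : QuadraticForm F (ι → F)}

/-- semisimple lifts to isometries -/
theorem exists_pre_ss (hD : H390.Lift.Data Q) {M : Subgroup (POmega F (⇑Q))} {m : POmega F (⇑Q)}
    (hm : m ∈ M) (ho : ((orderOf m : ℕ) : F) ≠ 0) :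
    ∃ g ∈ pre (⇑Q) M, (∀ v, Q (lin g v) = Q v) ∧ (∃ k : ℕ, (k : F) ≠ 0 ∧ (lin g) ^ k = 1) ∧
      orderOf m ∣ orderOf (lin g) ∧ ∀ q, Lcm q (lin g) → Lcm q m := by
  obtain ⟨x, rfl⟩ := QuotientGroup.mk'_surjective (Subgroup.center (Omega F (⇑Q))) m
  obtain ⟨n, k, h1, h2, h3⟩ := exists_lift_ss (F := F) (QuotientGroup.mk' (Subgroup.center (Omega F (⇑Q))))
    (fun y hy => H390.Lift.center_sq hD y ((QuotientGroup.eq_one_iff y).1 hy)) ho
  have hmem : (((x ^ n : Omega F (⇑Q)) : isometryGroup F (⇑Q)) : GL ι F) ∈ pre (⇑Q) M := by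
    rw [mem_pre, h1]
    exact hm
  refine ⟨_, hmem, fun v => lin_iso pre_le hmem v, ⟨k, h2, lin_pow_eq ?_⟩, ?_, fun q hq => ?_⟩
  · rw [← Subgroup.coe_pow, ← Subgroup.coe_pow, h3]
    rfl
  · simp only [orderOf_lin, Subgroup.orderOf_coe, Subgroup.orderOf_coe, ← h1]
    exact orderOf_map_dvd _ _
  · rw [← h1]
    refine lcm_map _ (lcm_of_injective (Omega F (⇑Q)).subtype Subtype.val_injective
      (lcm_of_injective (isometryGroup F (⇑Q)).subtype Subtype.val_injective (lcm_lin hq)))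

/-- elements of `Ω_7(q)` -/
theorem lcm_seven (h2F : (2 : F) ≠ 0) (hQ : Nondeg Q) (hD : H390.Lift.Data Q) (hr : PP (Nat.card F) 4 r)
    {y : POmega F (⇑Q)} (hry : r ∣ orderOf y) (hy : ((orderOf y : ℕ) : F) ≠ 0) (hd : Fintype.card ι = 7) :
    Lcm (Fintype.card F) y := by
  have := Fact.mk hr.prime
  obtain ⟨g, -, h1, ⟨k, h2, h3⟩, h4, h5⟩ := exists_pre_ss hD (M := ⊤) (Subgroup.mem_top y) hy
  refine h5 _ (Ord.seven (r := r) (m := k) (ord_eq hr) (pp_dvd hr) (frm_polar Q) (nd_polar hQ) rfl h2F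
    (hr.ne0 (by omega)) (isom_polar h1) h2 h3 (hry.trans h4) (by rw [finrank_V, hd]))

theorem pm_of_line {g : Module.End F (ι → F)} (hg : ∀ v, Q (g v) = Q v) {v : ι → F} (hv : Q v ≠ 0)
    (hl : g v ∈ Submodule.span F {v}) : g v = v ∨ g v = -v := by
  obtain ⟨c, hc⟩ := Submodule.mem_span_singleton.1 hl
  have h1 : Q (c • v) = Q v := by rw [hc, hg]
  rw [QuadraticMap.map_smul, smul_eq_mul] at h1
  have h2 : (c * c - 1) * Q v = 0 := by rw [sub_mul, h1, one_mul, sub_self]
  have h3 : (c - 1) * (c + 1) = 0 := by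
    linear_combination (mul_eq_zero.1 h2).resolve_right hv
  rcases mul_eq_zero.1 h3 with h | h
  · left
    rw [← hc, sub_eq_zero.1 h, one_smul]
  · right
    rw [← hc, eq_neg_of_add_eq_zero_left h, neg_smul, one_smul]

/-- stabilisers of nonsingular points of `PΩ⁺_8(q)` -/
theorem lcm_point (hQ : Nondeg Q) (hD : H390.Lift.Data Q) (hr : PP (Nat.card F) 4 r)
    {M : Subgroup (POmega F (⇑Q))} {v : ι → F} (hv : Q v ≠ 0)
    (hM : pre (⇑Q) M ≤ subspaceStabilizer (Submodule.span F {v}))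
    {y : POmega F (⇑Q)} (hm : y ∈ M) (hry : r ∣ orderOf y) (hy : ((orderOf y : ℕ) : F) ≠ 0)
    (hd : Fintype.card ι = 8) : Lcm (Fintype.card F) y := by
  have := Fact.mk hr.prime
  obtain ⟨g, h0, h1, ⟨k, h2, h3⟩, h4, h5⟩ := exists_pre_ss hD hm hy
  refine h5 _ ?_
  have hpm := pm_of_line h1 hv (inv_of_mem (hM h0) v (Submodule.mem_span_singleton_self v))
  have hv0 : v ≠ 0 := by
    rintro rfl
    exact hv (QuadraticMap.map_zero Q)
  by_cases h2F : (2 : F) = 0
  · have hself : ∀ v, polar Q v v = 0 := fun v => by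
      rw [polar_self, two_nsmul, ← two_mul, h2F, zero_mul]
    have hfix : lin g v = v := by
      rcases hpm with h | h
      · exact h
      · rw [h, neg_eq_iff_add_eq_zero, ← two_smul F, h2F, zero_smul]
    exact Ord.eight_even (r := r) (m := k) (ord_eq hr) (pp_dvd hr) (frm_polar Q) (nd_polar hQ) hself
      (hr.ne0 (by omega)) (isom_polar h1) h2 h3 (hry.trans h4) (by rw [finrank_V, hd])
      ((Submodule.ne_bot_iff _).2 ⟨v, H951.mem_fx.2 hfix, hv0⟩)
  · refine Ord.eight_odd (r := r) (m := k) (ord_eq hr) (pp_dvd hr) (frm_polar Q) (nd_polar hQ) rfl h2F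
      (hr.odd (by omega)) (hr.ne0 (by omega)) (isom_polar h1) h2 h3 (hry.trans h4) (by rw [finrank_V, hd])
      (v := v) ?_ hpm
    rw [polar_self, two_nsmul, ← two_mul]
    exact mul_ne_zero h2F hv

end quad

end lift

/-! ### existence -/

section exist

variable {F : Type u} [Field F] [Fintype F]

theorem exists_N0 : ∃ g : POmega F (quadFormPlus 4 F), orderOf g = N0 (Fintype.card F) := by
  have h1 : H377.Elt F 4 1 (Nat.card F ^ 4 - 1) := H377.elt_tor_plus (by omega) dvd_rfl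
  have hc : Nat.card F = Fintype.card F := Nat.card_eq_fintype_card
  have hq : 2 ≤ Fintype.card F := Fintype.one_lt_card
  have hpos : 0 < Fintype.card F ^ 4 - 1 := by
    have : 2 ^ 4 ≤ Fintype.card F ^ 4 := Nat.pow_le_pow_left hq 4
    omega
  unfold N0
  split_ifs with ho
  · obtain ⟨o, ho0, h2, h3⟩ := H424.OrthElt.exists_four h1
    obtain ⟨g, hg⟩ := h2.plus (by omega)
    rw [hc] at h3
    obtain ⟨j, hj⟩ := four_dvd ho
    rw [hj] at h3 hpos ⊢
    rw [Nat.mul_div_cancel_left _ (by norm_num)]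
    have h4 : j ∣ o := Nat.dvd_of_mul_dvd_mul_left (by norm_num) h3
    obtain ⟨c, rfl⟩ := h4
    have hc0 : c ≠ 0 := by rintro rfl; omega
    refine ⟨g ^ c, ?_⟩
    rw [orderOf_pow_of_dvd hc0 (by rw [hg]; exact Dvd.intro_left j rfl), hg, Nat.mul_div_cancel _ (by omega)]
  · rw [← hc]
    refine (H377.Elt.two (by omega) ?_ h1).plus (by omega)
    rw [hc]
    exact Nat.Even.sub_odd (by omega) ((Nat.not_odd_iff_even.1 ho).pow_of_ne_zero (by omega)) odd_one

end exist

section num2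

variable {p f r : ℕ}

theorem N0_dvd {q : ℕ} : N0 q ∣ q ^ 4 - 1 := by
  unfold N0
  split_ifs with h
  · exact Nat.div_dvd_of_dvd (four_dvd h)
  · exact dvd_rfl

theorem pp_dvd_N0 {q : ℕ} (hq : 2 ≤ q) (hr : PP q 4 r) : r ∣ N0 q := by
  have h1 : r ∣ q ^ 4 - 1 := (hr.dvd_iff (by omega) 4).2 dvd_rfl
  unfold N0
  split_ifs with h
  · have h2 : q ^ 4 - 1 = 4 * ((q ^ 4 - 1) / 4) := (Nat.mul_div_cancel' (four_dvd h)).symm
    rw [h2] at h1
    rcases hr.prime.dvd_mul.1 h1 with h3 | h3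
    · exfalso
      have := Nat.le_of_dvd (by norm_num) h3
      have := hr.lt (by omega)
      omega
    · exact h3
  · exact h1

theorem cast_ne_zero {F : Type u} [Field F] [Fintype F] {k : ℕ} (hk : k ∣ N0 (Fintype.card F)) :
    (k : F) ≠ 0 := by
  intro h0
  have hq : 2 ≤ Fintype.card F := Fintype.one_lt_card
  obtain ⟨c, hc⟩ := hk.trans N0_dvd
  have h1 : ((Fintype.card F ^ 4 - 1 : ℕ) : F) = 0 := by rw [hc, Nat.cast_mul, h0, zero_mul]
  rw [Nat.cast_sub (Nat.one_le_pow _ _ (by omega)), Nat.cast_pow, FiniteField.cast_card_eq_zero] at h1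
  simp only [_root_.ne_eq, _root_.OfNat.ofNat_ne_zero, _root_.not_false_eq_true, _root_.zero_pow, _root_.Nat.cast_one, _root_.zero_sub, _root_.neg_eq_zero, _root_.one_ne_zero] at h1

end num2

/-! ### geometric subgroups -/

/-- geometric subgroups of `PΩ⁺_8(q)`, `q ≥ 4` -/
theorem plus_row_four {F : Type u} [Field F] [Fintype F] (hq : 4 ≤ Fintype.card F)
    (M : Subgroup (POmega F (quadFormPlus 4 F))) :
    OrdGap (POmega F (quadFormPlus 4 F)) M ∨ InOrthogonalResidualClass (pre (quadFormPlus 4 F) M) := by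
  have hex := exists_N0 (F := F)
  rw [← coe_quadPlus] at hex
  have h : ∀ M : Subgroup (POmega F (⇑(quadPlus 4 F))),
      OrdGap (POmega F (⇑(quadPlus 4 F))) M ∨ InOrthogonalResidualClass (pre (⇑(quadPlus 4 F)) M) := by
    intro M
    rcases plus_miss le_rfl (card_plus 4) (nondeg_iff.2 quadPlus_nondegenerate) (isPlus_quadPlus 4)
      (fun h => by rw [Nat.card_eq_fintype_card] at h; omega) (data_plus le_rfl) M with h | h | ⟨-, v, hv, hMv⟩
    · exact Or.inl (PGap.ordGap h)
    · exact Or.inr h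
    · left
      obtain ⟨g, hg⟩ := hex
      obtain ⟨r, hr⟩ := exists_pp (q := Nat.card F) (e := 4) Finite.one_lt_card (by omega) (by omega)
      refine ordGap_of hg fun x hx ho => ?_
      refine not_lcm hq ho (lcm_point (nondeg_iff.2 quadPlus_nondegenerate) (data_plus le_rfl) hr hv hMv hx ?_ ?_
        (card_plus 4))
      · rw [ho]
        exact pp_dvd_N0 Fintype.one_lt_card (by rwa [Nat.card_eq_fintype_card] at hr)
      · rw [ho]
        exact cast_ne_zero dvd_rfl
  rw [coe_quadPlus] at h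
  exact h M

/-! ### subgroups with socle `PSp_6(q)`, `Ω_7(q)` -/

section rows

variable {p f : ℕ} {T : Type u} [Group T] [Finite T]

theorem ordGap_eight {R : Subgroup T} (hp : p.Prime) (hf : 1 ≤ f) (hq : 4 ≤ p ^ f)
    (hT : IsNamed (.oplus 4 (p ^ f)) T) (S : Subgroup R) [S.Normal]
    (hC : Subgroup.centralizer (S : Set R) = ⊥)
    (hS : IsNamed (.psp 3 (p ^ f)) S ∨ IsNamed (.oodd 3 (p ^ f)) S)
    (hcard : p ^ f % 4 = 1 → Nat.card R ≠ Nat.card (MulAut S)) : OrdGap T R := by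
  have : Fact p.Prime := ⟨hp⟩
  obtain ⟨r, hr'⟩ := exists_pp (q := p) (e := f * 4) hp.two_le (by omega) (fun h => by omega)
  have hr := hr'.of_pow hf
  have hlt := hr'.lt (by omega)
  obtain ⟨x, hx⟩ : ∃ g : T, orderOf g = N0 (p ^ f) := by
    obtain ⟨F, _, _, hF, ⟨e⟩⟩ := hT.real
    obtain ⟨g, hg⟩ := exists_N0 (F := F)
    rw [hF] at hg
    exact ⟨e.symm g, by rw [orderOf_mulEquiv, hg]⟩
  -- the automorphism group of the socle
  have hmul : Nat.card (MulAut S) = (Nat.gcd 2 (p ^ f - 1) * f) * Nat.card S := by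
    rcases hS with hS | hS
    · obtain ⟨F, _, _, hF, ⟨e⟩⟩ := hS.real
      have h3 := Cfsg.Agent.S0814.result (F := F) p f hf hF 3 (by omega) (fun h => by omega)
      rw [← Nat.card_congr e.toEquiv, ← Nat.card_congr (MulAut.congr e).toEquiv, if_neg (by omega), one_mul] at h3
      exact h3
    · obtain ⟨F, _, _, hF, ⟨e⟩⟩ := hS.real
      have hodd : Odd p := by
        have h5 := hS.cond.2.1
        rwa [Nat.odd_pow_iff (by omega)] at h5
      have h3 := Cfsg.Agent.S0816.result (F := F) p f hf hF hodd 3 le_rfl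
      rw [← Nat.card_congr e.toEquiv, ← Nat.card_congr (MulAut.congr e).toEquiv] at h3
      rw [h3, Nat.gcd_eq_left ((hodd.pow (n := f)).tsub_odd odd_one).two_dvd]
  have hidx := Sax.index_dvd S hC hmul
  have hc2 : Nat.gcd 2 (p ^ f - 1) ≤ 2 := Nat.gcd_le_left _ (by norm_num)
  have hc0 : 0 < Nat.gcd 2 (p ^ f - 1) := Nat.gcd_pos_of_pos_left _ (by norm_num)
  have hle : S.index ≤ 2 * f := (Nat.le_of_dvd (Nat.mul_pos hc0 (by omega)) hidx).trans (Nat.mul_le_mul_right f hc2)
  have hpos : 0 < S.index := Nat.pos_of_ne_zero fun h => by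
    rw [h, zero_dvd_iff] at hidx
    rcases Nat.mul_eq_zero.1 hidx with h | h <;> omega
  refine ordGap_of hx fun m hm ho => ?_
  have h1 : orderOf (⟨m, hm⟩ : R) = N0 (p ^ f) := by rw [← ho, ← Subgroup.orderOf_coe]
  have h2 : (⟨m, hm⟩ : R) ^ S.index ∈ S := Subgroup.pow_index_mem S _
  have hdv : orderOf (⟨_, h2⟩ : S) ∣ N0 (p ^ f) := by
    rw [Subgroup.orderOf_mk, ← h1]
    exact orderOf_pow_dvd _
  have hrd : r ∣ orderOf (⟨_, h2⟩ : S) := by
    rw [Subgroup.orderOf_mk]
    have h3 : N0 (p ^ f) ∣ S.index * orderOf ((⟨m, hm⟩ : R) ^ S.index) := by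
      rw [← h1]
      exact orderOf_dvd_of_pow_eq_one (by rw [pow_mul, pow_orderOf_eq_one])
    rcases hr.prime.dvd_mul.1 ((pp_dvd_N0 (by omega) hr).trans h3) with h4 | h4
    · have := Nat.le_of_dvd hpos h4
      omega
    · exact h4
  have hL : Lcm (p ^ f) (⟨_, h2⟩ : S) := by
    rcases hS with hS | hS
    · obtain ⟨F, _, _, hF, ⟨e⟩⟩ := hS.real
      refine lcm_of_injective e.toMonoidHom e.injective ?_
      have h3 : orderOf (e.toMonoidHom (⟨_, h2⟩ : S)) = orderOf (⟨_, h2⟩ : S) := orderOf_injective _ e.injective _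
      rw [← hF]
      rw [← hF] at hdv
      refine lcm_psp (r := r) (by rw [Nat.card_eq_fintype_card, hF]; exact hr) (by rw [h3]; exact hrd) ?_
      rw [h3]
      exact cast_ne_zero hdv
    · obtain ⟨F, _, _, hF, ⟨e⟩⟩ := hS.real
      refine lcm_of_injective e.toMonoidHom e.injective ?_
      have h3 : orderOf (e.toMonoidHom (⟨_, h2⟩ : S)) = orderOf (⟨_, h2⟩ : S) := orderOf_injective _ e.injective _
      have hodd : Odd (Fintype.card F) := hF ▸ hS.cond.2.1
      have h2F := H390.two_ne_zero_of_odd hodd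
      rw [← hF]
      rw [← hF] at hdv
      have key : ∀ y : POmega F (⇑(quadOdd 3 F)), r ∣ orderOf y → ((orderOf y : ℕ) : F) ≠ 0 →
          Lcm (Fintype.card F) y := fun y h6 h7 =>
        lcm_seven h2F (nondeg_iff.2 (quadOdd_nondegenerate h2F)) (data_odd le_rfl h2F)
          (by rw [Nat.card_eq_fintype_card, hF]; exact hr) h6 h7 (card_odd 3)
      rw [coe_quadOdd] at key
      refine key _ (by rw [h3]; exact hrd) ?_
      rw [h3]
      exact cast_ne_zero hdv
  have hL' : Lcm (p ^ f) ((⟨m, hm⟩ : R) ^ S.index) := lcm_map S.subtype hL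
  obtain ⟨h5, h6⟩ := residual_num hp hf hq h1 hidx hL'
  apply hcard h5
  rw [hmul, ← h6, mul_comm, S.card_mul_index]

/-- **`T = PΩ⁺_8(q)`, `q ≥ 4`**, own characteristic. -/
theorem charp_eight_gap {g : Grp} {R : Subgroup T} (hp : p.Prime) (hf : 1 ≤ f) (hq : 4 ≤ p ^ f)
    (hT : IsNamed (.oplus 4 (p ^ f)) T) (hR : R ≠ ⊤) (S : Subgroup R) [S.Normal] [IsSimpleGroup S]
    (hna : ¬ IsMulCommutative S) (hC : Subgroup.centralizer (S : Set R) = ⊥) (hS : IsNamed g S)
    (hch : HasChar p g)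
    (hcard : p ^ f % 4 = 1 → (IsNamed (.psp 3 (p ^ f)) S ∨ IsNamed (.oodd 3 (p ^ f)) S) →
      Nat.card R ≠ Nat.card (MulAut S)) : OrdGap T R := by
  by_cases hfull : Full T R
  · obtain ⟨-, h2⟩ := full_oplus' hT hp hf le_rfl (fun h => by
      obtain ⟨rfl, h⟩ := h
      have : f = 1 := by omega
      subst this
      norm_num at hq) (fun h => by omega) hR hfull S hna hC hS hch
    have h3 : IsNamed (.psp 3 (p ^ f)) S ∨ IsNamed (.oodd 3 (p ^ f)) S := by
      rcases h2 with rfl | rfl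
      · exact Or.inl hS
      · exact Or.inr hS
    exact ordGap_eight hp hf hq hT S hC h3 (fun h => hcard h h3)
  · exact (pgap_of_not_full hfull).ordGap

end rows

end Cfsg.Agent.H938.Sax
end

-- part: H833/PlusTwo
section
/-!
# Elements of order `2 r` in `PΩ⁺₈(q)`, `q ≡ 1 (mod 4)`, `ord_r(q) = 6` (helper833)

`no_two_r` : there are none.
-/

set_option autoImplicit false

namespace Cfsg.Agent.H833.PlusTwo

open Module QuadraticMap Cfsg Cfsg.Agent.LieClassical.OrthCore Cfsg.Agent.H955 Cfsg.Agent.H954.TSing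
  Cfsg.Agent.H884.El Cfsg.Agent.LieClassical.OmegaReindex Cfsg.Agent.ClassicalGeometry.Reflection
open Cfsg.Agent.H951 (fx cm Inv)
open scoped MatrixGroups Matrix

universe u v

section abs

variable {F : Type u} [Field F] [Fintype F] {V : Type v} [AddCommGroup V] [Module F V] [FiniteDimensional F V]
  {Q : QuadraticForm F V} {x s : Module.End F V} {r e : ℕ}

omit [Fintype F] [FiniteDimensional F V] in
theorem inv_ker (hc : ∀ v, s (x v) = x (s v)) (c : F) : _root_.Cfsg.Agent.H951.Inv x (LinearMap.ker (s - algebraMap F (Module.End F V) c)) := by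
  intro w hw
  rw [LinearMap.mem_ker, LinearMap.sub_apply, Module.algebraMap_end_apply] at hw ⊢
  rw [hc, ← map_smul, ← map_sub, hw, map_zero]

omit [Fintype F] [FiniteDimensional F V] in
theorem mem_ker {c : F} {v : V} : v ∈ LinearMap.ker (s - algebraMap F (Module.End F V) c) ↔ s v = c • v := by
  rw [LinearMap.mem_ker, LinearMap.sub_apply, Module.algebraMap_end_apply, sub_eq_zero]

/-- `s ^ 2 = c ^ 2`, `s` commutes with `x`: `s` is a scalar on `[V, x]`. -/
theorem scalar_cm (h : Iso Q x r) (hr : PP (Nat.card F) e r) (hcm : finrank F (cm x) = e) (hx1 : x ≠ 1)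
    (h2 : (2 : F) ≠ 0) {c : F} (hc0 : c ≠ 0) (hc : ∀ v, s (x v) = x (s v)) (hss : ∀ v, s (s v) = (c * c) • v) :
    (∀ v ∈ cm x, s v = c • v) ∨ (∀ v ∈ cm x, s v = (-c) • v) := by
  rcases h.le_or hr hcm (inv_ker hc c) with h1 | h1
  · rcases h.le_or hr hcm (inv_ker hc (-c)) with h3 | h3
    · exfalso
      apply hx1
      refine LinearMap.ext fun v => ?_
      have h4 : c • v + s v ∈ fx x := h1 (mem_ker.2 (by rw [map_add, map_smul, hss, smul_add, smul_smul, add_comm]))
      have h5 : c • v - s v ∈ fx x := h3 (mem_ker.2 (by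
        rw [map_sub, map_smul, hss, smul_sub, smul_smul, neg_mul, neg_smul, neg_smul]; abel))
      have h6 : (2 * c) • v ∈ fx x := by
        have := (fx x).add_mem h4 h5
        rwa [add_add_sub_cancel, ← add_smul, ← two_mul] at this
      have h7 := (fx x).smul_mem (2 * c)⁻¹ h6
      rw [smul_smul, inv_mul_cancel₀ (mul_ne_zero h2 hc0), one_smul] at h7
      exact H951.mem_fx.1 h7
    · exact Or.inr fun v hv => mem_ker.1 (h3 hv)
  · exact Or.inl fun v hv => mem_ker.1 (h1 hv)

/-- an isometry commuting with `x` does not square to `-1` if `-1` is a square. -/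
theorem no_sq_neg (h : Iso Q x r) (hQ : Nondeg Q) (hr : PP (Nat.card F) e r) (hcm : finrank F (cm x) = e)
    (hx1 : x ≠ 1) (h2 : (2 : F) ≠ 0) {i : F} (hi : i * i = -1) (hs : ∀ v, Q (s v) = Q v)
    (hc : ∀ v, s (x v) = x (s v)) (hss : ∀ v, s (s v) = -v) : False := by
  have hi0 : i ≠ 0 := by
    rintro rfl
    rw [mul_zero] at hi
    exact one_ne_zero (α := F) (by linear_combination hi)
  have hts : TS Q (cm x) := by
    have key : ∀ c : F, c * c = -1 → (∀ v ∈ cm x, s v = c • v) → TS Q (cm x) := by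
      intro c hcc h1 v hv
      have h3 := hs v
      rw [h1 v hv, QuadraticMap.map_smul, hcc, smul_eq_mul] at h3
      have h4 : 2 * Q v = 0 := by linear_combination -h3
      exact (mul_eq_zero.1 h4).resolve_left h2
    rcases scalar_cm h hr hcm hx1 h2 hi0 hc (fun v => by rw [hss, hi, neg_smul, one_smul]) with h1 | h1
    · exact key i hi h1
    · exact key (-i) (by rw [neg_mul_neg, hi]) h1
  exact ts_not_nondeg hts le_rfl (cm_ne_bot hx1) (nondeg_cm hQ h.iso h.ne0 h.pow)

end abs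

section mat

variable {F : Type u} [Field F] [Fintype F] {ι : Type} [Fintype ι] [DecidableEq ι]
  {Q : QuadraticForm F (ι → F)} {x : Module.End F (ι → F)} {r e : ℕ}

open Cfsg.Agent.ClassicalGeometry.OmegaIndex Cfsg.Agent.ClassicalGeometry.SpinorSign

omit [Fintype F] [DecidableEq ι] in
/-- two orthogonal anisotropic vectors of a plane span it together with `U^⊥` -/
theorem ext_of_plane {U C : Submodule F (ι → F)} (hUC : U ⊔ C = ⊤) (hU : finrank F U = 2) {u₀ u₁ : ι → F}
    (h0 : u₀ ∈ U) (h1 : u₁ ∈ U) (hli : LinearIndependent F ![u₀, u₁])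
    {f g : Module.End F (ι → F)} (hf0 : f u₀ = g u₀) (hf1 : f u₁ = g u₁) (hC : ∀ v ∈ C, f v = g v) : f = g := by
  have hspan : Submodule.span F (Set.range ![u₀, u₁]) = U := by
    apply Submodule.eq_of_le_of_finrank_eq
    · rw [Submodule.span_le]
      rintro _ ⟨j, rfl⟩
      fin_cases j
      · exact h0
      · exact h1
    · rw [finrank_span_eq_card hli, hU, Fintype.card_fin]
  refine LinearMap.ext fun v => ?_
  have hv : v ∈ U ⊔ C := by rw [hUC]; trivial
  obtain ⟨a, ha, b, hb, rfl⟩ := Submodule.mem_sup.1 hv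
  rw [map_add, map_add, hC b hb]
  congr 1
  rw [← hspan] at ha
  have h3 := LinearMap.eqOn_span (s := Set.range ![u₀, u₁]) (f := f) (g := g) (by
    rintro _ ⟨j, rfl⟩
    fin_cases j
    · exact hf0
    · exact hf1)
  exact h3 ha

omit [Fintype F] in
theorem polar_lin (s : Cfsg.isometryGroup F (⇑Q)) (u v : ι → F) :
    polar (⇑Q) (lin (s : GL ι F) u) (lin (s : GL ι F) v) = polar (⇑Q) u v := by
  have h : ∀ w, Q (lin (s : GL ι F) w) = Q w := lin_iso le_rfl s.2
  simp only [polar, ← map_add, h]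

omit [Fintype F] in
theorem lin_refl_self {u : ι → F} (hu : Q u ≠ 0) : lin (reflIso Q u hu : GL ι F) u = -u := by
  rw [lin, Matrix.toLin'_apply, coe_reflIso]
  exact reflectionMatrix_mulVec_self Q u hu

omit [Fintype F] in
theorem lin_refl_perp {u w : ι → F} (hu : Q u ≠ 0) (h : polar (⇑Q) u w = 0) :
    lin (reflIso Q u hu : GL ι F) w = w := by
  rw [lin, Matrix.toLin'_apply, coe_reflIso]
  exact reflectionMatrix_mulVec_of_polar_eq_zero Q u w h

/-- an element `s` of `Ω`, `s ^ 2 = 1`, trivial on `[V, x]`, is trivial. -/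
theorem omega_inv (hQ : Nondeg Q) (hP : IsPlus Q) (hd : Fintype.card ι = e + 2) (he : Even e)
    (hr : PP (Nat.card F) e r) (h2 : (2 : F) ≠ 0) {i : F} (hi : i * i = -1) (hx : Iso Q x r) (hx1 : x ≠ 1)
    (he2 : 2 < e) {s : Cfsg.isometryGroup F (⇑Q)} (hs : s ∈ Cfsg.Omega F (⇑Q))
    (hc : ∀ v, lin (s : GL ι F) (x v) = x (lin (s : GL ι F) v))
    (hss : ∀ v, lin (s : GL ι F) (lin (s : GL ι F) v) = v)
    (hs1 : ∀ v ∈ cm x, lin (s : GL ι F) v = v) : lin (s : GL ι F) = 1 := by
  classical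
  have hfin : finrank F (ι → F) = e + 2 := by rw [Module.finrank_fintype_fun_eq_card, hd]
  obtain ⟨hcm, hnp⟩ := hx.even_case hQ hx1 hr he (by omega)
  have hU : finrank F (fx x) = 2 := by
    have := hx.finrank_add
    omega
  have hUp : ¬ IsPlus (res Q (fx x)) := by
    intro h
    have h1 := (hx.isPlus_fx hQ (by rw [hfin]; exact he.add even_two) (by rw [hcm]; exact he)).1 hP
    exact hnp (h1.2 h)
  have han : ∀ u ∈ fx x, u ≠ 0 → Q u ≠ 0 := fun u hu hu0 h => hu0 (aniso_of_not_plus hU hUp hu h)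
  have hperp : ∀ u ∈ fx x, ∀ v ∈ cm x, polar (⇑Q) u v = 0 := by
    intro u hu v hv
    rw [← perp_cm hQ hx.iso hx.ne0 hx.pow] at hu
    rw [polar_comm]
    exact hu v hv
  have hsU : ∀ u ∈ fx x, lin (s : GL ι F) u ∈ fx x := by
    intro u hu
    rw [H951.mem_fx] at hu ⊢
    rw [← hc, hu]
  have hsup : fx x ⊔ cm x = ⊤ := (H951.isCompl_fx_cm hx.ne0 hx.pow).sup_eq_top
  set S := lin (s : GL ι F) with hS
  -- an eigenvector
  obtain ⟨u₀, hu₀, hu₀0, ε₀, hε₀, hsu₀⟩ : ∃ u₀ ∈ fx x, u₀ ≠ 0 ∧ ∃ ε : F, (ε = 1 ∨ ε = -1) ∧ S u₀ = ε • u₀ := by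
    obtain ⟨v, hv, hv0⟩ := (Submodule.ne_bot_iff _).1 (show fx x ≠ ⊥ by
      intro h0; rw [h0, finrank_bot] at hU; omega)
    by_cases h0 : v + S v = 0
    · exact ⟨v, hv, hv0, -1, Or.inr rfl, by rw [neg_smul, one_smul]; exact eq_neg_of_add_eq_zero_right h0⟩
    · exact ⟨v + S v, (fx x).add_mem hv (hsU v hv), h0, 1, Or.inl rfl, by
        rw [map_add, hss, one_smul, add_comm]⟩
  have hq0 := han u₀ hu₀ hu₀0
  -- an orthogonal vector
  obtain ⟨w, hw, hwn⟩ : ∃ w ∈ fx x, w ∉ Submodule.span F {u₀} := by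
    by_contra hcon
    push Not at hcon
    have h1 : finrank F (fx x) ≤ finrank F (Submodule.span F {u₀}) := Submodule.finrank_mono hcon
    rw [finrank_span_singleton hu₀0] at h1
    omega
  obtain ⟨u₁, hu₁, hu₁n, hp⟩ : ∃ u₁ ∈ fx x, u₁ ∉ Submodule.span F {u₀} ∧ polar (⇑Q) u₀ u₁ = 0 := by
    refine ⟨w - (polar (⇑Q) u₀ w / (2 * Q u₀)) • u₀, (fx x).sub_mem hw ((fx x).smul_mem _ hu₀), ?_, ?_⟩
    · intro h
      apply hwn
      have := (Submodule.span F {u₀}).add_mem h
        ((Submodule.span F {u₀}).smul_mem (polar (⇑Q) u₀ w / (2 * Q u₀)) (Submodule.mem_span_singleton_self u₀))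
      rwa [sub_add_cancel] at this
    · rw [QuadraticMap.polar_sub_right, QuadraticMap.polar_smul_right, ClassicalGeometry.Reflection.polar_self', smul_eq_mul,
        div_mul_cancel₀ _ (mul_ne_zero h2 hq0), sub_self]
  have hu₁0 : u₁ ≠ 0 := by
    rintro rfl
    exact hu₁n (Submodule.zero_mem _)
  have hq1 := han u₁ hu₁ hu₁0
  have hp' : polar (⇑Q) u₁ u₀ = 0 := by rw [polar_comm]; exact hp
  have hli : LinearIndependent F ![u₀, u₁] := by
    rw [LinearIndependent.pair_iff]
    intro a b hab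
    have h1 := congrArg (fun z => polar (⇑Q) u₀ z) hab
    simp only [QuadraticMap.polar_add_right, QuadraticMap.polar_smul_right, ClassicalGeometry.Reflection.polar_self', hp, smul_eq_mul, mul_zero,
      add_zero, QuadraticMap.polar_zero_right] at h1
    have ha : a = 0 := (mul_eq_zero.1 h1).resolve_right (mul_ne_zero h2 hq0)
    rw [ha, zero_smul, zero_add, smul_eq_zero] at hab
    exact ⟨ha, hab.resolve_right hu₁0⟩
  obtain ⟨ε₁, hε₁, hsu₁⟩ : ∃ ε : F, (ε = 1 ∨ ε = -1) ∧ S u₁ = ε • u₁ := by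
    have hspan : Submodule.span F (Set.range ![u₀, u₁]) = fx x := by
      apply Submodule.eq_of_le_of_finrank_eq
      · rw [Submodule.span_le]
        rintro _ ⟨j, rfl⟩
        fin_cases j
        · exact hu₀
        · exact hu₁
      · rw [finrank_span_eq_card hli, hU, Fintype.card_fin]
    have h1 := hsU u₁ hu₁
    rw [← hspan] at h1
    rw [Matrix.range_cons_cons_empty, Submodule.mem_span_pair] at h1
    obtain ⟨a, b, hab⟩ := h1
    have h3 : polar (⇑Q) u₀ (S u₁) = 0 := by
      have h4 : u₀ = ε₀ • S u₀ := by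
        rw [hsu₀, smul_smul]
        rcases hε₀ with h | h <;> rw [h] <;> simp
      rw [h4, QuadraticMap.polar_smul_left, hS, polar_lin, hp, smul_zero]
    rw [← hab] at h3
    simp only [QuadraticMap.polar_add_right, QuadraticMap.polar_smul_right, ClassicalGeometry.Reflection.polar_self', hp, smul_eq_mul, mul_zero,
      add_zero] at h3
    have ha : a = 0 := (mul_eq_zero.1 h3).resolve_right (mul_ne_zero h2 hq0)
    rw [ha, zero_smul, zero_add] at hab
    refine ⟨b, ?_, hab.symm⟩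
    have h5 := hss u₁
    rw [← hab, map_smul, ← hab, smul_smul] at h5
    have h6 : (b * b - 1) • u₁ = 0 := by rw [sub_smul, h5, one_smul, sub_self]
    have h7 : b * b - 1 = 0 := (smul_eq_zero.1 h6).resolve_right hu₁0
    have h8 : (b - 1) * (b + 1) = 0 := by linear_combination h7
    rcases mul_eq_zero.1 h8 with h | h
    · exact Or.inl (sub_eq_zero.1 h)
    · exact Or.inr (eq_neg_of_add_eq_zero_left h)
  have hnd : (polarBilin Q).Nondegenerate := nondeg_iff.1 hQ
  obtain ⟨hdet, hspin⟩ := (mem_Omega_iff h2 Q hnd (by omega) one_ne_zero s).1 hs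
  have hds : detSpinor (⇑Q) 1 s = 1 := (detSpinor_eq_one_iff _ _ _).2 ⟨hdet, hspin⟩
  have hm1 := neg_one_ne_one_units h2
  rcases hε₀ with rfl | rfl <;> rcases hε₁ with rfl | rfl
  · refine ext_of_plane hsup hU hu₀ hu₁ hli ?_ ?_ ?_
    · rw [hsu₀, one_smul]; rfl
    · rw [hsu₁, one_smul]; rfl
    · intro v hv
      exact hs1 v hv
  · exfalso
    have h1 : s = reflIso Q u₁ hq1 := by
      apply Subtype.ext
      apply lin_injective
      refine ext_of_plane hsup hU hu₀ hu₁ hli ?_ ?_ ?_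
      · rw [lin_refl_perp hq1 hp']
        exact hsu₀.trans (one_smul _ _)
      · rw [lin_refl_self hq1]
        exact hsu₁.trans (by rw [neg_smul, one_smul])
      · intro v hv
        rw [lin_refl_perp hq1 (hperp _ hu₁ v hv)]
        exact hs1 v hv
    rw [h1, detSpinor_reflIso h2 Q one_ne_zero] at hds
    exact hm1 (congrArg Prod.fst hds)
  · exfalso
    have h1 : s = reflIso Q u₀ hq0 := by
      apply Subtype.ext
      apply lin_injective
      refine ext_of_plane hsup hU hu₀ hu₁ hli ?_ ?_ ?_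
      · rw [lin_refl_self hq0]
        exact hsu₀.trans (by rw [neg_smul, one_smul])
      · rw [lin_refl_perp hq0 hp]
        exact hsu₁.trans (one_smul _ _)
      · intro v hv
        rw [lin_refl_perp hq0 (hperp _ hu₀ v hv)]
        exact hs1 v hv
    rw [h1, detSpinor_reflIso h2 Q one_ne_zero] at hds
    exact hm1 (congrArg Prod.fst hds)
  · exfalso
    have hmul : ∀ (g h : Cfsg.isometryGroup F (⇑Q)) (v : ι → F),
        lin ((g * h : Cfsg.isometryGroup F (⇑Q)) : GL ι F) v = lin (g : GL ι F) (lin (h : GL ι F) v) := by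
      intro g h v
      rw [Subgroup.coe_mul, lin, Units.val_mul, Matrix.toLin'_mul]; rfl
    have h1 : s = reflIso Q u₀ hq0 * reflIso Q u₁ hq1 := by
      apply Subtype.ext
      apply lin_injective
      refine ext_of_plane hsup hU hu₀ hu₁ hli ?_ ?_ ?_
      · rw [hmul, lin_refl_perp hq1 hp', lin_refl_self hq0]
        exact hsu₀.trans (by rw [neg_smul, one_smul])
      · rw [hmul, lin_refl_self hq1, map_neg, lin_refl_perp hq0 hp]
        exact hsu₁.trans (by rw [neg_smul, one_smul])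
      · intro v hv
        rw [hmul, lin_refl_perp hq1 (hperp _ hu₁ v hv), lin_refl_perp hq0 (hperp _ hu₀ v hv)]
        exact hs1 v hv
    rw [h1, map_mul, detSpinor_reflIso h2 Q one_ne_zero, detSpinor_reflIso h2 Q one_ne_zero, one_mul, one_mul] at hds
    have h3 : (if IsSquare (Q u₀) then (-1 : ℤˣ) else 1) * (if IsSquare (Q u₁) then (-1 : ℤˣ) else 1) = 1 :=
      congrArg Prod.snd hds
    have h4 : IsSquare (Q u₀) ↔ IsSquare (Q u₁) := by
      by_cases ha : IsSquare (Q u₀) <;> by_cases hb : IsSquare (Q u₁)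
      · exact ⟨fun _ => hb, fun _ => ha⟩
      · rw [if_pos ha, if_neg hb] at h3
        exact absurd h3 (by decide)
      · rw [if_neg ha, if_pos hb] at h3
        exact absurd h3 (by decide)
      · exact ⟨fun h => absurd h ha, fun h => absurd h hb⟩
    obtain ⟨t, ht⟩ : IsSquare (Q u₀ * Q u₁) := (ClassicalGeometry.Universal.isSquare_mul_iff h2 hq0 hq1).2 h4
    have ht0 : t ≠ 0 := by
      rintro rfl
      rw [mul_zero] at ht
      exact mul_ne_zero hq0 hq1 ht
    refine han ((i * t) • u₀ + Q u₀ • u₁) ((fx x).add_mem ((fx x).smul_mem _ hu₀) ((fx x).smul_mem _ hu₁)) ?_ ?_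
    · intro h0
      have h5 := (LinearIndependent.pair_iff.1 hli _ _ h0).2
      exact hq0 h5
    · rw [map_add', QuadraticMap.map_smul, QuadraticMap.map_smul, QuadraticMap.polar_smul_left,
        QuadraticMap.polar_smul_right, hp, smul_zero, smul_zero, add_zero, smul_eq_mul, smul_eq_mul]
      linear_combination (Q u₀ * t * t) * hi + (Q u₀) * ht

omit [Fintype F] in
theorem lin_mul_apply (g h : Cfsg.isometryGroup F (⇑Q)) (v : ι → F) :
    lin ((g * h : Cfsg.isometryGroup F (⇑Q)) : GL ι F) v = lin (g : GL ι F) (lin (h : GL ι F) v) := by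
  rw [Subgroup.coe_mul, lin, Units.val_mul, Matrix.toLin'_mul]; rfl

/-- **no element of order `2 r`** -/
theorem no_two_r (hQ : Nondeg Q) (hD : H390.Lift.Data Q) (hP : IsPlus Q) (hd : Fintype.card ι = e + 2)
    (he : Even e) (he2 : 2 < e) (hr : PP (Nat.card F) e r) (h2 : (2 : F) ≠ 0) {i : F} (hi : i * i = -1)
    (hneg : ∃ g : Cfsg.isometryGroup F (⇑Q), g ∈ Cfsg.Omega F (⇑Q) ∧ ((g : GL ι F) : Matrix ι ι F) = -1)
    (y : POmega F (⇑Q)) : orderOf y ≠ 2 * r := by
  intro ho
  have hr1 := hr.lt (by omega)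
  obtain ⟨x₀, rfl⟩ := QuotientGroup.mk'_surjective (Subgroup.center (Cfsg.Omega F (⇑Q))) y
  have hcen : ∀ n : ℕ, x₀ ^ n ∈ Subgroup.center (Cfsg.Omega F (⇑Q)) → 2 * r ∣ n := by
    intro n hn
    rw [← ho]
    apply orderOf_dvd_of_pow_eq_one
    rw [← map_pow]
    exact (QuotientGroup.eq_one_iff _).2 hn
  have hz : x₀ ^ (2 * r) ∈ Subgroup.center (Cfsg.Omega F (⇑Q)) := by
    rw [← QuotientGroup.eq_one_iff]
    change QuotientGroup.mk' _ (x₀ ^ (2 * r)) = 1
    simp only [map_pow, ← ho, pow_orderOf_eq_one]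
  have hz2 := H390.Lift.center_sq hD _ hz
  set X : Cfsg.isometryGroup F (⇑Q) := (x₀ : Cfsg.isometryGroup F (⇑Q)) with hX
  have hlin : ∀ n : ℕ, lin ((X ^ n : Cfsg.isometryGroup F (⇑Q)) : GL ι F) = lin (X : GL ι F) ^ n := by
    intro n
    induction n with
    | zero => rw [pow_zero, pow_zero]; exact lin_one
    | succ n ih =>
      rw [pow_succ, pow_succ, ← ih]
      exact LinearMap.ext fun v => lin_mul_apply _ _ v
  have hone : ∀ n : ℕ, lin (X : GL ι F) ^ n = 1 → x₀ ^ n = 1 := by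
    intro n hn
    rw [← hlin, ← lin_one] at hn
    apply Subtype.ext
    apply Subtype.ext
    exact lin_injective hn
  have hpow : (lin (X : GL ι F) ^ 4) ^ r = 1 := by
    rw [← pow_mul, ← hlin, hX, ← Subgroup.coe_pow, show 4 * r = 2 * r * 2 by ring, pow_mul, hz2]
    exact lin_one
  have hiso : ∀ n : ℕ, ∀ v, Q ((lin (X : GL ι F) ^ n) v) = Q v := by
    intro n v
    rw [← hlin]
    exact lin_iso le_rfl (X ^ n).2 v
  have hx : Iso Q (lin (X : GL ι F) ^ 4) r := Iso.mk' hr (by omega) hpow (hiso 4)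
  have hx1 : lin (X : GL ι F) ^ 4 ≠ 1 := by
    intro h
    have h1 := hcen 4 (by rw [hone 4 h]; exact Subgroup.one_mem _)
    have := Nat.le_of_dvd (by norm_num) h1
    omega
  have hfin : finrank F (ι → F) = e + 2 := by rw [Module.finrank_fintype_fun_eq_card, hd]
  obtain ⟨hcm, -⟩ := hx.even_case hQ hx1 hr he (by omega)
  have hcomm : ∀ v, lin ((X ^ r : Cfsg.isometryGroup F (⇑Q)) : GL ι F) ((lin (X : GL ι F) ^ 4) v) =
      (lin (X : GL ι F) ^ 4) (lin ((X ^ r : Cfsg.isometryGroup F (⇑Q)) : GL ι F) v) := by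
    intro v
    rw [hlin]
    have h1 : lin (X : GL ι F) ^ r * lin (X : GL ι F) ^ 4 = lin (X : GL ι F) ^ 4 * lin (X : GL ι F) ^ r := by
      rw [← pow_add, ← pow_add, add_comm]
    exact congrArg (fun z : Module.End F (ι → F) => z v) h1
  have hsq : ∀ v, lin ((X ^ r : Cfsg.isometryGroup F (⇑Q)) : GL ι F)
      (lin ((X ^ r : Cfsg.isometryGroup F (⇑Q)) : GL ι F) v) = (lin (X : GL ι F) ^ (2 * r)) v := by
    intro v
    rw [hlin, mul_comm, pow_mul, pow_two]
    rfl
  have hnd2 : ¬ 2 * r ∣ r := fun h => by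
    have := Nat.le_of_dvd (by omega) h
    omega
  have hmat : ∀ n : ℕ, LieClassical.OmegaCenter.omegaMat (x₀ ^ n) =
      ((X ^ n : Cfsg.isometryGroup F (⇑Q)) : GL ι F).val := fun n => rfl
  rcases (LieClassical.OmegaCenter.mem_center_omega_iff Q hD.nd hD.dim hD.iso _).1 hz with h1 | h1
  · have h3 : lin (X : GL ι F) ^ (2 * r) = 1 := by
      rw [← hlin, lin, ← hmat, h1, Matrix.toLin'_one]; rfl
    have hss : ∀ v, lin ((X ^ r : Cfsg.isometryGroup F (⇑Q)) : GL ι F)
      (lin ((X ^ r : Cfsg.isometryGroup F (⇑Q)) : GL ι F) v) = v := fun v => by rw [hsq, h3]; rfl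
    have hsΩ : X ^ r ∈ Cfsg.Omega F (⇑Q) := (Cfsg.Omega F (⇑Q)).pow_mem x₀.2 r
    rcases scalar_cm hx hr hcm hx1 h2 one_ne_zero hcomm (fun v => by rw [hss, one_mul, one_smul]) with h4 | h4
    · have h5 := omega_inv hQ hP hd he hr h2 hi hx hx1 he2 hsΩ hcomm hss (fun v hv => by rw [h4 v hv, one_smul])
      rw [hlin] at h5
      exact hnd2 (hcen r (by rw [hone r h5]; exact Subgroup.one_mem _))
    · obtain ⟨n, hn, hnm⟩ := hneg
      have hnl : ∀ v, lin (n : GL ι F) v = -v := by
        intro v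
        rw [lin, hnm, Matrix.toLin'_apply, Matrix.neg_mulVec, Matrix.one_mulVec]
      have h5 := omega_inv hQ hP hd he hr h2 hi hx hx1 he2 (s := n * X ^ r)
        ((Cfsg.Omega F (⇑Q)).mul_mem hn hsΩ)
        (fun v => by rw [lin_mul_apply, lin_mul_apply, hnl, hnl, hcomm, map_neg])
        (fun v => by rw [lin_mul_apply, lin_mul_apply, hnl, hnl, map_neg, neg_neg, hss])
        (fun v hv => by rw [lin_mul_apply, h4 v hv, hnl, neg_smul, one_smul, neg_neg])
      apply hnd2
      apply hcen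
      rw [LieClassical.OmegaCenter.mem_center_omega_iff Q hD.nd hD.dim hD.iso]
      right
      apply Matrix.toLin'.injective
      refine LinearMap.ext fun v => ?_
      have h6 : lin ((n * X ^ r : Cfsg.isometryGroup F (⇑Q)) : GL ι F) v = v := by rw [h5]; rfl
      rw [lin_mul_apply, hnl] at h6
      rw [hmat]
      change lin ((X ^ r : Cfsg.isometryGroup F (⇑Q)) : GL ι F) v = _
      rw [Matrix.toLin'_apply (-1 : Matrix ι ι F), Matrix.neg_mulVec, Matrix.one_mulVec]
      exact neg_eq_iff_eq_neg.1 h6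
  · have h3 : ∀ v, (lin (X : GL ι F) ^ (2 * r)) v = -v := by
      intro v
      rw [← hlin, lin, ← hmat, h1, Matrix.toLin'_apply, Matrix.neg_mulVec, Matrix.one_mulVec]
    exact no_sq_neg hx hQ hr hcm hx1 h2 hi (s := lin ((X ^ r : Cfsg.isometryGroup F (⇑Q)) : GL ι F))
      (fun v => lin_iso le_rfl (X ^ r).2 v) hcomm (fun v => by rw [hsq, h3])

end mat

/-- **`PΩ⁺₈(q)`, `q ≡ 1 (mod 4)`, has no element of order `2 r`, `ord_r(q) = 6`.** -/
theorem plus_no_two_r {F : Type} [Field F] [Fintype F] (hq : Fintype.card F % 4 = 1) {r : ℕ}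
    (hr : PP (Nat.card F) 6 r) (m : POmega F (quadFormPlus 4 F)) : orderOf m ≠ 2 * r := by
  have hodd : Odd (Fintype.card F) := by rw [Nat.odd_iff]; omega
  have h2 := H390.two_ne_zero_of_odd hodd
  obtain ⟨i, hi⟩ : IsSquare (-1 : F) := by
    rw [FiniteField.isSquare_neg_one_iff]
    omega
  have hneg := (Cfsg.Agent.S0790.result (F := F) rfl hodd 4 (by norm_num)).2 (by
    rw [Nat.pow_mod, hq])
  rw [← coe_quadPlus] at hneg
  have h : ∀ m : POmega F (⇑(quadPlus 4 F)), orderOf m ≠ 2 * r :=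
    no_two_r (nondeg_iff.2 quadPlus_nondegenerate) (data_plus le_rfl) (isPlus_quadPlus 4) (e := 6)
      (by rw [card_plus]) (by decide) (by norm_num) hr h2 hi.symm hneg
  rw [coe_quadPlus] at h
  exact h m

end Cfsg.Agent.H833.PlusTwo
end

-- part: H833/PlusAut
section
/-!
# Automorphisms of order `2 r` of `PSp₆(q)` and `PΩ₇(q)`, `q` odd, `ord_r(q) = 6` (helper833)
-/

set_option autoImplicit false

namespace Cfsg.Agent.H833.PlusTwo

open Module QuadraticMap Cfsg Cfsg.Agent.LieClassical.OrthCore Cfsg.Agent.H955 Cfsg.Agent.H954.TSing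
  Cfsg.Agent.H884.El Cfsg.Agent.LieClassical.OmegaReindex Cfsg.Agent.ClassicalGeometry.Reflection
open Cfsg.Agent.H951 (fx cm Inv)
open Cfsg.Agent.ThreePrime.AutQuot
open scoped MatrixGroups Matrix

/-- an automorphism of order 2 fixing an element of order `r` -/
theorem exists_aut {J : Type*} [Group J] {r : ℕ} (hr : r.Prime) (hr2 : r ≠ 2)
    (hinj : ∀ φ : MulAut J, autQuot J φ = 1 → φ = 1) {φ : MulAut J} (h1 : φ ≠ 1) (h2 : φ ^ 2 = 1)
    {w : J} (hw : w ^ r = 1) (hwc : w ∉ Subgroup.center J) (hφw : φ w = w) :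
    ∃ α : MulAut (J ⧸ Subgroup.center J), orderOf α = 2 * r := by
  have hf2 : Fact (Nat.Prime 2) := ⟨Nat.prime_two⟩
  have hfr : Fact (Nat.Prime r) := ⟨hr⟩
  have ha : orderOf (autQuot J φ) = 2 := by
    refine orderOf_eq_prime ?_ fun h => h1 (hinj φ h)
    rw [← map_pow, h2, map_one]
  have hb : orderOf (autQuot J (MulAut.conj w)) = r := by
    refine orderOf_eq_prime ?_ fun h => hwc ?_
    · rw [← map_pow, ← map_pow, hw, map_one, map_one]
    · have h3 := hinj _ h
      rw [Subgroup.mem_center_iff]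
      intro g
      have h4 := DFunLike.congr_fun h3 g
      rw [MulAut.conj_apply, MulAut.one_apply] at h4
      exact (mul_inv_eq_iff_eq_mul.1 h4).symm
  have hc : φ * MulAut.conj w = MulAut.conj w * φ := by
    ext g
    rw [MulAut.mul_apply, MulAut.mul_apply, MulAut.conj_apply, MulAut.conj_apply, map_mul, map_mul, map_inv, hφw]
  have hcomm : Commute (autQuot J φ) (autQuot J (MulAut.conj w)) := by
    change _ * _ = _ * _
    rw [← map_mul, ← map_mul, hc]
  refine ⟨autQuot J φ * autQuot J (MulAut.conj w), ?_⟩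
  rw [hcomm.orderOf_mul_eq_mul_orderOf_of_coprime, ha, hb]
  rw [ha, hb]
  exact (Nat.coprime_primes Nat.prime_two hr).2 (Ne.symm hr2)

section sp

open Polynomial Cfsg.Agent.ClassicalGeometry.SympBasic Cfsg.Agent.ClassicalGeometry.SympAutSemi
  Cfsg.Agent.ClassicalGeometry.SympAutExists

variable {F : Type*} [Field F] [Fintype F]

/-- an element of `F` is a square in an extension of degree 6 -/
theorem isSquare_six {K : Type*} [Field K] [Fintype K] [Algebra F K] (hodd : Odd (Fintype.card F))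
    (hK : Fintype.card K = Fintype.card F ^ 6) (c : F) (hc : c ≠ 0) : IsSquare (algebraMap F K c) := by
  have hK2 : ringChar K ≠ 2 := by
    intro h
    have h1 := (FiniteField.even_card_iff_char_two (F := K)).1 h
    rw [hK] at h1
    have h2 : Odd (Fintype.card F ^ 6) := hodd.pow
    rw [Nat.odd_iff] at h2
    omega
  have hc' : algebraMap F K c ≠ 0 := by
    intro h
    exact hc ((algebraMap F K).injective (by rw [h, map_zero]))
  rw [FiniteField.isSquare_iff hK2 hc', hK]
  obtain ⟨k, hk⟩ := hodd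
  have h1 : Fintype.card F ^ 6 / 2 = (Fintype.card F - 1) * ((k + 1) * (Fintype.card F ^ 4 + Fintype.card F ^ 2 + 1)) := by
    have h2 : Fintype.card F - 1 = 2 * k := by omega
    have h3 : Fintype.card F ^ 6 = 2 * ((2 * k) * ((k + 1) * (Fintype.card F ^ 4 + Fintype.card F ^ 2 + 1))) + 1 := by
      rw [hk]; ring
    rw [h2]
    omega
  rw [h1, pow_mul, ← map_pow, FiniteField.pow_card_sub_one_eq_one c hc, map_one, one_pow]

/-- **the square root of a nonsquare commuting with an element of order `r`** -/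
theorem exists_zeta {V : Type*} [AddCommGroup V] [Module F V] [FiniteDimensional F V] {x : Module.End F V} {r : ℕ}
    (hodd : Odd (Fintype.card F)) (hr : PP (Nat.card F) 6 r) (hx : x ^ r = 1) (hcm : finrank F (cm x) = 6)
    (hV : cm x = ⊤) {c : F} (hc : c ≠ 0) : ∃ h : F[X], ∀ v, (aeval x h) ((aeval x h) v) = c • v := by
  have hfr := Fact.mk hr.prime
  have hr0 := hr.ne0 (by norm_num)
  have hirr := H938.Sax.Frat.irr_cm hr (by norm_num) hx hcm
  obtain ⟨P, hP, hd, hPW⟩ := hirr.exists_factor (cyclotomic r F) (cyclotomic_ne_zero r F)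
    (fun v hv => H951.cyclotomic_apply_of_mem_cm hx hv)
  have hdeg : P.natDegree = 6 := by
    rw [H951.natDegree_factor hr0 hP hd, ord_eq hr]
  have hPf : Fact (Irreducible P) := ⟨hP⟩
  have hfd : FiniteDimensional F (AdjoinRoot P) := (AdjoinRoot.powerBasis hP.ne_zero).finite
  have hfin : Finite (AdjoinRoot P) := Module.finite_of_finite F
  let _ : Fintype (AdjoinRoot P) := Fintype.ofFinite _
  have hcard : Fintype.card (AdjoinRoot P) = Fintype.card F ^ 6 := by
    rw [Module.card_eq_pow_finrank (K := F), (AdjoinRoot.powerBasis hP.ne_zero).finrank,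
      AdjoinRoot.powerBasis_dim, hdeg]
  obtain ⟨z, hz⟩ := isSquare_six hodd hcard c hc
  obtain ⟨h, rfl⟩ := AdjoinRoot.mk_surjective z
  have h1 : AdjoinRoot.mk P (h * h - C c) = 0 := by
    rw [map_sub, map_mul, ← hz, AdjoinRoot.mk_C, sub_eq_zero]
    rfl
  obtain ⟨t, ht⟩ := AdjoinRoot.mk_eq_zero.1 h1
  refine ⟨h, fun v => ?_⟩
  have h2 : aeval x (h * h - C c) v = 0 := by
    rw [ht, mul_comm, map_mul, Module.End.mul_apply, hPW v (by rw [hV]; trivial), map_zero]
  rw [map_sub, LinearMap.sub_apply, map_mul, Module.End.mul_apply, aeval_C, Module.algebraMap_end_apply,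
    sub_eq_zero] at h2
  exact h2

omit [Fintype F] in
/-- the adjoint of a polynomial in `x` -/
theorem adjoint_aeval {V : Type*} [AddCommGroup V] [Module F V] {x y : Module.End F V} (B : V → V → F)
    (hadd : ∀ u u' v, B (u + u') v = B u v + B u' v) (hadd' : ∀ u v v', B u (v + v') = B u v + B u v')
    (hsm : ∀ (a : F) u v, B (a • u) v = a * B u v) (hsm' : ∀ (a : F) u v, B u (a • v) = a * B u v)
    (hxy : ∀ u v, B (x u) v = B u (y v)) (f : F[X]) (u v : V) : B (aeval x f u) v = B u (aeval y f v) := by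
  have hpow : ∀ n : ℕ, ∀ u v, B ((x ^ n) u) v = B u ((y ^ n) v) := by
    intro n
    induction n with
    | zero => intro u v; rfl
    | succ n ih => 
      intro u v
      rw [pow_succ, pow_succ', Module.End.mul_apply, Module.End.mul_apply, ih, hxy]
  induction f using Polynomial.induction_on' with
  | add p q hp hq => rw [map_add, map_add, LinearMap.add_apply, LinearMap.add_apply, hadd, hadd', hp, hq]
  | monomial n a =>
    rw [aeval_monomial, aeval_monomial, Module.End.mul_apply, Module.End.mul_apply, Module.algebraMap_end_apply,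
      Module.algebraMap_end_apply, hsm, hsm', hpow]

theorem expand_three (f : F[X]) : expand F (Fintype.card F ^ 3) f = f ^ (Fintype.card F ^ 3) := by
  have h : ∀ g : F[X], expand F (Fintype.card F) g = g ^ Fintype.card F := fun g => FiniteField.expand_card g
  have h3 : Fintype.card F ^ 3 = Fintype.card F * (Fintype.card F * Fintype.card F) := by ring
  rw [h3, ← expand_expand, ← expand_expand, h, h, h, pow_mul, pow_mul]

/-- **`PSp₆(q)`** -/
theorem sp_aut (hodd : Odd (Fintype.card F)) {r : ℕ} (hr : PP (Nat.card F) 6 r) :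
    ∃ α : MulAut (PSp 3 F), orderOf α = 2 * r := by
  have hfr := Fact.mk hr.prime
  have hF2 := H390.two_ne_zero_of_odd hodd
  have hr1 := hr.lt (by norm_num)
  have hr0 := hr.ne0 (by norm_num)
  have hq : 1 ≤ Nat.card F := Nat.card_pos
  -- an element of order `r`
  have hdvd : r ∣ Nat.card (Matrix.symplecticGroup (Fin 3) F) := by
    rw [S0245.result (F := F) rfl 3]
    apply Dvd.dvd.mul_left
    refine Dvd.dvd.trans ?_ (Finset.dvd_prod_of_mem _ (Finset.mem_range.2 (show 2 < 3 by norm_num)))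
    have := (hr.dvd_iff hq 6).2 dvd_rfl
    rw [Nat.card_eq_fintype_card] at this
    exact this
  obtain ⟨w, hw⟩ := exists_prime_orderOf_dvd_card' r hdvd
  have hwr : w ^ r = 1 := by rw [← hw, pow_orderOf_eq_one]
  set x : Module.End F (Fin 3 ⊕ Fin 3 → F) := Matrix.toLin' (w : Matrix (Fin 3 ⊕ Fin 3) (Fin 3 ⊕ Fin 3) F) with hxd
  have hxv : ∀ v, x v = rho 3 F w v := fun v => Matrix.toLin'_apply _ _
  have hxpow : ∀ n : ℕ, ∀ v, (x ^ n) v = rho 3 F (w ^ n) v := by
    intro n
    induction n with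
    | zero => intro v; rw [pow_zero, pow_zero, map_one]; rfl
    | succ n ih =>
      intro v
      rw [pow_succ', pow_succ', Module.End.mul_apply, ih, hxv, map_mul, Equiv.Perm.mul_apply]
  have hx : x ^ r = 1 := LinearMap.ext fun v => by rw [hxpow, hwr, map_one]; rfl
  have hx1 : x ≠ 1 := by
    intro h
    have h1 : w = 1 := rho_injective (Equiv.ext fun v => by rw [← hxv, h, map_one]; rfl)
    rw [h1, orderOf_one] at hw
    exact hr.prime.one_lt.ne hw
  have hfinV : finrank F (Fin 3 ⊕ Fin 3 → F) = 6 := by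
    rw [Module.finrank_fintype_fun_eq_card]; rfl
  have hcm : finrank F (cm x) = 6 := by
    have h10 : 6 ∣ finrank F (cm x) := by
      rw [← ord_eq hr]
      exact H951.ord_dvd_finrank hx H951.inv_cm (H951.inf_fx_of_le_cm hr0 hx le_rfl)
    have h11 : finrank F (cm x) ≤ finrank F (Fin 3 ⊕ Fin 3 → F) := Submodule.finrank_le _
    have h12 : finrank F (cm x) ≠ 0 := fun h0 => cm_ne_bot hx1 (Submodule.finrank_eq_zero.1 h0)
    have := Nat.le_of_dvd (Nat.pos_of_ne_zero h12) h10
    omega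
  have hV : cm x = ⊤ := Submodule.eq_top_of_finrank_eq (by rw [hcm, hfinV])
  -- the square root of a nonsquare
  obtain ⟨c, hc⟩ := FiniteField.exists_nonsquare (F := F) (by
    intro h
    have h1 := (FiniteField.even_card_iff_char_two (F := F)).1 h
    rw [Nat.odd_iff] at hodd
    omega)
  have hc0 : c ≠ 0 := by rintro rfl; exact hc IsSquare.zero
  obtain ⟨h, hh⟩ := exists_zeta hodd hr hx hcm hV hc0
  set ζ : Module.End F (Fin 3 ⊕ Fin 3 → F) := aeval x h with hζ
  have hζx : ∀ v, ζ (x v) = x (ζ v) := by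
    intro v
    have h1 : ζ * x = x * ζ := by
      have h2 : aeval x (h * X) = ζ * x := by rw [map_mul, aeval_X]
      have h3 : aeval x (X * h) = x * ζ := by rw [map_mul, aeval_X]
      rw [← h2, ← h3, mul_comm]
    exact congrArg (fun z : Module.End F _ => z v) h1
  -- it is a similitude
  have hx3 : x ^ (Fintype.card F ^ 3 + 1) = 1 := by
    have h1 : r ∣ Fintype.card F ^ 3 + 1 := by
      have h6 : r ∣ (Fintype.card F ^ 3 - 1) * (Fintype.card F ^ 3 + 1) := by
        have h7 := (hr.dvd_iff hq 6).2 dvd_rfl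
        rw [Nat.card_eq_fintype_card] at h7
        have h8 : (Fintype.card F ^ 3 - 1) * (Fintype.card F ^ 3 + 1) = Fintype.card F ^ 6 - 1 := by
          rw [mul_comm, ← Nat.sq_sub_sq, one_pow, ← pow_mul]
        rwa [h8]
      rcases (Nat.Prime.dvd_mul hr.prime).1 h6 with h7 | h7
      · exfalso
        rw [← Nat.card_eq_fintype_card] at h7
        have h8 := (hr.dvd_iff hq 3).1 h7
        exact absurd h8 (by norm_num)
      · exact h7
    obtain ⟨k, hk⟩ := h1
    rw [hk, pow_mul, hx, one_pow]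
  have hxB : ∀ u v, sympForm 3 F (x u) (x v) = sympForm 3 F u v := fun u v => by
    rw [hxv, hxv, sympForm_rho]
  have hadj : ∀ u v, sympForm 3 F (x u) v = sympForm 3 F u ((x ^ (Fintype.card F ^ 3)) v) := by
    intro u v
    rw [← hxB u, ← Module.End.mul_apply, ← pow_succ', hx3]
    rfl
  have hζ3 : aeval (x ^ (Fintype.card F ^ 3)) h = ζ ^ (Fintype.card F ^ 3) := by
    have h1 : aeval x (expand F (Fintype.card F ^ 3) h) = aeval (x ^ (Fintype.card F ^ 3)) h := expand_aeval _ _ _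
    have h2 : aeval x (h ^ (Fintype.card F ^ 3)) = ζ ^ (Fintype.card F ^ 3) := map_pow (aeval x) h _
    rw [← h1, expand_three, h2]
  have hζpow : ∀ n : ℕ, ∀ v, (ζ ^ (2 * n + 1)) v = c ^ n • ζ v := by
    intro n
    induction n with
    | zero => intro v; simp
    | succ n ih =>
      intro v
      rw [show 2 * (n + 1) + 1 = (2 * n + 1) + 2 by ring, pow_add, Module.End.mul_apply, ih, pow_two,
        Module.End.mul_apply, hh, smul_smul, pow_succ]
  have hF2' : ringChar F ≠ 2 := by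
    intro h
    have h1 := (FiniteField.even_card_iff_char_two (F := F)).1 h
    rw [Nat.odd_iff] at hodd
    omega
  obtain ⟨k, hk⟩ := hodd
  have hck : c ^ k = -1 := by
    rcases FiniteField.pow_dichotomy hF2' hc0 with h1 | h1
    · exact absurd ((FiniteField.isSquare_iff hF2' hc0).2 h1) hc
    · rwa [hk, show (2 * k + 1) / 2 = k by omega] at h1
  have hζ4 : ∀ v, (ζ ^ (Fintype.card F ^ 3)) v = -ζ v := by
    intro v
    have h1 : Fintype.card F ^ 3 = 2 * (k * (2 * (2 * k ^ 2 + 3 * k + 1) + 1)) + 1 := by rw [hk]; ring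
    rw [h1, hζpow, pow_mul, hck, Odd.neg_one_pow ⟨2 * k ^ 2 + 3 * k + 1, rfl⟩, neg_smul, one_smul]
  have hsim : ∀ u v, sympForm 3 F (ζ u) (ζ v) = (-c) * sympForm 3 F u v := by
    intro u v
    rw [hζ, adjoint_aeval (sympForm 3 F) (fun u u' v => sympForm_add_left u u' v)
      (fun u v v' => sympForm_add_right u v v') (fun a u v => sympForm_smul_left a u v)
      (fun a u v => sympForm_smul_right a u v) hadj, ← hζ, hζ3, hζ4, hh, sympForm_neg_right, sympForm_smul_right,
      neg_mul]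
  let g₀ : Equiv.Perm (Fin 3 ⊕ Fin 3 → F) :=
    { toFun := ζ
      invFun := fun v => c⁻¹ • ζ v
      left_inv := fun v => by
        dsimp only
        rw [hh, inv_smul_smul₀ hc0]
      right_inv := fun v => by
        dsimp only
        rw [map_smul, hh, inv_smul_smul₀ hc0] }
  have hg₀ : IsSemi g₀ (RingEquiv.refl F) (-c) :=
    ⟨fun u v => map_add ζ u v, fun a v => map_smul ζ a v, hsim⟩
  let g : semiSim 3 F := ⟨g₀, RingEquiv.refl F, -c, neg_ne_zero.2 hc0, hg₀⟩
  have hgv : ∀ v, g.1 v = ζ v := fun v => rfl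
  have hc2 : conjHom 3 F g ^ 2 = 1 := by
    rw [← map_pow]
    ext1 A
    apply rho_injective
    rw [rho_conjHom, MulAut.one_apply, mul_inv_eq_iff_eq_mul]
    ext1 v
    rw [Equiv.Perm.mul_apply, Equiv.Perm.mul_apply, Subgroup.coe_pow, pow_two, Equiv.Perm.mul_apply,
      Equiv.Perm.mul_apply, hgv, hgv, hgv, hgv, hh, hh, rho_apply, rho_apply, Matrix.mulVec_smul]
  have hne : conjHom 3 F g ≠ 1 := by
    intro h1
    obtain ⟨v, hv⟩ := exists_ne (0 : Fin 3 ⊕ Fin 3 → F)
    have h2 := conjHom_transv g (neg_ne_zero.2 hc0) hg₀ v 1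
    rw [h1, MulAut.one_apply] at h2
    obtain ⟨a, ha⟩ := transv_eq_transv hv one_ne_zero h2
    rw [hgv] at ha
    apply hc
    refine ⟨a, ?_⟩
    have h3 := hh v
    rw [ha, map_smul, ha, smul_smul] at h3
    exact (smul_left_injective F hv h3).symm
  have hfix : conjHom 3 F g w = w := by
    apply rho_injective
    rw [rho_conjHom, mul_inv_eq_iff_eq_mul]
    ext1 v
    rw [Equiv.Perm.mul_apply, Equiv.Perm.mul_apply, hgv, hgv, ← hxv, ← hxv, hζx]
  have hwc : w ∉ Subgroup.center (Matrix.symplecticGroup (Fin 3) F) := by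
    intro h1
    obtain ⟨a, ha⟩ := smul_of_mem_center h1
    have ha2 := sq_eq_one_of_center (by norm_num) ha
    have h2 : w ^ 2 = 1 := by
      apply rho_injective
      ext1 v
      rw [← hxpow, pow_two, Module.End.mul_apply, map_one, Equiv.Perm.one_apply]
      have h3 : ∀ u, x u = a • u := fun u => by
        rw [hxv, rho_apply, ← ha u]
        rfl
      rw [h3, h3, smul_smul, ha2, one_smul]
    have h3 := orderOf_dvd_of_pow_eq_one h2
    rw [hw] at h3
    have := Nat.le_of_dvd (by norm_num) h3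
    omega
  exact exists_aut hr.prime (by omega) (fun φ hφ => eq_one_of_autQuot_eq_one
    ⟨Cfsg.Agent.LieClassical.SympPerfect.commutator_eq_top (Or.inl le_rfl)⟩ hφ) hne hc2 hwr hwc hfix

end sp

section orth

universe u

variable {F : Type u} [Field F] [Fintype F] {ι : Type} [Fintype ι] [DecidableEq ι] {Q : QuadraticForm F (ι → F)}
  {r e : ℕ}

omit [Fintype F] in
theorem lin_refl {u v : ι → F} (hu : Q u ≠ 0) :
    lin (reflIso Q u hu : GL ι F) v = v - ((Q u)⁻¹ * polar (⇑Q) u v) • u := by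
  rw [lin, Matrix.toLin'_apply, coe_reflIso]
  exact reflectionMatrix_mulVec Q u v

/-- **odd-dimensional orthogonal groups** -/
theorem orth_aut (hQ : Nondeg Q) (hD : H390.Lift.Data Q) (hd : Fintype.card ι = e + 1) (he : Even e)
    (he2 : 2 < e) (hr : PP (Nat.card F) e r) (h2 : (2 : F) ≠ 0) (hdvd : r ∣ Nat.card (POmega F (⇑Q))) :
    ∃ α : MulAut (POmega F (⇑Q)), orderOf α = 2 * r := by
  have hfr := Fact.mk hr.prime
  have hr1 := hr.lt (by omega)
  have hfin : finrank F (ι → F) = e + 1 := by rw [Module.finrank_fintype_fun_eq_card, hd]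
  -- the centre is trivial
  have hcen : ∀ g : Cfsg.Omega F (⇑Q), g ∈ Subgroup.center (Cfsg.Omega F (⇑Q)) → g = 1 := by
    intro g hg
    rcases (LieClassical.OmegaCenter.mem_center_omega_iff Q hD.nd hD.dim hD.iso g).1 hg with h | h
    · exact LieClassical.OmegaCenter.omega_ext h
    · exact absurd ⟨(g : Cfsg.isometryGroup F (⇑Q)), g.2, h⟩
        (LieClassical.PomegaCard.neg_one_not_mem_omega_of_odd h2 (⇑Q) (by rw [hd]; exact he.add_one))
  obtain ⟨y, hy⟩ := exists_prime_orderOf_dvd_card' r hdvd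
  obtain ⟨x₀, rfl⟩ := QuotientGroup.mk'_surjective (Subgroup.center (Cfsg.Omega F (⇑Q))) y
  obtain ⟨n, h3, h4⟩ := H938.Sax.exists_lift_odd (QuotientGroup.mk' (Subgroup.center (Cfsg.Omega F (⇑Q))))
    (fun y hy => H390.Lift.center_sq hD y ((QuotientGroup.eq_one_iff y).1 hy)) (hr.odd (by omega)) hy
  generalize x₀ ^ n = w at h3 h4
  have hwr : w ^ r = 1 := by rw [← h4, pow_orderOf_eq_one]
  have hw1 : w ≠ 1 := by
    rintro rfl
    rw [orderOf_one] at h4
    exact hr.prime.one_lt.ne h4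
  have hlin : ∀ n : ℕ, lin (((w : Cfsg.isometryGroup F (⇑Q)) ^ n : Cfsg.isometryGroup F (⇑Q)) : GL ι F) =
      lin ((w : Cfsg.isometryGroup F (⇑Q)) : GL ι F) ^ n := by
    intro n
    induction n with
    | zero => rw [pow_zero, pow_zero]; exact lin_one
    | succ n ih =>
      rw [pow_succ, pow_succ, ← ih]
      exact LinearMap.ext fun v => lin_mul_apply _ _ v
  set x := lin ((w : Cfsg.isometryGroup F (⇑Q)) : GL ι F) with hxd
  have hpow : x ^ r = 1 := by
    rw [← hlin, ← Subgroup.coe_pow, hwr]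
    exact lin_one
  have hx : Iso Q x r := Iso.mk' hr (by omega) hpow (fun v => lin_iso le_rfl (w : Cfsg.isometryGroup F (⇑Q)).2 v)
  have hx1 : x ≠ 1 := by
    intro h
    apply hw1
    rw [← lin_one] at h
    exact Subtype.ext (Subtype.ext (lin_injective h))
  obtain ⟨hcm, -⟩ := hx.even_case hQ hx1 hr he (by omega)
  have hU : finrank F (fx x) = 1 := by
    have := hx.finrank_add
    omega
  obtain ⟨u, hu, hu0⟩ := (Submodule.ne_bot_iff _).1 (show fx x ≠ ⊥ by
    intro h0; rw [h0, finrank_bot] at hU; omega)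
  have hperp : ∀ u ∈ fx x, ∀ v ∈ cm x, polar (⇑Q) u v = 0 := by
    intro u hu v hv
    rw [← perp_cm hQ hx.iso hx.ne0 hx.pow] at hu
    rw [polar_comm]
    exact hu v hv
  have hsup : fx x ⊔ cm x = ⊤ := (H951.isCompl_fx_cm hx.ne0 hx.pow).sup_eq_top
  have hspan : ∀ v ∈ fx x, ∃ a : F, v = a • u := by
    intro v hv
    obtain ⟨a, ha⟩ := (finrank_eq_one_iff_of_nonzero' (⟨u, hu⟩ : fx x)
      (fun h => hu0 (congrArg Subtype.val h))).1 hU ⟨v, hv⟩
    exact ⟨a, (congrArg Subtype.val ha).symm⟩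
  have hqu : Q u ≠ 0 := by
    intro h0
    apply hu0
    apply hQ
    intro v
    have hv : v ∈ fx x ⊔ cm x := by rw [hsup]; trivial
    obtain ⟨a, ha, b, hb, rfl⟩ := Submodule.mem_sup.1 hv
    obtain ⟨t, rfl⟩ := hspan a ha
    rw [QuadraticMap.polar_add_right, hperp u hu b hb, QuadraticMap.polar_smul_right,
      ClassicalGeometry.Reflection.polar_self', h0, mul_zero, smul_zero, add_zero]
  have hxu : x u = u := H951.mem_fx.1 hu
  let φ : MulAut (Cfsg.Omega F (⇑Q)) := MulAut.conjNormal (reflIso Q u hqu)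
  have hφ : ∀ g : Cfsg.Omega F (⇑Q), ((φ g : Cfsg.Omega F (⇑Q)) : Cfsg.isometryGroup F (⇑Q)) =
      reflIso Q u hqu * g * (reflIso Q u hqu)⁻¹ := fun g => MulAut.conjNormal_apply _ _
  refine exists_aut hr.prime (by omega) ?_ (φ := φ) ?_ ?_ hwr (fun h => hw1 (hcen w h)) ?_
  · intro ψ hψ
    ext1 g
    have h5 : (QuotientGroup.mk (ψ g) : Cfsg.Omega F (⇑Q) ⧸ Subgroup.center (Cfsg.Omega F (⇑Q))) =
        QuotientGroup.mk g := by
      simp only [← autQuot_mk, hψ]
      rfl
    have h6 := hcen _ (QuotientGroup.eq.1 h5)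
    exact (inv_mul_eq_one.1 h6)
  · intro h5
    have h6 : ∀ g ∈ Cfsg.Omega F (⇑Q), reflIso Q u hqu * g = g * reflIso Q u hqu := by
      intro g hg
      have h7 := congrArg Subtype.val (DFunLike.congr_fun h5 ⟨g, hg⟩)
      rw [hφ] at h7
      exact mul_inv_eq_iff_eq_mul.1 h7
    rcases LieClassical.OmegaCenter.eq_one_or_neg_one_of_commute_omega Q hD.nd hD.dim hD.iso _ h6 with h7 | h7
    · have h8 := lin_refl_self hqu
      rw [lin, h7, Matrix.toLin'_apply, Matrix.one_mulVec] at h8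
      apply hu0
      have h9 : (2 : F) • u = 0 := by
        rw [two_smul]
        nth_rw 2 [h8]
        exact add_neg_cancel u
      exact (smul_eq_zero.1 h9).resolve_left h2
    · obtain ⟨v, hv, hv0⟩ := (Submodule.ne_bot_iff _).1 (cm_ne_bot hx1)
      have h8 := lin_refl_perp hqu (hperp u hu v hv)
      rw [lin, h7, Matrix.toLin'_apply, Matrix.neg_mulVec, Matrix.one_mulVec] at h8
      apply hv0
      have h9 : (2 : F) • v = 0 := by
        rw [two_smul]
        nth_rw 1 [← h8]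
        exact neg_add_cancel v
      exact (smul_eq_zero.1 h9).resolve_left h2
  · change (MulAut.conjNormal (reflIso Q u hqu)) ^ 2 = 1
    rw [← map_pow, pow_two, reflIso_mul_self, map_one]
  · apply Subtype.ext
    rw [hφ, mul_inv_eq_iff_eq_mul]
    apply Subtype.ext
    apply lin_injective
    refine LinearMap.ext fun v => ?_
    rw [lin_mul_apply, lin_mul_apply, lin_refl, lin_refl, map_sub, map_smul, ← hxd, hxu]
    have h8 : polar (⇑Q) u (x v) = polar (⇑Q) u v := by
      conv_lhs => rw [← hxu, hxd, polar_lin]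
    rw [h8]

end orth

end Cfsg.Agent.H833.PlusTwo
end

-- part: H833/PlusNe
section
/-!
# `PΩ⁺₈(q)`, `q ≡ 1 (mod 4)`: no subgroup `Aut(PSp₆(q))` or `Aut(PΩ₇(q))` (helper833)
-/

set_option autoImplicit false

namespace Cfsg.Agent.H833.PlusTwo

open Cfsg Cfsg.Agent.H884.El Cfsg.Agent.LieClassical.OmegaReindex Cfsg.Agent.H955 Cfsg.Agent.H436
  Cfsg.Agent.OrdDiv

universe u

/-- the automorphism group has an element of order `2 r` -/
theorem exists_aut_of_named {S : Type u} [Group S] {q r : ℕ} (hodd : Odd q) (hr : PP q 6 r)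
    (hS : IsNamed (.psp 3 q) S ∨ IsNamed (.oodd 3 q) S) : ∃ α : MulAut S, orderOf α = 2 * r := by
  rcases hS with hS | hS
  · obtain ⟨F, _, _, hF, ⟨e⟩⟩ := hS.real
    obtain ⟨α, hα⟩ := sp_aut (F := F) (by rw [hF]; exact hodd) (r := r) (by
      rw [Nat.card_eq_fintype_card, hF]; exact hr)
    refine ⟨(MulAut.congr e).symm α, ?_⟩
    rw [← hα]
    exact orderOf_injective ((MulAut.congr e).symm : MulAut (PSp 3 F) →* MulAut S) (MulEquiv.injective _) α
  · obtain ⟨F, _, _, hF, ⟨e⟩⟩ := hS.real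
    have hodd' : Odd (Fintype.card F) := by rw [hF]; exact hodd
    have h2 := H390.two_ne_zero_of_odd hodd'
    have hr' : PP (Nat.card F) 6 r := by rw [Nat.card_eq_fintype_card, hF]; exact hr
    have hdvd : r ∣ Nat.card (POmega F (quadFormOdd 3 F)) := by
      have h1 := Cfsg.Agent.S0292.result (F := F) rfl hodd' 3 le_rfl
      have h3 : r ∣ 2 * Nat.card (POmega F (quadFormOdd 3 F)) := by
        rw [h1]
        apply Dvd.dvd.mul_left
        refine Dvd.dvd.trans ?_ (Finset.dvd_prod_of_mem _ (Finset.mem_range.2 (show 2 < 3 by norm_num)))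
        have := (hr'.dvd_iff Nat.card_pos 6).2 dvd_rfl
        rw [Nat.card_eq_fintype_card] at this
        exact this
      have hlt := hr.lt (by norm_num)
      exact (Nat.Coprime.dvd_of_dvd_mul_left ((Nat.coprime_primes hr.prime Nat.prime_two).2 (by omega)) h3)
    have h : ∀ (_ : r ∣ Nat.card (POmega F (⇑(quadOdd 3 F)))), ∃ α : MulAut (POmega F (⇑(quadOdd 3 F))),
        orderOf α = 2 * r := fun hd =>
      orth_aut (nondeg_iff.2 (quadOdd_nondegenerate h2)) (data_odd le_rfl h2) (e := 6) (by rw [card_odd])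
        (by decide) (by norm_num) hr' h2 hd
    rw [coe_quadOdd] at h
    obtain ⟨α, hα⟩ := h hdvd
    refine ⟨(MulAut.congr e).symm α, ?_⟩
    simp only [← hα]
    exact orderOf_injective ((MulAut.congr e).symm : MulAut (POmega F (quadFormOdd 3 F)) →* MulAut S)
      (MulEquiv.injective _) α

/-- **SAX-P8-59**, without the simplicity of `S` -/
theorem card_ne' {T : Type u} [Group T] [Finite T] {q : ℕ} (hT : IsNamed (.oplus 4 q) T) (hq : q % 4 = 1)
    {R : Subgroup T} (S : Subgroup R) [S.Normal]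
    (hC : Subgroup.centralizer (S : Set R) = ⊥) (hS : IsNamed (.psp 3 q) S ∨ IsNamed (.oodd 3 q) S) :
    Nat.card R ≠ Nat.card (MulAut S) := by
  intro hcard
  have hodd : Odd q := by rw [Nat.odd_iff]; omega
  have hq2 : 2 ≤ q := hT.cond.2.one_lt
  obtain ⟨r, hr⟩ := exists_pp hq2 (e := 6) (by norm_num) (by omega)
  obtain ⟨α, hα⟩ := exists_aut_of_named hodd hr hS
  have hinj : Function.Injective (MulAut.conjNormal : R →* MulAut S) := by
    rw [← MonoidHom.ker_eq_bot_iff, eq_bot_iff]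
    intro x hx
    rw [← hC, Subgroup.mem_centralizer_iff]
    intro y hy
    have h1 := DFunLike.congr_fun ((MonoidHom.mem_ker).1 hx) ⟨y, hy⟩
    have h2 := congrArg Subtype.val h1
    rw [MulAut.conjNormal_apply, MulAut.one_apply] at h2
    exact (mul_inv_eq_iff_eq_mul.1 h2).symm
  have hfin : Finite (MulAut S) :=
    Finite.of_injective (fun φ => (φ : S → S)) DFunLike.coe_injective
  have hbij := hinj.bijective_of_nat_card_le hcard.ge
  obtain ⟨g, rfl⟩ := hbij.2 α
  rw [orderOf_injective _ hinj] at hα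
  obtain ⟨F, _, _, hF, ⟨e⟩⟩ := hT.real
  refine plus_no_two_r (F := F) (by rw [hF]; exact hq) (r := r)
    (by rw [Nat.card_eq_fintype_card, hF]; exact hr) (e (g : T)) ?_
  have h1 : orderOf (e (g : T)) = orderOf (g : T) := orderOf_injective e.toMonoidHom e.injective _
  rw [h1, Subgroup.orderOf_coe, hα]

end Cfsg.Agent.H833.PlusTwo
end

private theorem dce_79c36b3a835d : _root_.True := by
  try have : _root_.True := by simp only [_root_.Cfsg.Agent.H938.Sax.N0.eq_1]
  exact _root_.True.intro
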